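import Cfsg.Agent.Lib.S3Conj.Gow.FpfCount

/-!
Eigenspaces of few elements cannot cover.
-/

set_option autoImplicit false

namespace CfsgLib.S3Conj.Gow

open Subgroup

universe u v

variable {H : Type v} [Group H] {q : ℕ} [hq : Fact q.Prime] {V : Type u} [AddCommGroup V]
  [Module (ZMod q) V]

/-- A maximal stabiliser gives a fixed-point-free group on its fixed space. -/
theorem exists_fpf_image [Finite V] [Finite H] [Nontrivial V] (hsolv : Group.IsSolvable H)
    (hs : Smooth (Nat.card H)) (hq5 : 5 < q) (ρ : H →* Module.End (ZMod q) V) (hE : Part ρ)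
    (C : Subgroup H) :
    ∃ (W : Submodule (ZMod q) V) (K : Type u) (_ : Group K) (_ : Finite K)
      (σ : K →* Module.End (ZMod q) W),
      Nontrivial W ∧ Group.IsSolvable K ∧ Smooth (Nat.card K) ∧ Uniq K ∧
      (∀ (k : K) (w : W), w ≠ 0 → σ k w = w → k = 1) ∧ Part σ ∧
      (∀ k : K, ∃ h ∈ C, ∀ x : W, (σ k x : V) = ρ h x) ∧
      (∀ h ∈ C, ∀ (w : W) (c : ZMod q), w ≠ 0 → c ≠ 0 → ρ h w = c • (w : V) →
        ∃ k : K, σ k w = c • w) ∧
      ∀ a : H, (∀ h ∈ C, Commute (ρ h) (ρ a)) → a ∈ stabSub ρ W := by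
  obtain ⟨W, hW0, hfix, hscale, hpart, hcomm⟩ := exists_max_fixed ρ C
  have hWn : Nontrivial W := Submodule.nontrivial_iff_ne_bot.mpr hW0
  let φ : ↥(C ⊓ stabSub ρ W) →* Module.End (ZMod q) W :=
    (restr ρ W).comp (Subgroup.inclusion inf_le_right)
  have hφ : ∀ (g : ↥(C ⊓ stabSub ρ W)) (x : W), (φ g x : V) = ρ (g : H) x := fun g x => rfl
  have hfin : Finite (img φ) := finite_img φ
  have hK : ¬ q ∣ Nat.card (img φ) := by
    intro hd
    have h1 := (hd.trans (Subgroup.card_dvd_of_surjective _ (toImg_surjective φ))).trans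
      (Subgroup.card_subgroup_dvd_card _)
    have := hs q hq.out h1
    omega
  have hfp : ∀ (k : img φ) (w : W), w ≠ 0 → imgRep φ k w = w → k = 1 := by
    intro k w hw h
    obtain ⟨g, rfl⟩ := toImg_surjective φ k
    refine imgRep_injective φ (LinearMap.ext fun x => Subtype.ext ?_)
    rw [imgRep_toImg, hφ, map_one, Module.End.one_apply]
    refine hfix g g.2.1 w w.2 (fun h0 => hw (Subtype.ext h0)) ?_ x x.2
    rw [imgRep_toImg] at h
    exact (hφ g w).symm.trans (congrArg Subtype.val h)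
  refine ⟨W, img φ, inferInstance, hfin, imgRep φ, hWn, ?_, ?_,
    uniq_of_fpf (imgRep φ) hK hfp, hfp, ?_, ?_, ?_, hcomm⟩
  · exact isSolvable_img φ (inferInstance : Group.IsSolvable ↥(C ⊓ stabSub ρ W))
  · exact smooth_img φ fun p hp hpd => hs p hp (hpd.trans (Subgroup.card_subgroup_dvd_card _))
  · intro w hw
    have hw' : (w : V) ≠ 0 := fun h => hw (Subtype.ext h)
    obtain ⟨u', hu', hp⟩ := hE (w : V) hw'
    refine ⟨⟨u', hpart w w.2 hw' u' hp⟩, fun h => hu' (congrArg Subtype.val h), fun k c hk => ?_⟩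
    obtain ⟨g, rfl⟩ := toImg_surjective φ k
    refine Subtype.ext (hp g c ?_)
    rw [imgRep_toImg] at hk
    exact (hφ g w).symm.trans ((congrArg Subtype.val hk).trans (Submodule.coe_smul c w))
  · intro k
    obtain ⟨g, rfl⟩ := toImg_surjective φ k
    exact ⟨g, g.2.1, fun x => hφ g x⟩
  · intro h hh w c hw hc hhw
    have hst := hscale h hh w w.2 (fun h0 => hw (Subtype.ext h0)) c hc hhw
    refine ⟨toImg φ ⟨h, hh, hst⟩, Subtype.ext ?_⟩
    rw [imgRep_toImg, hφ, Submodule.coe_smul]
    exact hhw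

/-- An element with an eigenvector of a given eigenvalue order. -/
theorem orderOf_eq_of_eig {K : Type*} [Group K] (σ : K →* Module.End (ZMod q) V)
    (hfp : ∀ (k : K) (w : V), w ≠ 0 → σ k w = w → k = 1) {k : K} {w : V} {c : ZMod q} (hw : w ≠ 0)
    (h : σ k w = c • w) : orderOf k = orderOf c := by
  refine Nat.dvd_antisymm (orderOf_dvd_of_pow_eq_one (hfp _ w hw ?_))
    (orderOf_dvd_of_pow_eq_one (smul_left_cancel' hw ?_))
  · rw [rho_pow_smul σ h, pow_orderOf_eq_one, one_smul]
  · rw [← rho_pow_smul σ h, pow_orderOf_eq_one, rho_one, one_smul]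

theorem card_mul_le_of_ne_top [Finite V] {U : Submodule (ZMod q) V} (hU : U ≠ ⊤) :
    Nat.card U * q ≤ Nat.card V := by
  rw [Module.natCard_eq_pow_finrank (K := ZMod q), Module.natCard_eq_pow_finrank (K := ZMod q) (V := V),
    Nat.card_eq_fintype_card (α := ZMod q), ZMod.card, ← pow_succ]
  exact Nat.pow_le_pow_right hq.out.pos (Submodule.finrank_lt hU)

/-- The eigenspaces are proper. -/
theorem eig_ne_top [Nontrivial V] {σ : H →* Module.End (ZMod q) V} (hE : Part σ) (k : H)
    {c : ZMod q} (hc : c * c ≠ 1) : eig σ k c ≠ ⊤ := by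
  intro h
  obtain ⟨u, hu⟩ := exists_ne (0 : V)
  exact hc (hE.scalar_sq hu fun v => mem_eig.mp (h ▸ Submodule.mem_top))

/-- For `q ≥ 11` not every line is scaled. -/
theorem not_scal_large [Finite V] [Finite H] [Nontrivial V] (hsolv : Group.IsSolvable H)
    (hs : Smooth (Nat.card H)) (hq11 : 11 ≤ q) (ρ : H →* Module.End (ZMod q) V) (hS : Scal ρ)
    (hE : Part ρ) : False := by
  classical
  obtain ⟨W, K, _, _, σ, hWn, hKs, hKsm, hKU, hfp, hKE, -, hscale, -⟩ :=
    exists_fpf_image hsolv hs (by omega) ρ hE ⊤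
  have key : ∀ c : ZMod q, c ≠ 0 → ∀ w : W, w ≠ 0 → ∃ k : K, σ k w = c • w ∧ orderOf k = orderOf c := by
    intro c hc w hw
    obtain ⟨h, hh⟩ := hS (w : V) (fun h0 => hw (Subtype.ext h0)) c hc
    obtain ⟨k, hk⟩ := hscale h (mem_top h) w c hw hc hh
    exact ⟨k, hk, orderOf_eq_of_eig σ hfp hw hk⟩
  have hex : ∀ n : ℕ, n ∣ q - 1 → 0 < n → ∃ c : ZMod q, c ≠ 0 ∧ orderOf c = n := by
    intro n hn hn0
    obtain ⟨g, hg⟩ := IsCyclic.exists_generator (α := (ZMod q)ˣ)
    obtain ⟨m, hm⟩ := hn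
    have hgo : orderOf g = n * m := by
      rw [orderOf_eq_card_of_forall_mem_zpowers hg, Nat.card_eq_fintype_card, ZMod.card_units, hm]
    refine ⟨((g ^ m : (ZMod q)ˣ) : ZMod q), Units.ne_zero _, ?_⟩
    have hm0 : m ≠ 0 := fun h => (orderOf_pos g).ne' (by rw [hgo, h, mul_zero])
    rw [orderOf_units, orderOf_pow' _ hm0, hgo, Nat.gcd_eq_right (dvd_mul_left _ _),
      Nat.mul_div_cancel _ (Nat.pos_of_ne_zero hm0)]
  have hsq : ∀ c : ZMod q, 3 ≤ orderOf c → c * c ≠ 1 := fun c hc h => by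
    have := Nat.le_of_dvd two_pos (orderOf_dvd_of_pow_eq_one ((pow_two c).trans h))
    omega
  have finish : ∀ (c : ZMod q), 3 ≤ orderOf c → ∀ (S : Finset K), S.card ≤ q →
      (∀ w : W, w ≠ 0 → ∃ k ∈ S, σ k w = c • w) → False := fun c hc S hcard hcov =>
    cover_false (V := W) S (fun k => eig σ k c) q (by omega) hcard
      (fun k _ => card_mul_le_of_ne_top (eig_ne_top hKE k (hsq c hc)))
      (fun w hw => (hcov w hw).imp fun k hk => ⟨hk.1, mem_eig.mpr hk.2⟩)
  by_cases h5 : 5 ∣ q - 1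
  · obtain ⟨c, hc, hco⟩ := hex 5 h5 (by norm_num)
    obtain ⟨S, hS4, hS5⟩ := exists_five hKs hKsm hKU
    refine finish c (by omega) S (by omega) fun w hw => ?_
    obtain ⟨k, hk, hko⟩ := key c hc w hw
    exact ⟨k, hS5 k (hko.trans hco), hk⟩
  by_cases h3 : 3 ∣ q - 1
  · obtain ⟨c, hc, hco⟩ := hex 3 h3 (by norm_num)
    obtain ⟨S, hS8, hS3⟩ := exists_three hKs hKsm hKU
    refine finish c (by omega) S (by omega) fun w hw => ?_
    obtain ⟨k, hk, hko⟩ := key c hc w hw
    exact ⟨k, hS3 k (hko.trans hco), hk⟩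
  -- `q - 1` is a power of two
  obtain ⟨c0, hc0, hc0o⟩ := hex (q - 1) dvd_rfl (by omega)
  obtain ⟨w0, hw0⟩ := exists_ne (0 : W)
  obtain ⟨k0, -, hk0⟩ := key c0 hc0 w0 hw0
  obtain ⟨a, ha⟩ : ∃ a, q - 1 = 2 ^ a := by
    refine ⟨(q - 1).primeFactorsList.length, Nat.eq_prime_pow_of_unique_prime_dvd (by omega)
      fun {p} hp hpd => ?_⟩
    have hle := hKsm p hp (hpd.trans (by rw [← hc0o, ← hk0]; exact orderOf_dvd_natCard k0))
    have := hp.two_le
    interval_cases p
    · rfl
    · exact absurd hpd h3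
    · exact absurd hp (by decide)
    · exact absurd hpd h5
  have ha4 : 4 ≤ a := by
    by_contra hlt
    have := Nat.pow_le_pow_right two_pos (show a ≤ 3 by omega)
    omega
  obtain ⟨S, hScard, hS2⟩ := exists_two hKs hKsm hKU ha4
  have hq2 : 2 ^ (a - 2) ≤ q := le_trans (Nat.pow_le_pow_right two_pos (Nat.sub_le a 2)) (by omega)
  refine finish (c0 ^ 4) ?_ S (hScard.trans hq2) fun w hw => ?_
  · rw [orderOf_pow' _ (by norm_num), hc0o, ha, Nat.gcd_eq_right (show 4 ∣ 2 ^ a from (pow_dvd_pow 2 (by omega) : 2 ^ 2 ∣ 2 ^ a)),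
      show (4 : ℕ) = 2 ^ 2 from rfl, Nat.pow_div (by omega) two_pos]
    exact le_trans (by norm_num) (Nat.pow_le_pow_right two_pos (show 2 ≤ a - 2 by omega))
  obtain ⟨k, hk, hko⟩ := key c0 hc0 w hw
  exact ⟨k ^ 4, hS2 k (hko.trans (hc0o.trans ha)), rho_pow_smul σ hk 4⟩

end CfsgLib.S3Conj.Gow

namespace CfsgLib.S3Conj.Gow

open Subgroup Polynomial

universe u v

theorem fact_prime_seven : Fact (Nat.Prime 7) := ⟨by norm_num⟩

attribute [local instance] fact_prime_seven

variable {H : Type v} [Group H] {V : Type u} [AddCommGroup V]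
  [Module (ZMod 7) V]

/-- An element without eigenvalues commuting with enough scalers is impossible. -/
theorem no_irrational_central [Finite V] [Finite H] [Nontrivial V] (hsolv : Group.IsSolvable H)
    (hs : Smooth (Nat.card H)) (ρ : H →* Module.End (ZMod 7) V) (hS : Scal ρ) (hE : Part ρ)
    {a : H} (P : (ZMod 7)[X]) (hP : aeval (ρ a) P = 0) (hroot : ∀ μ : ZMod 7, P.eval μ ≠ 0)
    {m : ℕ} (hm : m = 2 ∨ m = 4) (hcomm : ∀ h : H, Commute (ρ (h ^ m)) (ρ a)) : False := by
  classical
  let Cs : Subgroup H :=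
    { carrier := {h | Commute (ρ h) (ρ a)}
      one_mem' := by
        show Commute (ρ 1) (ρ a)
        rw [map_one]; exact Commute.one_left _
      mul_mem' := fun {g h} (hg : Commute (ρ g) (ρ a)) (hh : Commute (ρ h) (ρ a)) => by
        show Commute (ρ (g * h)) (ρ a)
        rw [map_mul]; exact hg.mul_left hh
      inv_mem' := fun {g} (hg : Commute (ρ g) (ρ a)) => by
        show Commute (ρ g⁻¹) (ρ a)
        refine LinearMap.ext fun v => rho_injective ρ g ?_
        have := LinearMap.congr_fun hg.eq (ρ g⁻¹ v)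
        simp only [Module.End.mul_apply] at this ⊢
        rw [rho_self_inv ρ g (ρ a v), this, rho_self_inv] }
  obtain ⟨W, K, _, _, σ, hWn, hKs, hKsm, hKU, hfp, hKE, hsurj, hscale, hinv⟩ :=
    exists_fpf_image hsolv hs (by norm_num) ρ hE Cs
  have haW : ∀ x ∈ W, ρ a x ∈ W := fun x hx => stabSub_mem_maps (hinv a fun h hh => hh) hx
  set A : Module.End (ZMod 7) W := (ρ a).restrict haW with hA
  have hAP : ∀ (f : (ZMod 7)[X]) (x : W), ((aeval A f) x : V) = (aeval (ρ a) f) x := by
    intro f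
    induction f using Polynomial.induction_on' with
    | add f g hf hg => intro x; simp [hf, hg]
    | monomial n c =>
      have hpw : ∀ (n : ℕ) (x : W), ((A ^ n) x : V) = (ρ a ^ n) x := by
        intro n
        induction n with
        | zero => intro x; rfl
        | succ n ih => intro x; rw [pow_succ', pow_succ', Module.End.mul_apply, Module.End.mul_apply,
            hA, LinearMap.coe_restrict_apply, ← hA, ih]
      intro x
      simp [aeval_monomial, hpw]
  have hθ : ∀ c : ZMod 7, c = 3 ^ m → c ≠ 0 ∧ orderOf c = 3 ∧ c * c ≠ 1 := by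
    have : Fact (Nat.Prime 3) := ⟨Nat.prime_three⟩
    rintro c rfl
    rcases hm with rfl | rfl <;>
      exact ⟨by decide, orderOf_eq_prime (by decide) (by decide), by decide⟩
  obtain ⟨hθ0, hθo, hθ2⟩ := hθ (3 ^ m) rfl
  obtain ⟨S, hS8, hS3⟩ := exists_three hKs hKsm hKU
  have hcodim : ∀ k : K, Nat.card (eig σ k (3 ^ m : ZMod 7)) * 49 ≤ Nat.card W := by
    intro k
    set U := eig σ k (3 ^ m : ZMod 7) with hU
    have hne : U ≠ ⊤ := eig_ne_top hKE k hθ2
    have hUA : ∀ x ∈ U, A x ∈ U := by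
      intro x hx
      obtain ⟨h, hh, hσ⟩ := hsurj k
      have hc : σ k * A = A * σ k := by
        refine LinearMap.ext fun y => Subtype.ext ?_
        rw [Module.End.mul_apply, Module.End.mul_apply, hσ, hA, LinearMap.coe_restrict_apply,
          LinearMap.coe_restrict_apply, hσ]
        exact LinearMap.congr_fun (hh : Commute (ρ h) (ρ a)).eq y
      rw [hU, mem_eig] at hx ⊢
      rw [← Module.End.mul_apply, hc, Module.End.mul_apply, hx, map_smul]
    have h2 : Module.finrank (ZMod 7) U + 2 ≤ Module.finrank (ZMod 7) W := by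
      by_contra hlt
      have hfl := Submodule.finrank_lt hne
      have hfr : Module.finrank (ZMod 7) U + 1 = Module.finrank (ZMod 7) W := by omega
      obtain ⟨w, -, hw⟩ := SetLike.exists_of_lt (lt_top_iff_ne_top.mpr hne)
      have hsup : U ⊔ Submodule.span (ZMod 7) {w} = ⊤ := by
        refine Submodule.eq_top_of_finrank_eq (le_antisymm (Submodule.finrank_le _) ?_)
        rw [← hfr]
        refine Submodule.finrank_lt_finrank_of_lt (lt_of_le_of_ne le_sup_left fun h => hw ?_)
        rw [h]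
        exact Submodule.mem_sup_right (Submodule.mem_span_singleton_self w)
      obtain ⟨u, hu, y, hy, hyw⟩ := Submodule.mem_sup.mp (hsup ▸ Submodule.mem_top : A w ∈ _)
      obtain ⟨μ, rfl⟩ := Submodule.mem_span_singleton.mp hy
      have hall : ∀ f : (ZMod 7)[X], aeval A f w - f.eval μ • w ∈ U := by
        intro f
        induction f using Polynomial.induction_on with
        | C c => simp
        | add f g hf hg =>
          have e := U.add_mem hf hg
          rw [map_add, eval_add, add_smul, LinearMap.add_apply]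
          convert e using 1
          abel
        | monomial n c ih =>
          have e : C c * X ^ (n + 1) = (C c * X ^ n) * X := by rw [pow_succ]; ring
          set f := C c * X ^ n
          rw [e, mul_comm, map_mul, aeval_X, eval_mul, eval_X, Module.End.mul_apply]
          have h1 : A (aeval A f w) - A (f.eval μ • w) ∈ U := by rw [← map_sub]; exact hUA _ ih
          have h2 : A (f.eval μ • w) - (μ * f.eval μ) • w ∈ U := by
            rw [map_smul, mul_comm, mul_smul, ← smul_sub, ← hyw, add_sub_cancel_right]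
            exact U.smul_mem _ hu
          have := U.add_mem h1 h2
          rwa [sub_add_sub_cancel] at this
      have h0 := hall P
      rw [show aeval A P w = 0 from Subtype.ext (by rw [hAP, hP]; rfl), zero_sub, neg_mem_iff] at h0
      refine hw ?_
      have := U.smul_mem (P.eval μ)⁻¹ h0
      rwa [inv_smul_smul₀ (hroot μ)] at this
    rw [Module.natCard_eq_pow_finrank (K := ZMod 7), Module.natCard_eq_pow_finrank (K := ZMod 7) (V := W),
      Nat.card_eq_fintype_card (α := ZMod 7), ZMod.card, show (49 : ℕ) = 7 ^ 2 from rfl, ← pow_add]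
    exact Nat.pow_le_pow_right (by norm_num) h2
  refine cover_false (V := W) S (fun k => eig σ k (3 ^ m : ZMod 7)) 49 (by norm_num) (by omega)
    (fun k _ => hcodim k) fun w hw => ?_
  obtain ⟨h, hh⟩ := hS (w : V) (fun h0 => hw (Subtype.ext h0)) 3 (by decide)
  obtain ⟨k, hk⟩ := hscale (h ^ m) (hcomm h) w _ hw hθ0 (rho_pow_smul ρ hh m)
  exact ⟨k, hS3 k ((orderOf_eq_of_eig σ hfp hw hk).trans hθo), mem_eig.mpr hk⟩

end CfsgLib.S3Conj.Gow
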