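import Cfsg.Agent.Lib.S3Conj.Gow.Planes

/-!
A rational group cannot act on planes with all scalers and partners.
-/

set_option autoImplicit false

namespace CfsgLib.S3Conj.Gow

open Subgroup Matrix

universe u v

attribute [local instance] fact_prime_seven

variable {H : Type v} [Group H] {V : Type u} [AddCommGroup V] [Module (ZMod 7) V]

/-- A vector with independent partner spans a plane. -/
theorem plane_basis [Finite V] (hD : Module.finrank (ZMod 7) V = 2) {σ : H →* Module.End (ZMod 7) V}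
    {x y : V} {c d : ZMod 7} (hx : x ≠ 0) (hy : y ≠ 0) {g : H} (h1 : σ g x = c • x)
    (h2 : σ g y = d • y) (hcd : c ≠ d) : ∀ v, ∃ α β : ZMod 7, v = α • x + β • y := by
  have hli : LinearIndependent (ZMod 7) ![x, y] := by
    refine LinearIndependent.pair_iff.mpr fun s t hst => ?_
    have e := congrArg (σ g) hst
    rw [map_add, map_smul, map_smul, h1, h2, map_zero, smul_smul, smul_smul] at e
    have hs : (s * (c - d)) • x = 0 := by
      calc (s * (c - d)) • x = ((s * c) • x + (t * d) • y) - d • (s • x + t • y) := by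
            match_scalars <;> ring
        _ = 0 := by rw [e, hst, smul_zero, sub_zero]
    have hs0 : s = 0 := by
      rcases mul_eq_zero.mp ((smul_eq_zero.mp hs).resolve_right hx) with h | h
      · exact h
      · exact absurd (sub_eq_zero.mp h) hcd
    rw [hs0, zero_smul, zero_add] at hst
    exact ⟨hs0, (smul_eq_zero.mp hst).resolve_right hy⟩
  have htop : Submodule.span (ZMod 7) (Set.range ![x, y]) = ⊤ :=
    Submodule.eq_top_of_finrank_eq (by rw [finrank_span_eq_card hli, hD, Fintype.card_fin])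
  intro v
  obtain ⟨a, ha⟩ := (Submodule.mem_span_range_iff_exists_fun (ZMod 7)).mp
    (htop ▸ Submodule.mem_top : v ∈ Submodule.span (ZMod 7) (Set.range ![x, y]))
  exact ⟨a 0, a 1, by rw [← ha, Fin.sum_univ_two]; rfl⟩

/-- On a plane only the identity fixes a vector. -/
theorem plane_fpf [Finite V] (hD : Module.finrank (ZMod 7) V = 2) (σ : H →* Module.End (ZMod 7) V)
    (hS : Scal σ) (hE : Part σ) {k : H} {x : V} (hx : x ≠ 0) (hk : σ k x = x) : σ k = 1 := by
  obtain ⟨y, hy, hp⟩ := hE x hx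
  obtain ⟨g, hg⟩ := hS x hx 3 (by decide)
  have hgy : σ g y = (5 : ZMod 7) • y := by
    rw [partner_eq (by decide) (hp g 3 hg), show (3 : ZMod 7)⁻¹ = 5 from
      inv_eq_of_mul_eq_one_right (by decide)]
  have hky : σ k y = y := by
    have := hp k 1 (hk.trans (one_smul _ x).symm)
    rwa [one_smul] at this
  refine LinearMap.ext fun v => ?_
  obtain ⟨α, β, rfl⟩ := plane_basis hD hx hy hg hgy (by decide) v
  rw [map_add, map_smul, map_smul, hk, hky]
  rfl

theorem plane_eq [Finite V] (hD : Module.finrank (ZMod 7) V = 2) {σ : H →* Module.End (ZMod 7) V}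
    (hS : Scal σ) (hE : Part σ) {g k : H} {x : V} (hx : x ≠ 0) (h : σ g x = σ k x) : σ g = σ k := by
  have := plane_fpf hD σ hS hE hx (k := k⁻¹ * g) (by rw [rho_mul, h, rho_inv_self])
  calc σ g = σ k * σ (k⁻¹ * g) := by rw [← map_mul, mul_inv_cancel_left]
    _ = σ k := by rw [this, mul_one]

/-- An element of order three has an eigenvector for a primitive cube root of one. -/
theorem exists_eig_three [Nontrivial V] {σ : H →* Module.End (ZMod 7) V} {z : H}
    (hfp : ∀ x : V, x ≠ 0 → σ z x = x → False) (hz : σ z ^ 3 = 1) :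
    ∃ (x : V) (c : ZMod 7), x ≠ 0 ∧ (c = 2 ∨ c = 4) ∧ σ z x = c • x := by
  obtain ⟨u, hu⟩ := exists_ne (0 : V)
  have hh : σ z (σ z (σ z u)) = u := by
    rw [← Module.End.mul_apply, ← Module.End.mul_apply, mul_assoc, ← pow_three, hz, Module.End.one_apply]
  by_cases h2 : σ z u = (2 : ZMod 7) • u
  · exact ⟨u, 2, hu, Or.inl rfl, h2⟩
  refine ⟨σ z u - (2 : ZMod 7) • u, 4, sub_ne_zero.mpr h2, Or.inr rfl, ?_⟩
  have h0 : σ z (σ z u) + σ z u + u = 0 := by
    by_contra hne
    refine hfp _ hne ?_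
    rw [map_add, map_add, hh]
    abel
  rw [map_sub, map_smul, eq_neg_of_add_eq_zero_left (show σ z (σ z u) + (σ z u + u) = 0 by
    rw [← add_assoc, h0])]
  match_scalars <;> decide

/-- The matrix computation. -/
theorem matrix_facts : ∀ p r : ZMod 7,
    (p * p + (2 - p) * r + p + 1 = 0 ∧ r * (p + (2 - r) + 1) = 0 ∧
      (2 - p) * (p + (2 - r) + 1) = 0 ∧ (2 - r) * (2 - r) + (2 - p) * r + (2 - r) + 1 = 0 ∧
      ¬ (p = 2 ∧ r = 0)) →
    (∀ a b c d : ZMod 7, (a, b, c, d) = (2 * p, 2 * (2 - p), 4 * r, 4 * (2 - r)) ∨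
        (a, b, c, d) = (-r, -(2 - r), p, 2 - p) ∨
        (a, b, c, d) = (-(4 * r), -(4 * (2 - r)), 2 * p, 2 * (2 - p)) →
      a + d = 0 ∨ a + d = 1 ∨ a + d = -1 ∨ (b = 0 ∧ c = 0 ∧ a = d ∧ (a = 1 ∨ a = -1))) → False := by
  intro p r h1 h2
  have key : ∀ p r : ZMod 7,
      (p * p + (2 - p) * r + p + 1 = 0 ∧ r * (p + (2 - r) + 1) = 0 ∧
      (2 - p) * (p + (2 - r) + 1) = 0 ∧ (2 - r) * (2 - r) + (2 - p) * r + (2 - r) + 1 = 0 ∧
      ¬ (p = 2 ∧ r = 0)) →
      ¬ ((2 * p + 4 * (2 - r) = 0 ∨ 2 * p + 4 * (2 - r) = 1 ∨ 2 * p + 4 * (2 - r) = -1 ∨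
          (2 * (2 - p) = 0 ∧ 4 * r = 0 ∧ 2 * p = 4 * (2 - r) ∧ (2 * p = 1 ∨ 2 * p = -1))) ∧
        (-r + (2 - p) = 0 ∨ -r + (2 - p) = 1 ∨ -r + (2 - p) = -1 ∨
          (-(2 - r) = 0 ∧ p = 0 ∧ -r = 2 - p ∧ (-r = 1 ∨ -r = -1))) ∧
        (-(4 * r) + 2 * (2 - p) = 0 ∨ -(4 * r) + 2 * (2 - p) = 1 ∨ -(4 * r) + 2 * (2 - p) = -1 ∨
          (-(4 * (2 - r)) = 0 ∧ 2 * p = 0 ∧ -(4 * r) = 2 * (2 - p) ∧ (-(4 * r) = 1 ∨ -(4 * r) = -1)))) := by
    decide +kernel
  exact key p r h1 ⟨h2 _ _ _ _ (Or.inl rfl), h2 _ _ _ _ (Or.inr (Or.inl rfl)),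
    h2 _ _ _ _ (Or.inr (Or.inr rfl))⟩

section Sum

variable [Finite V] {ρ : H →* Module.End (ZMod 7) V} {s : Finset (Submodule (ZMod 7) V)}

theorem eq_zero_of_sum_eq_zero (hs : IsSys ρ s) {ι : Type*} [Fintype ι] (B : ι → Submodule (ZMod 7) V)
    (hB : ∀ i, B i ∈ s) (hBinj : Function.Injective B) (x : ι → V) (hx : ∀ i, x i ∈ B i)
    (h : ∑ i, x i = 0) : ∀ i, x i = 0 := by
  classical
  intro i
  refine hs.eq_zero_of_mem (hB i) (hx i) ?_
  rw [← Finset.add_sum_erase _ _ (Finset.mem_univ i)] at h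
  rw [eq_neg_of_add_eq_zero_left h]
  refine Submodule.neg_mem _ (Submodule.sum_mem _ fun j hj => ?_)
  exact (Finset.le_sup (f := id) (Finset.mem_erase.mpr
    ⟨fun e => (Finset.mem_erase.mp hj).1 (hBinj e), hB j⟩)) (hx j)

end Sum

/-- A transfer to a group of exponent three vanishes on a rational group. -/
theorem rational_hom_trivial [Finite H] (hR : Rational H) {A : Type*} [CommGroup A]
    (hA : ∀ a : A, a ^ 3 = 1) (f : H →* A) (g : H) : f g = 1 := by
  have hk : (orderOf g - 1).Coprime (orderOf g) := by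
    have := orderOf_pos g
    rw [Nat.coprime_comm]
    exact (Nat.coprime_self_sub_right (by omega)).mpr (Nat.coprime_one_right _)
  obtain ⟨c, hc⟩ := hR.exists_conj g hk
  have hinv : c * g * c⁻¹ = g⁻¹ := by
    rw [hc]
    refine eq_inv_of_mul_eq_one_left ?_
    rw [← pow_succ, Nat.sub_add_cancel (orderOf_pos g), pow_orderOf_eq_one]
  have h := congrArg f hinv
  rw [map_mul, map_mul, map_inv, map_inv, mul_comm (f c), mul_inv_cancel_right] at h
  calc f g = f g * (f g * f g⁻¹) := by rw [← map_mul f g g⁻¹, mul_inv_cancel, map_one, mul_one]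
    _ = f g ^ 3 := by rw [map_inv, ← h, pow_three]
    _ = 1 := hA _

/-- The fixed space of the kernel on a block is the block. -/
theorem fix_kernel [Finite V] {ρ : H →* Module.End (ZMod 7) V}
    {s : Finset (Submodule (ZMod 7) V)} (hs : IsSys ρ s) (hS : Scal ρ) (hE : Part ρ)
    (hs2 : ∀ b ∈ s, Module.finrank (ZMod 7) b = 2) {b : Submodule (ZMod 7) V} (hb : b ∈ s) {v : V}
    (hv : ∀ l : H, (∀ x ∈ b, ρ l x = x) → ρ l v = v) : v ∈ b := by
  classical
  have main : ∀ t : Finset (Submodule (ZMod 7) V), t ⊆ s → v ∈ t.sup id → v ∈ b := by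
    intro t
    induction t using Finset.strongInduction with
    | H t ih =>
    intro hts hvt
    by_cases hc : ∃ c ∈ t, c ≠ b
    swap
    · push Not at hc
      exact (Finset.sup_le (f := id) fun c hct => (hc c hct).le : t.sup id ≤ b) hvt
    obtain ⟨c, hct, hcb⟩ := hc
    have hcs := hts hct
    have hv' : v ∈ c ⊔ (t.erase c).sup id := by
      rw [← Finset.insert_erase hct, Finset.sup_insert] at hvt
      exact hvt
    obtain ⟨y, hy, r, hr, hyr⟩ := Submodule.mem_sup.mp hv'
    rcases eq_or_ne y 0 with rfl | hy0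
    · rw [zero_add] at hyr
      exact ih _ (Finset.erase_ssubset hct) ((Finset.erase_subset _ _).trans hts) (hyr ▸ hr)
    exfalso
    obtain ⟨u, hu, hu0⟩ := b.exists_mem_ne_zero_of_ne_bot (hs.ne_bot b hb)
    obtain ⟨w, hw0, hp⟩ := hE y hy0
    have hw : w ∈ c := hs.partner_mem hS hcs hy hy0 hp
    have hsum : ∀ z ∈ c, z ≠ 0 → u + z ≠ 0 := fun z hz _ e => hu0 (hs.eq_zero_of_mem hb hu (by
      rw [eq_neg_of_add_eq_zero_left e]
      exact Submodule.neg_mem _ ((Finset.le_sup (f := id) (Finset.mem_erase.mpr ⟨hcb, hcs⟩)) hz)))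
    obtain ⟨g1, hg1⟩ := hS _ (hsum y hy hy0) 3 (by decide)
    obtain ⟨g2, hg2⟩ := hS _ (hsum w hw hw0) 3 (by decide)
    obtain ⟨a1, a2, hb1, hc1⟩ := hs.block_sq hb hcs (Ne.symm hcb) hu hu0 hy hy0 hg1
    obtain ⟨b1, b2, hb2, hc2⟩ := hs.block_sq hb hcs (Ne.symm hcb) hu hu0 hw hw0 hg2
    have hlb : (g1 ^ 2)⁻¹ * g2 ^ 2 ∈ stabSub ρ b := (stabSub ρ b).mul_mem ((stabSub ρ b).inv_mem hb1) hb2
    have hlc : (g1 ^ 2)⁻¹ * g2 ^ 2 ∈ stabSub ρ c := (stabSub ρ c).mul_mem ((stabSub ρ c).inv_mem hc1) hc2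
    set l := (g1 ^ 2)⁻¹ * g2 ^ 2
    have hlu : ρ l u = u := by
      apply rho_injective ρ (g1 ^ 2)
      rw [← rho_mul, mul_inv_cancel_left, b1, a1]
    obtain ⟨dS, dE⟩ := hs.descend hS hE hb
    obtain ⟨cS, cE⟩ := hs.descend hS hE hcs
    have hfix : ∀ x ∈ b, ρ l x = x := fun x hx => congrArg Subtype.val (LinearMap.congr_fun
      (plane_fpf (hs2 b hb) (restr ρ b) dS dE (k := ⟨l, hlb⟩) (x := ⟨u, hu⟩)
        (fun e => hu0 (congrArg Subtype.val e)) (Subtype.ext hlu)) ⟨x, hx⟩)
    have hly : ρ l y = y := by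
      have hlv := hv l hfix
      rw [← hyr, map_add] at hlv
      refine sub_eq_zero.mp (hs.eq_zero_of_mem hcs (Submodule.sub_mem _ (stabSub_mem_maps hlc hy) hy) ?_)
      rw [show ρ l y - y = r - ρ l r by rw [sub_eq_sub_iff_add_eq_add, hlv, add_comm]]
      refine Submodule.sub_mem _ ((Finset.sup_mono (f := id) (Finset.erase_subset_erase _ hts) :
        (t.erase c).sup id ≤ (s.erase c).sup id) hr) ?_
      have h1 : ((t.erase c).sup id).map (ρ l) ≤ (s.erase c).sup id := by
        rw [Submodule.map_le_iff_le_comap]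
        refine Finset.sup_le fun d hd => Submodule.map_le_iff_le_comap.mp ?_
        obtain ⟨hdc, hdt⟩ := Finset.mem_erase.mp hd
        refine Finset.le_sup (f := id) (Finset.mem_erase.mpr ⟨fun e => hdc ?_, hs.inv l d (hts hdt)⟩)
        exact Submodule.map_injective_of_injective (rho_injective ρ l)
          (e.trans (hlc : c.map (ρ l) = c).symm)
      exact h1 ⟨r, hr, rfl⟩
    have hlw : ρ l w = w := congrArg Subtype.val (LinearMap.congr_fun
      (plane_fpf (hs2 c hcs) (restr ρ c) cS cE (k := ⟨l, hlc⟩) (x := ⟨y, hy⟩)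
        (fun e => hy0 (congrArg Subtype.val e)) (Subtype.ext hly)) ⟨w, hw⟩)
    have h4 : ρ (g1 ^ 2) w = (4 : ZMod 7) • w := by
      rw [partner_eq (by decide) (hp _ 2 a2), seven_facts.2.2.2]
    have := congrArg (ρ (g1 ^ 2)) hlw
    rw [← rho_mul, mul_inv_cancel_left, b2, h4] at this
    exact absurd (smul_left_cancel' hw0 this) (by decide)
  exact main s subset_rfl (hs.top ▸ Submodule.mem_top)

/-- Traces on a block are invariant under the power `61`. -/
theorem trace_pow_eq [Finite V] [Finite H] (hR : Rational H) (hsm : Smooth (Nat.card H))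
    {ρ : H →* Module.End (ZMod 7) V} {s : Finset (Submodule (ZMod 7) V)} (hs : IsSys ρ s)
    (hS : Scal ρ) (hE : Part ρ) (hs2 : ∀ b ∈ s, Module.finrank (ZMod 7) b = 2)
    {b : Submodule (ZMod 7) V} (hb : b ∈ s) (g : stabSub ρ b) :
    LinearMap.trace (ZMod 7) b (restr ρ b g ^ 61) = LinearMap.trace (ZMod 7) b (restr ρ b g) := by
  classical
  have := Fintype.ofFinite H
  set L := Finset.univ.filter fun l : H => ∀ x ∈ b, ρ l x = x with hL
  have hLm : ∀ l, l ∈ L ↔ ∀ x ∈ b, ρ l x = x := fun l => by simp [hL]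
  let L' : Subgroup H :=
    { carrier := {l | ∀ x ∈ b, ρ l x = x}
      one_mem' := fun x _ => rho_one ρ x
      mul_mem' := fun {l m} hl hm x hx => by rw [rho_mul, hm x hx, hl x hx]
      inv_mem' := fun {l} hl x hx => by
        conv_lhs => rw [← hl x hx]
        exact rho_inv_self ρ l x }
  have hn : ((L.card : ℕ) : ZMod 7) ≠ 0 := by
    rw [Ne, ZMod.natCast_eq_zero_iff]
    intro h
    refine not_seven_dvd hsm (h.trans ?_)
    have e : Nat.card L' = L.card := by
      rw [Nat.card_eq_fintype_card, Fintype.card_subtype, hL]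
      rfl
    rw [← e]
    exact Subgroup.card_subgroup_dvd_card _
  set e : Module.End (ZMod 7) V := ((L.card : ℕ) : ZMod 7)⁻¹ • ∑ l ∈ L, ρ l with he
  have hefix : ∀ x ∈ b, e x = x := by
    intro x hx
    rw [he, LinearMap.smul_apply, LinearMap.sum_apply,
      Finset.sum_congr rfl fun l hl => (hLm l).mp hl x hx, Finset.sum_const,
      ← Nat.cast_smul_eq_nsmul (ZMod 7), smul_smul, inv_mul_cancel₀ hn, one_smul]
  have hemem : ∀ v, e v ∈ b := by
    refine fun v => fix_kernel hs hS hE hs2 hb fun m hm => ?_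
    rw [he, LinearMap.smul_apply, LinearMap.sum_apply, map_smul, map_sum]
    congr 1
    refine Finset.sum_equiv (Equiv.mulLeft m) (fun l => ?_) fun l _ => ?_
    · rw [hLm, hLm]
      exact ⟨fun hl => L'.mul_mem hm hl, fun hl => by
        have := L'.mul_mem (L'.inv_mem hm) hl
        rw [Equiv.coe_mulLeft, inv_mul_cancel_left] at this
        exact this⟩
    · rw [Equiv.coe_mulLeft, rho_mul]
  let π : V →ₗ[ZMod 7] b := e.codRestrict b hemem
  have hπ : ∀ x : b, π x = x := fun x => Subtype.ext (hefix x x.2)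
  have htr : ∀ k : stabSub ρ b, LinearMap.trace (ZMod 7) V (ρ (k : H) * e) =
      LinearMap.trace (ZMod 7) b (restr ρ b k) := by
    intro k
    have e1 : ρ (k : H) * e = b.subtype ∘ₗ ((restr ρ b k) ∘ₗ π) := LinearMap.ext fun v => rfl
    rw [e1, LinearMap.trace_comp_comm']
    congr 1
    refine LinearMap.ext fun x => ?_
    show restr ρ b k (π (x : V)) = restr ρ b k x
    rw [hπ]
  have hexp : ∀ k : stabSub ρ b, LinearMap.trace (ZMod 7) V (ρ (k : H) * e) =
      ((L.card : ℕ) : ZMod 7)⁻¹ * ∑ l ∈ L, LinearMap.trace (ZMod 7) V (ρ ((k : H) * l)) := by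
    intro k
    rw [he, mul_smul_comm, map_smul, Finset.mul_sum, map_sum, smul_eq_mul]
    simp only [map_mul]
  rw [← map_pow, ← htr, ← htr, hexp, hexp]
  congr 1
  have h61 : ∀ x : H, Nat.Coprime 61 (orderOf x) := fun x =>
    (Nat.Prime.coprime_iff_not_dvd (by norm_num)).mpr fun hd =>
      absurd (hsm 61 (by norm_num) (hd.trans (orderOf_dvd_natCard x))) (by norm_num)
  have hcard : Nat.Coprime (Nat.card H) 61 := by
    rw [Nat.coprime_comm]
    exact (Nat.Prime.coprime_iff_not_dvd (by norm_num)).mpr fun hd =>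
      absurd (hsm 61 (by norm_num) hd) (by norm_num)
  have hpowmem : ∀ l ∈ L, ((g : H) ^ 61)⁻¹ * ((g : H) * l) ^ 61 ∈ L := by
    intro l hl
    rw [hLm]
    intro x hx
    have hp : ∀ n : ℕ, ∀ x ∈ b, ρ (((g : H) * l) ^ n) x = ρ ((g : H) ^ n) x := by
      intro n
      induction n with
      | zero => intro x _; rw [pow_zero, pow_zero]
      | succ n ih =>
        intro x hx
        rw [pow_succ, rho_mul, rho_mul, (hLm l).mp hl x hx,
          ih _ (stabSub_mem_maps g.2 hx), pow_succ, rho_mul]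
    rw [rho_mul, hp 61 x hx, rho_inv_self]
  refine (Finset.sum_bij (fun l _ => ((g : H) ^ 61)⁻¹ * ((g : H) * l) ^ 61) hpowmem ?_ ?_ ?_).symm
  · intro l1 _ l2 _ h
    exact mul_left_cancel ((powCoprime hcard).injective (mul_left_cancel h :))
  · intro m hm
    have hinj : Set.InjOn (fun l => ((g : H) ^ 61)⁻¹ * ((g : H) * l) ^ 61) L := fun l1 _ l2 _ h =>
      mul_left_cancel ((powCoprime hcard).injective (mul_left_cancel h :))
    obtain ⟨l, hl, hlm⟩ := Finset.surj_on_of_inj_on_of_card_le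
      (fun l (_ : l ∈ L) => ((g : H) ^ 61)⁻¹ * ((g : H) * l) ^ 61) hpowmem
      (fun a c ha hc h => hinj ha hc h) le_rfl m hm
    exact ⟨l, hl, hlm.symm⟩
  · intro l _
    rw [Subgroup.coe_pow, mul_inv_cancel_left]
    obtain ⟨c, hc⟩ := hR.exists_conj ((g : H) * l) (h61 _)
    rw [← hc, map_mul ρ (c * ((g : H) * l)), map_mul ρ c, LinearMap.trace_mul_comm, ← mul_assoc,
      ← map_mul ρ c⁻¹, inv_mul_cancel, map_one, one_mul]

/-- No element of order three on a block is inverted. -/
theorem not_inverted [Finite V] [Finite H] (hR : Rational H) (hsm : Smooth (Nat.card H))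
    {ρ : H →* Module.End (ZMod 7) V} {s : Finset (Submodule (ZMod 7) V)} (hs : IsSys ρ s)
    (hS : Scal ρ) (hE : Part ρ) (hs2 : ∀ b ∈ s, Module.finrank (ZMod 7) b = 2)
    {b : Submodule (ZMod 7) V} (hb : b ∈ s) {g e : stabSub ρ b} {u : b} (hu : u ≠ 0)
    (heu : restr ρ b e u = (2 : ZMod 7) • u)
    (heg : restr ρ b g * restr ρ b e * restr ρ b g⁻¹ = restr ρ b e * restr ρ b e) : False := by
  classical
  obtain ⟨hSb, hEb⟩ := hs.descend hS hE hb
  have hD := hs2 b hb
  set σ := restr ρ b with hσ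
  have : Nontrivial b := ⟨⟨u, 0, hu⟩⟩
  set u2 := σ g u with hu2
  have hu2ne : u2 ≠ 0 := fun e' => hu ((rho_eq_zero σ).mp e')
  have hge : ∀ x, σ e (σ e (σ g x)) = σ g (σ e x) := fun x => by
    have := LinearMap.congr_fun heg (σ g x)
    rw [Module.End.mul_apply, Module.End.mul_apply, Module.End.mul_apply, rho_inv_self] at this
    exact this.symm
  have he3 : ∀ x, σ e (σ e (σ e x)) = x := by
    have h3 : σ (e ^ 3) = 1 := plane_fpf hD σ hSb hEb hu (by
      rw [rho_pow_smul σ heu, show (2 : ZMod 7) ^ 3 = 1 by decide, one_smul])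
    intro x
    rw [← rho_mul, ← rho_mul, mul_assoc, ← pow_three, h3]
    rfl
  have heu2 : σ e u2 = (4 : ZMod 7) • u2 := by
    have h1 : σ e (σ e u2) = (2 : ZMod 7) • u2 := by rw [hu2, hge, heu, map_smul]
    have h2 := congrArg (σ e) h1
    rw [he3, map_smul] at h2
    calc σ e u2 = (1 : ZMod 7) • σ e u2 := (one_smul _ _).symm
      _ = (4 : ZMod 7) • ((2 : ZMod 7) • σ e u2) := by
          rw [smul_smul, show (4 : ZMod 7) * 2 = 1 by decide]
      _ = (4 : ZMod 7) • u2 := by rw [← h2]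
  have hbasis := plane_basis hD hu hu2ne heu heu2 (by decide)
  have hindep : ∀ α β : ZMod 7, α • u + β • u2 = 0 → α = 0 ∧ β = 0 := by
    intro α β h
    have h' := congrArg (σ e) h
    rw [map_add, map_smul, map_smul, heu, heu2, map_zero, smul_smul, smul_smul] at h'
    have hβ : (β * 2) • u2 = 0 := by
      calc (β * 2) • u2 = ((α * 2) • u + (β * 4) • u2) - (2 : ZMod 7) • (α • u + β • u2) := by
            match_scalars <;> ring
        _ = 0 := by rw [h', h, smul_zero, sub_zero]
    have hβ0 : β = 0 := by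
      have := (smul_eq_zero.mp hβ).resolve_right hu2ne
      rwa [mul_eq_zero, or_iff_left (by decide : (2 : ZMod 7) ≠ 0)] at this
    rw [hβ0, zero_smul, add_zero] at h
    exact ⟨(smul_eq_zero.mp h).resolve_right hu, hβ0⟩
  let B : Module.Basis (Fin 2) (ZMod 7) b := Module.Basis.mk
    (v := ![u, u2]) (LinearIndependent.pair_iff.mpr fun a c h => hindep a c h) (by
      intro x _
      obtain ⟨α, β, rfl⟩ := hbasis x
      exact Submodule.add_mem _ (Submodule.smul_mem _ _ (Submodule.subset_span ⟨0, rfl⟩))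
        (Submodule.smul_mem _ _ (Submodule.subset_span ⟨1, rfl⟩)))
  have hB0 : B 0 = u := Module.Basis.mk_apply _ _ 0
  have hB1 : B 1 = u2 := Module.Basis.mk_apply _ _ 1
  let M : Module.End (ZMod 7) b ≃ₐ[ZMod 7] Matrix (Fin 2) (Fin 2) (ZMod 7) := LinearMap.toMatrixAlgEquiv B
  have hMent : ∀ (A : Module.End (ZMod 7) b) (α β γ δ : ZMod 7), A u = α • u + γ • u2 →
      A u2 = β • u + δ • u2 → M A = !![α, β; γ, δ] := by
    intro A α β γ δ h0 h1
    refine Matrix.ext fun i j => ?_
    rw [show M A i j = B.repr (A (B j)) i from LinearMap.toMatrixAlgEquiv_apply B A i j]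
    fin_cases j <;> fin_cases i <;>
      simp only [Fin.zero_eta, Fin.mk_one, Fin.isValue, hB0, hB1, h0, h1, map_add, map_smul,
        Finsupp.add_apply, Finsupp.smul_apply] <;>
      rw [← hB0, ← hB1, B.repr_self, B.repr_self] <;> simp
  have hgu2 : σ g u2 = -u := by
    -- the square of `g` is scalar
    obtain ⟨α, β, hαβ⟩ := hbasis (σ g u2)
    have h4 : σ e (σ g u2) = (2 : ZMod 7) • σ g u2 := by
      have h1 : σ e (σ e (σ g u2)) = (4 : ZMod 7) • σ g u2 := by rw [hge, heu2, map_smul]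
      have h2 := congrArg (σ e) h1
      rw [he3, map_smul] at h2
      calc σ e (σ g u2) = (1 : ZMod 7) • σ e (σ g u2) := (one_smul _ _).symm
        _ = (2 : ZMod 7) • ((4 : ZMod 7) • σ e (σ g u2)) := by
            rw [smul_smul, show (2 : ZMod 7) * 4 = 1 by decide]
        _ = (2 : ZMod 7) • σ g u2 := by rw [← h2]
    have hβ : β = 0 := by
      rw [hαβ, map_add, map_smul, map_smul, heu, heu2] at h4
      obtain ⟨-, h5⟩ := hindep 0 (β * 2) (by
        calc (0 : ZMod 7) • u + (β * 2) • u2 =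
            (α • (2 : ZMod 7) • u + β • (4 : ZMod 7) • u2) - (2 : ZMod 7) • (α • u + β • u2) := by
              match_scalars <;> ring
          _ = 0 := by rw [h4, sub_self])
      rwa [mul_eq_zero, or_iff_left (by decide : (2 : ZMod 7) ≠ 0)] at h5
    rw [hβ, zero_smul, add_zero] at hαβ
    have hsc : ∀ x, σ (g * g) x = α • x := by
      intro x
      obtain ⟨a, c, rfl⟩ := hbasis x
      rw [rho_mul, map_add, map_smul, map_smul, map_add, map_smul, map_smul, ← hu2, hαβ, map_smul,
        ← hu2]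
      match_scalars <;> ring
    have hα := hEb.scalar_sq hu hsc
    rcases (show ∀ a : ZMod 7, a * a = 1 → a = 1 ∨ a = -1 by decide) α hα with rfl | rfl
    · exfalso
      rw [one_smul] at hαβ
      have hfix : σ g (u + u2) = u + u2 := by rw [map_add, ← hu2, hαβ, add_comm]
      have hne : u + u2 ≠ 0 := fun h0 => one_ne_zero (hindep 1 1 (by rwa [one_smul, one_smul])).1
      have h1 := plane_fpf hD σ hSb hEb hne hfix
      have hg : u2 = u := by rw [hu2, h1]; rfl
      exact one_ne_zero (hindep 1 (-1) (by rw [one_smul, neg_one_smul, hg, add_neg_cancel])).1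
    · rw [hαβ, neg_one_smul]
  -- a second element of order three
  set w := u + u2 with hw
  have hw0 : w ≠ 0 := fun h0 => one_ne_zero (hindep 1 1 (by rwa [one_smul, one_smul])).1
  obtain ⟨h0, hh0⟩ := hSb w hw0 3 (by decide)
  set k := h0 ^ 2 with hk
  have hkw : σ k w = (2 : ZMod 7) • w := by
    rw [hk, rho_pow_smul σ hh0, show (3 : ZMod 7) ^ 2 = 2 by decide]
  obtain ⟨w', hw'0, hp⟩ := hEb w hw0
  have hkw' : σ k w' = (4 : ZMod 7) • w' := by
    rw [partner_eq (by decide) (hp _ 2 hkw), seven_facts.2.2.2]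
  have hquad : σ k * σ k + σ k + 1 = 0 := by
    refine LinearMap.ext fun x => ?_
    obtain ⟨a, c, rfl⟩ := plane_basis hD hw0 hw'0 hkw hkw' (by decide) x
    simp only [LinearMap.add_apply, Module.End.mul_apply, Module.End.one_apply, map_add, map_smul,
      hkw, hkw', LinearMap.zero_apply, smul_smul]
    rw [show (0 : b) = (0 : ZMod 7) • w + (0 : ZMod 7) • w' by simp]
    match_scalars <;> ring_nf <;> simp only [show (7 : ZMod 7) = 0 by decide,
      show (21 : ZMod 7) = 0 by decide, mul_zero]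
  obtain ⟨p, r, hkp⟩ := hbasis (σ k u)
  have hku2 : σ k u2 = (2 - p) • u + (2 - r) • u2 := by
    rw [hw, map_add, hkp] at hkw
    rw [eq_sub_of_add_eq' hkw]
    match_scalars <;> ring
  have hMe : M (σ e) = !![2, 0; 0, 4] := hMent _ _ _ _ _ (by rw [heu, zero_smul, add_zero])
    (by rw [heu2, zero_smul, zero_add])
  have hMg : M (σ g) = !![0, -1; 1, 0] := hMent _ _ _ _ _ (by rw [zero_smul, zero_add, one_smul])
    (by rw [hgu2, zero_smul, add_zero, neg_one_smul])
  have hMk : M (σ k) = !![p, 2 - p; r, 2 - r] := hMent _ _ _ _ _ hkp hku2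
  have hq := congrArg M hquad
  rw [map_add, map_add, map_mul, map_one, map_zero, hMk] at hq
  have q00 := congrFun (congrFun hq 0) 0
  have q10 := congrFun (congrFun hq 1) 0
  have q01 := congrFun (congrFun hq 0) 1
  have q11 := congrFun (congrFun hq 1) 1
  simp at q00 q10 q01 q11
  refine matrix_facts p r ⟨?_, ?_, ?_, ?_, ?_⟩ ?_
  · linear_combination q00
  · linear_combination q10
  · linear_combination q01
  · linear_combination q11
  · rintro ⟨rfl, rfl⟩
    have hsc : ∀ x, σ k x = (2 : ZMod 7) • x := by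
      intro x
      obtain ⟨a, c, rfl⟩ := hbasis x
      rw [map_add, map_smul, map_smul, hkp, hku2]
      match_scalars <;> ring
    exact absurd (hEb.scalar_sq hu hsc) (by decide)
  intro a bb c d habcd
  -- the three products
  obtain ⟨m, hm⟩ : ∃ m : stabSub ρ b, M (σ m) = !![a, bb; c, d] := by
    rcases habcd with h | h | h <;> simp only [Prod.mk.injEq] at h <;> obtain ⟨rfl, rfl, rfl, rfl⟩ := h
    · refine ⟨e * k, ?_⟩
      rw [map_mul, map_mul, hMe, hMk, Matrix.mul_fin_two]
      ext i j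
      fin_cases i <;> fin_cases j <;> simp
    · refine ⟨g * k, ?_⟩
      rw [map_mul, map_mul, hMg, hMk, Matrix.mul_fin_two]
      ext i j
      fin_cases i <;> fin_cases j <;> simp
    · refine ⟨g * e * k, ?_⟩
      rw [map_mul, map_mul, map_mul, map_mul, hMg, hMe, hMk, Matrix.mul_fin_two, Matrix.mul_fin_two]
      ext i j
      fin_cases i <;> fin_cases j <;> simp
  have hdet : a * d - bb * c = 1 := by
    have hk1 : p * (2 - r) - (2 - p) * r = 1 := by
      have := (show ∀ p r : ZMod 7,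
        (p * p + (2 - p) * r + p + 1 = 0 ∧ r * (p + (2 - r) + 1) = 0 ∧
          (2 - p) * (p + (2 - r) + 1) = 0 ∧ (2 - r) * (2 - r) + (2 - p) * r + (2 - r) + 1 = 0 ∧
          ¬ (p = 2 ∧ r = 0)) → p * (2 - r) - (2 - p) * r = 1 by decide +kernel) p r
      refine this ⟨by linear_combination q00, by linear_combination q10, by linear_combination q01,
        by linear_combination q11, ?_⟩
      rintro ⟨rfl, rfl⟩
      have hsc : ∀ x, σ k x = (2 : ZMod 7) • x := by
        intro x
        obtain ⟨a, c, rfl⟩ := hbasis x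
        rw [map_add, map_smul, map_smul, hkp, hku2]
        match_scalars <;> ring
      exact absurd (hEb.scalar_sq hu hsc) (by decide)
    have h8 : (8 : ZMod 7) = 1 := by decide
    rcases habcd with h | h | h <;> simp only [Prod.mk.injEq] at h <;> obtain ⟨rfl, rfl, rfl, rfl⟩ := h
    · linear_combination 8 * hk1 + h8
    · linear_combination hk1
    · linear_combination 8 * hk1 + h8
  by_cases hgood : a + d = 0 ∨ a + d = 1 ∨ a + d = -1
  · rcases hgood with h | h | h
    exacts [Or.inl h, Or.inr (Or.inl h), Or.inr (Or.inr (Or.inl h))]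
  refine Or.inr (Or.inr (Or.inr ?_))
  set t := a + d with ht
  set A := !![a, bb; c, d] with hA
  have hCH : A * A = t • A - 1 := by
    rw [hA, Matrix.mul_fin_two]
    ext i j
    fin_cases i <;> fin_cases j <;> simp [ht] <;>
      first | linear_combination (-1 : ZMod 7) * hdet | ring
  have htr : A.trace = t := by rw [hA, Matrix.trace_fin_two_of]
  have hcases : ∀ t : ZMod 7, ¬ (t = 0 ∨ t = 1 ∨ t = -1) → t * t = 2 ∨ t = 2 ∨ t = -2 := by decide
  rcases hcases t hgood with h2 | h2 | h2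
  · exfalso
    have h4 : A ^ 4 = -1 := by
      rw [show 4 = 2 * 2 from rfl, pow_mul, pow_two A, hCH, pow_two, sub_mul, mul_sub, mul_sub,
        smul_mul_smul_comm, hCH, mul_one, one_mul, mul_one, h2, smul_sub, smul_smul]
      match_scalars <;> ring
    have h61 : A ^ 61 = -A := by
      rw [show 61 = 4 * 15 + 1 from rfl, pow_succ, pow_mul, h4, Odd.neg_one_pow (by decide), neg_one_mul]
    have hT := trace_pow_eq hR hsm hs hS hE hs2 hb m
    rw [LinearMap.trace_eq_matrix_trace (ZMod 7) B, LinearMap.trace_eq_matrix_trace (ZMod 7) B] at hT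
    have hMdef : ∀ A : Module.End (ZMod 7) b, LinearMap.toMatrix B B A = M A := fun A => rfl
    simp only [← hσ, hMdef, map_pow, hm, h61, Matrix.trace_neg, htr] at hT
    exact hgood (Or.inl ((show ∀ t : ZMod 7, -t = t → t = 0 by decide) t hT))
  all_goals
    have hcast : ∃ ε : ZMod 7, (ε = 1 ∨ ε = -1) ∧ A * A = (2 * ε) • A - 1 := by
      first
        | exact ⟨1, Or.inl rfl, by rw [mul_one, ← h2, hCH]⟩
        | exact ⟨-1, Or.inr rfl, by rw [mul_neg_one, ← h2, hCH]⟩
    obtain ⟨ε, hε, hAA⟩ := hcast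
    have hε2 : ε * ε = 1 := by rcases hε with rfl | rfl <;> decide
    set N0 := ε • A - 1 with hN
    have hN2 : N0 * N0 = 0 := by
      rw [hN, sub_mul, mul_sub, mul_sub, smul_mul_smul_comm, hAA, mul_one, one_mul, mul_one, hε2,
        one_smul]
      match_scalars <;> ring
    have hpow : ∀ n : ℕ, (ε • A) ^ n = 1 + (n : ZMod 7) • N0 := by
      intro n
      induction n with
      | zero => simp
      | succ n ih =>
        rw [pow_succ, ih, show ε • A = 1 + N0 by rw [hN, add_sub_cancel], mul_add, mul_one, add_mul,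
          one_mul, smul_mul_assoc, hN2, smul_zero, add_zero, Nat.cast_succ, add_smul, one_smul]
        abel
    have hA14 : A ^ 14 = 1 := by
      have h := hpow 14
      rw [_root_.smul_pow, show ε ^ 14 = 1 by rw [show 14 = 2 * 7 from rfl, pow_mul, pow_two, hε2, one_pow],
        one_smul, show ((14 : ℕ) : ZMod 7) = 0 by decide, zero_smul, add_zero] at h
      exact h
    have hA2 : A ^ 2 = 1 := by
      have hord : σ (m ^ 14) = 1 := M.injective (by rw [map_pow, map_pow, hm, hA14, map_one])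
      set q := toImg σ m with hq'
      have hq14 : q ^ 14 = 1 := imgRep_injective σ (by
        rw [hq', ← map_pow, imgRep_toImg, hord, map_one])
      have := finite_img σ
      have hdvd : orderOf q ∣ 14 := orderOf_dvd_of_pow_eq_one hq14
      have hco : (orderOf q).Coprime 7 := by
        rw [Nat.coprime_comm, Nat.Prime.coprime_iff_not_dvd (by norm_num)]
        intro hd
        have hsm' : Smooth (Nat.card (img σ)) := smooth_img σ fun p hp hd =>
          hsm p hp (hd.trans (Subgroup.card_subgroup_dvd_card _))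
        exact not_seven_dvd hsm' (hd.trans (orderOf_dvd_natCard q))
      have h2' : orderOf q ∣ 2 := hco.dvd_of_dvd_mul_right (show orderOf q ∣ 2 * 7 from hdvd)
      have h := congrArg (imgRep σ) (orderOf_dvd_iff_pow_eq_one.mp h2')
      rw [map_pow, map_one, hq', imgRep_toImg] at h
      have := congrArg M h
      rwa [map_pow, map_one, hm] at this
    have h := hpow 2
    rw [_root_.smul_pow, pow_two ε, hε2, one_smul, hA2, left_eq_add, smul_eq_zero] at h
    have hN0 : N0 = 0 := h.resolve_left (by decide)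
    have hAe : A = ε • (1 : Matrix (Fin 2) (Fin 2) (ZMod 7)) := by
      calc A = ε • (ε • A) := by rw [smul_smul, hε2, one_smul]
        _ = _ := by rw [show ε • A = 1 from sub_eq_zero.mp hN0]
    have e00 := congrFun (congrFun hAe 0) 0
    have e01 := congrFun (congrFun hAe 0) 1
    have e10 := congrFun (congrFun hAe 1) 0
    have e11 := congrFun (congrFun hAe 1) 1
    simp [hA] at e00 e01 e10 e11
    exact ⟨e01, e10, e00.trans e11.symm, e00 ▸ hε⟩

set_option maxHeartbeats 1000000 in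
/-- A system of planes contradicts rationality. -/
theorem planes_false [Finite V] [Finite H] [Nontrivial V] (hR : Rational H)
    (hsm : Smooth (Nat.card H)) (ρ : H →* Module.End (ZMod 7) V) (hS : Scal ρ) (hE : Part ρ)
    (hP : Planes ρ) : False := by
  classical
  obtain ⟨s, hs, hs2⟩ := hP
  obtain ⟨b, hb⟩ : s.Nonempty := by
    rw [Finset.nonempty_iff_ne_empty]
    intro h
    have := hs.top
    rw [h, Finset.sup_empty] at this
    exact bot_ne_top this
  set N := stabSub ρ b with hN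
  set σ := restr ρ b with hσ
  obtain ⟨hSb, hEb⟩ := hs.descend hS hE hb
  have hD := hs2 b hb
  have : Nontrivial b := Module.nontrivial_of_finrank_pos (R := ZMod 7) (by omega)
  have : Finite (img σ) := finite_img σ
  set K := img σ
  set θ := imgRep σ
  have hfpK : ∀ (k : K) (x : b), x ≠ 0 → θ k x = x → k = 1 := fun k x hx h =>
    imgRep_injective σ ((plane_fpf hD θ hSb.img hEb.img hx h).trans (map_one θ).symm)
  -- an element with eigenvalues two and four
  obtain ⟨u, hu⟩ := exists_ne (0 : b)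
  obtain ⟨g0, hg0⟩ := hSb u hu 3 (by decide)
  set e := g0 ^ 2 with he
  have heu : σ e u = (2 : ZMod 7) • u := by
    rw [he, rho_pow_smul σ hg0, show (3 : ZMod 7) ^ 2 = 2 by decide]
  obtain ⟨u', hu'0, hp⟩ := hEb u hu
  have heu' : σ e u' = (4 : ZMod 7) • u' := by
    rw [partner_eq (by decide) (hp _ 2 heu), seven_facts.2.2.2]
  set ek := toImg σ e with hek
  have hek3 : ek ^ 3 = 1 := hfpK _ u hu (by
    rw [rho_pow_smul θ (c := 2) (show θ ek u = (2 : ZMod 7) • u from heu),
      show (2 : ZMod 7) ^ 3 = 1 by decide, one_smul])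
  have hek1 : ek ≠ 1 := fun h => by
    have h' : θ ek u = u := by rw [h, map_one]; rfl
    exact absurd (smul_left_cancel' hu ((show θ ek u = (2 : ZMod 7) • u from heu).symm.trans
      (h'.trans (one_smul _ u).symm))) (by decide)
  -- the Sylow subgroup
  have : Fact (Nat.Prime 3) := ⟨Nat.prime_three⟩
  have hpz : IsPGroup 3 (zpowers ek) := IsPGroup.of_card (n := 1) (by
    rw [Nat.card_zpowers, pow_one]; exact orderOf_eq_prime hek3 hek1)
  obtain ⟨P, hPe⟩ := hpz.exists_le_sylow
  have hekP : ek ∈ P := hPe (mem_zpowers ek)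
  have : Nontrivial P := ⟨⟨⟨ek, hekP⟩, 1, fun h => hek1 (congrArg Subtype.val h)⟩⟩
  have := P.2.center_nontrivial
  obtain ⟨⟨z0, hz0c⟩, hz0⟩ := exists_ne (1 : center P)
  obtain ⟨n, hn⟩ : ∃ n, orderOf z0 = 3 ^ (n + 1) := by
    obtain ⟨n, hn⟩ := IsPGroup.iff_orderOf.mp P.2 z0
    rcases n with _ | n
    · exact absurd (Subtype.ext (orderOf_eq_one_iff.mp hn)) hz0
    · exact ⟨n, hn⟩
  set z : P := z0 ^ 3 ^ n with hz
  have hzo : orderOf z = 3 := by
    rw [hz, orderOf_pow' z0 (pow_ne_zero _ (by norm_num)), hn,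
      Nat.gcd_eq_right (pow_dvd_pow 3 (Nat.le_succ n)), pow_succ,
      Nat.mul_div_cancel_left _ (pow_pos (by norm_num) n)]
  have hzc : ∀ y : P, Commute y z := fun y => Commute.pow_right (show Commute y z0 from mem_center_iff.mp hz0c y) _
  set zk : K := (z : K)
  have hzk3 : zk ^ 3 = 1 := by
    rw [← Subgroup.coe_pow, orderOf_dvd_iff_pow_eq_one.mp (dvd_of_eq hzo)]; rfl
  have hzk1 : zk ≠ 1 := fun h => by
    have h' : z = 1 := Subtype.ext h
    rw [h', orderOf_one] at hzo
    norm_num at hzo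
  obtain ⟨x, c, hx, hc, hzx⟩ := exists_eig_three (σ := θ) (z := zk)
    (fun x hx h => hzk1 (hfpK zk x hx h)) (by rw [← map_pow, hzk3, map_one])
  have hc0 : c ≠ 0 ∧ c * c ≠ 1 ∧ c ≠ 1 := by rcases hc with rfl | rfl <;> decide
  obtain ⟨x', hx'0, hpx⟩ := hEb.img x hx
  have hzx' : θ zk x' = c⁻¹ • x' := partner_eq hc0.1 (hpx zk c hzx)
  have hPz : ∀ y ∈ P, y ∈ zpowers zk := by
    intro y hy
    have hcy : Commute y zk := congrArg Subtype.val (hzc ⟨y, hy⟩).eq
    obtain ⟨α, β, hαβ⟩ := plane_basis hD hx hx'0 hzx hzx'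
      (fun h => hc0.2.1 (by nth_rw 2 [h]; exact mul_inv_cancel₀ hc0.1)) (θ y x)
    have hβ : β = 0 := by
      have h1 : θ zk (θ y x) = c • θ y x := by rw [← rho_mul, ← hcy.eq, rho_mul, hzx, map_smul]
      rw [hαβ, map_add, map_smul, map_smul, hzx, hzx'] at h1
      have h2 : (β * (c⁻¹ - c)) • x' = 0 := by
        calc (β * (c⁻¹ - c)) • x' = (α • c • x + β • c⁻¹ • x') - c • (α • x + β • x') := by
              match_scalars <;> ring
          _ = 0 := by rw [h1, sub_self]
      rcases mul_eq_zero.mp ((smul_eq_zero.mp h2).resolve_right hx'0) with h3 | h3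
      · exact h3
      · exact absurd (by nth_rw 1 [← sub_eq_zero.mp h3]; exact inv_mul_cancel₀ hc0.1) hc0.2.1
    rw [hβ, zero_smul, add_zero] at hαβ
    obtain ⟨j, hj⟩ := IsPGroup.iff_orderOf.mp P.2 ⟨y, hy⟩
    rw [Subgroup.orderOf_mk] at hj
    have hα : α ^ 3 = 1 := by
      have h1 : θ (y ^ 3 ^ j) x = α ^ 3 ^ j • x := rho_pow_smul θ hαβ _
      rw [← hj, pow_orderOf_eq_one, map_one, Module.End.one_apply, hj] at h1
      have h2 : α ^ 3 ^ j = 1 := (smul_left_cancel' hx ((one_smul _ x).trans h1)).symm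
      have h0 : α ≠ 0 := fun h => by rw [h, zero_pow (pow_ne_zero _ (by norm_num))] at h2; exact zero_ne_one h2
      have h6 : α ^ 6 = 1 := ZMod.pow_card_sub_one_eq_one h0
      have h3 := pow_gcd_eq_one.mpr ⟨h2, h6⟩
      rcases j with _ | j
      · rw [pow_zero, pow_one] at h2; rw [h2, one_pow]
      · have hg : Nat.gcd (3 ^ (j + 1)) 6 = 3 := by
          rw [show (6 : ℕ) = 3 * 2 from rfl, pow_succ', Nat.gcd_mul_left,
            Nat.Coprime.gcd_eq_one (Nat.Coprime.pow_left j (by norm_num)), mul_one]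
        rwa [hg] at h3
    obtain ⟨i, hi⟩ : ∃ i : ℕ, c ^ i = α := by
      have key : ∀ α c : ZMod 7, α ^ 3 = 1 → (c = 2 ∨ c = 4) →
          c ^ 0 = α ∨ c ^ 1 = α ∨ c ^ 2 = α := by decide
      rcases key α c hα hc with h | h | h
      exacts [⟨0, h⟩, ⟨1, h⟩, ⟨2, h⟩]
    rw [← mem_powers_iff_mem_zpowers, Submonoid.mem_powers_iff]
    refine ⟨i, imgRep_injective σ (plane_eq hD hSb.img hEb.img hx ?_)⟩
    rw [rho_pow_smul θ hzx, hi, hαβ]
  have hPcard : Nat.card P = 3 := by
    have h1 : Nat.card P ≤ 3 := by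
      have hle : (P : Subgroup K) ≤ zpowers zk := hPz
      have := Nat.le_of_dvd Nat.card_pos (Subgroup.card_dvd_of_le hle)
      rwa [Nat.card_zpowers, orderOf_eq_prime hzk3 hzk1] at this
    have h2 := Subgroup.card_dvd_of_le hPe
    rw [Nat.card_zpowers, orderOf_eq_prime hek3 hek1] at h2
    have := Nat.le_of_dvd Nat.card_pos h2
    omega
  have hPeq : zpowers ek = (P : Subgroup K) :=
    Subgroup.eq_of_le_of_card_ge hPe (by rw [Nat.card_zpowers, orderOf_eq_prime hek3 hek1, hPcard])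
  have hPN : Subgroup.normalizer (P : Set K) ≤ centralizer (P : Set K) := by
    intro y hy
    obtain ⟨g, rfl⟩ := toImg_surjective σ y
    have hmem : toImg σ g * ek * (toImg σ g)⁻¹ ∈ zpowers ek := by
      rw [hPeq]
      exact (mem_normalizer_iff.mp hy ek).mp hekP
    rw [← mem_powers_iff_mem_zpowers, Submonoid.mem_powers_iff] at hmem
    obtain ⟨i, hi⟩ := hmem
    have hi3 : ek ^ i = ek ^ (i % 3) := by
      conv_lhs => rw [← pow_mod_orderOf, orderOf_eq_prime hek3 hek1]
    rw [hi3] at hi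
    have hcen : toImg σ g * ek * (toImg σ g)⁻¹ = ek := by
      obtain h | h | h : i % 3 = 0 ∨ i % 3 = 1 ∨ i % 3 = 2 := by omega
      · rw [h, pow_zero] at hi
        exact absurd (conj_eq_one_iff.mp hi.symm) hek1
      · rw [h, pow_one] at hi
        exact hi.symm
      · exfalso
        rw [h] at hi
        refine not_inverted hR hsm hs hS hE hs2 hb (g := g) (e := e) hu heu ?_
        have := congrArg θ hi.symm
        rw [← map_inv (toImg σ), map_mul θ, map_mul θ, map_pow θ, pow_two (θ ek)] at this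
        exact this
    intro q hq
    have hq' : q ∈ zpowers ek := by rw [hPeq]; exact hq
    obtain ⟨j, rfl⟩ := mem_zpowers_iff.mp hq'
    exact ((show Commute (toImg σ g) ek from mul_inv_eq_iff_eq_mul.mp hcen).zpow_right j).symm.eq
  -- Burnside's transfer
  let : CommGroup P :=
    { (inferInstance : Group P) with
      mul_comm := fun a c => Subtype.ext (hPN (Subgroup.le_normalizer c.2) a a.2) }
  set μ := MonoidHom.transferSylow P hPN with hμ
  have hμek : μ ek ≠ 1 := fun h => hek1 (Subgroup.disjoint_def.mp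
    (MonoidHom.ker_transferSylow_isComplement' P hPN).disjoint (MonoidHom.mem_ker.mpr h) hekP)
  set φ : N →* P := μ.comp (toImg σ) with hφ
  have hexp : ∀ a : P, a ^ 3 = 1 := fun a => orderOf_dvd_iff_pow_eq_one.mp ((orderOf_dvd_natCard a).trans (dvd_of_eq hPcard))
  set ε := φ e with hε
  have hεne : ε ≠ 1 := hμek
  have hφeq : ∀ k k' : N, σ k = σ k' → φ k = φ k' := fun k k' h => by
    show μ (toImg σ k) = μ (toImg σ k')
    rw [show toImg σ k = toImg σ k' from imgRep_injective σ h]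
  have heinv : σ e⁻¹ u' = (2 : ZMod 7) • u' := by
    apply rho_injective σ e
    rw [rho_self_inv, map_smul, heu', smul_smul, show (2 : ZMod 7) * 4 = 1 by decide, one_smul]
  have hval : ∀ k : N, ∀ w ∈ ({u, u'} : Set b), ∀ w' ∈ ({u, u'} : Set b), σ k w = (2 : ZMod 7) • w' →
      w = w' ∧ φ k = if w' = u then ε else ε⁻¹ := by
    intro k w hw w' hw' hk
    have huu : u ≠ u' := fun h => by
      rw [← h, heu] at heu'
      exact absurd (smul_left_cancel' hu heu') (by decide)
    have hcross : ∀ a c : b, ∀ x y : N, a ≠ 0 → c ≠ 0 → σ x a = (2 : ZMod 7) • a →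
        σ y c = (2 : ZMod 7) • c → σ k a = (2 : ZMod 7) • c → φ x = φ y := by
      intro a c x y ha hc' hxa hyc hkac
      have h1 : σ (k * x * k⁻¹) c = σ y c := by
        have hka : σ k⁻¹ c = (4 : ZMod 7) • a := by
          apply rho_injective σ k
          rw [rho_self_inv, map_smul, hkac, smul_smul, show (4 : ZMod 7) * 2 = 1 by decide, one_smul]
        rw [hyc, rho_mul, rho_mul, hka, map_smul, hxa, map_smul, map_smul, hkac, smul_smul, smul_smul,
          show (4 : ZMod 7) * 2 * 2 = 2 by decide]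
      have h2 := hφeq _ _ (plane_eq hD hSb hEb hc' h1)
      rw [map_mul, map_mul, map_inv, mul_comm (φ k), mul_inv_cancel_right] at h2
      exact h2
    have hbad : ε ≠ ε⁻¹ := fun h => hεne (by
      have h3 := hexp ε
      rw [pow_three] at h3
      nth_rw 3 [h] at h3
      rwa [mul_inv_cancel, mul_one] at h3)
    simp only [Set.mem_insert_iff, Set.mem_singleton_iff] at hw hw'
    rcases hw with rfl | rfl <;> rcases hw' with rfl | rfl
    · exact ⟨rfl, by rw [if_pos rfl]; exact hφeq k e (plane_eq hD hSb hEb hu (hk.trans heu.symm))⟩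
    · exact absurd ((hcross _ _ e e⁻¹ hu hu'0 heu heinv hk).trans (map_inv φ e)) hbad
    · exact absurd ((hcross _ _ e⁻¹ e hu'0 hu heinv heu hk).symm.trans (map_inv φ e)) hbad
    · refine ⟨rfl, ?_⟩
      rw [if_neg huu.symm, hε, ← map_inv]
      exact hφeq k e⁻¹ (plane_eq hD hSb hEb hu'0 (hk.trans heinv.symm))
  -- the transfer of a scaler
  have : Fintype (H ⧸ N) := Fintype.ofFinite _
  let r : H ⧸ N → H := fun q => q.out
  have hrq : ∀ q, ((r q : H) : H ⧸ N) = q := fun q => QuotientGroup.out_eq' q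
  let B : H ⧸ N → Submodule (ZMod 7) V := fun q => b.map (ρ (r q))
  have hBs : ∀ q, B q ∈ s := fun q => hs.inv (r q) b hb
  have hBinj : Function.Injective B := by
    intro q q' h
    rw [← hrq q, ← hrq q', QuotientGroup.eq]
    show b.map (ρ ((r q)⁻¹ * r q')) = b
    rw [map_mul, Module.End.mul_eq_comp, Submodule.map_comp, show b.map (ρ (r q')) = B q from h.symm]
    show (b.map (ρ (r q))).map (ρ (r q)⁻¹) = b
    rw [← Submodule.map_comp, ← Module.End.mul_eq_comp, ← map_mul, inv_mul_cancel, map_one,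
      Module.End.one_eq_id, Submodule.map_id]
  set m := Fintype.card (H ⧸ N) with hm
  obtain ⟨q0⟩ : Nonempty (H ⧸ N) := inferInstance
  let w : H ⧸ N → b := fun q => if m % 3 = 0 ∧ q = q0 then u' else u
  have hwmem : ∀ q, w q ∈ ({u, u'} : Set b) := fun q => by
    by_cases h : m % 3 = 0 ∧ q = q0 <;> simp [w, h]
  have hw0 : ∀ q, w q ≠ 0 := fun q => by
    by_cases h : m % 3 = 0 ∧ q = q0 <;> simp [w, h, hu, hu'0]
  set v := ∑ q, ρ (r q) (w q : V) with hv
  have hv0 : v ≠ 0 := fun h => hw0 q0 (Subtype.ext ((rho_eq_zero ρ).mp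
    (eq_zero_of_sum_eq_zero hs B hBs hBinj _ (fun q => ⟨w q, (w q).2, rfl⟩) h q0)))
  obtain ⟨g1, hg1⟩ := hS v hv0 3 (by decide)
  set h := g1 ^ 2 with hh
  have hhv : ρ h v = (2 : ZMod 7) • v := by
    rw [hh, rho_pow_smul ρ hg1, show (3 : ZMod 7) ^ 2 = 2 by decide]
  have hkmem : ∀ q, (r q)⁻¹ * h * r (h⁻¹ • q) ∈ N := by
    intro q
    have h1 : ((h * r (h⁻¹ • q) : H) : H ⧸ N) = q := by
      rw [show ((h * r (h⁻¹ • q) : H) : H ⧸ N) = h • ((r (h⁻¹ • q) : H) : H ⧸ N) from rfl, hrq,
        smul_inv_smul]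
    have h2 := (hrq q).trans h1.symm
    rw [QuotientGroup.eq, ← mul_assoc] at h2
    exact h2
  let kq : H ⧸ N → N := fun q => ⟨_, hkmem q⟩
  have hkw : ∀ q, σ (kq q) (w (h⁻¹ • q)) = (2 : ZMod 7) • w q := by
    intro q
    have h1 : ρ h v = ∑ q, ρ (r q) (σ (kq q) (w (h⁻¹ • q)) : V) := by
      rw [hv, map_sum, ← Equiv.sum_comp (MulAction.toPerm h⁻¹) fun q => ρ h (ρ (r q) (w q : V))]
      refine Finset.sum_congr rfl fun q _ => ?_
      show ρ h (ρ (r (h⁻¹ • q)) _) = ρ (r q) (ρ ((r q)⁻¹ * h * r (h⁻¹ • q)) _)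
      rw [← rho_mul, ← rho_mul, mul_assoc (r q)⁻¹, mul_inv_cancel_left]
      rfl
    have h2 : ∑ q, ρ (r q) ((σ (kq q) (w (h⁻¹ • q)) - (2 : ZMod 7) • w q : b) : V) = 0 := by
      simp only [Submodule.coe_sub, map_sub, Finset.sum_sub_distrib, Submodule.coe_smul, map_smul,
        ← Finset.smul_sum]
      rw [← h1, hhv, hv, sub_self]
    have h3 := eq_zero_of_sum_eq_zero hs B hBs hBinj _ (fun q => ⟨_, Submodule.coe_mem _, rfl⟩) h2 q
    exact sub_eq_zero.mp (Subtype.ext ((rho_eq_zero ρ).mp h3))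
  have hprod : MonoidHom.transfer φ h = ∏ q, φ (kq q) := by
    let T : N.LeftTransversal := ⟨Set.range r, Subgroup.isComplement_range_left hrq⟩
    rw [MonoidHom.transfer_def φ T h]
    unfold Subgroup.leftTransversals.diff
    refine Finset.prod_congr (by ext; simp) fun q _ => ?_
    refine congrArg φ (Subtype.ext ?_)
    show ((T.2.leftQuotientEquiv q : H))⁻¹ * ((h • T).2.leftQuotientEquiv q : H) =
      (r q)⁻¹ * h * r (h⁻¹ • q)
    rw [Subgroup.smul_apply_eq_smul_apply_inv_smul, Subgroup.IsComplement.leftQuotientEquiv_apply hrq,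
      Subgroup.IsComplement.leftQuotientEquiv_apply hrq, smul_eq_mul, mul_assoc]
  have htot : ∏ q, φ (kq q) = ∏ q, (if w q = u then ε else ε⁻¹) :=
    Finset.prod_congr rfl fun q _ => (hval _ _ (hwmem _) _ (hwmem _) (hkw q)).2
  have htriv := rational_hom_trivial hR hexp (MonoidHom.transfer φ) h
  rw [hprod, htot] at htriv
  have hord : orderOf ε = 3 := orderOf_eq_prime (hexp ε) hεne
  have huu' : u' ≠ u := fun h' => by
    rw [h', heu] at heu'
    exact absurd (smul_left_cancel' hu heu') (by decide)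
  have hm1 : 1 ≤ m := Fintype.card_pos
  by_cases h3 : m % 3 = 0
  · rw [← Finset.mul_prod_erase _ _ (Finset.mem_univ q0),
      Finset.prod_congr rfl (fun q hq => if_pos (show w q = u from
        if_neg fun h' => (Finset.mem_erase.mp hq).1 h'.2)),
      Finset.prod_const, Finset.card_erase_of_mem (Finset.mem_univ q0), Finset.card_univ,
      if_neg (show w q0 ≠ u by simp [w, h3, huu']), inv_mul_eq_one] at htriv
    have h4 : ε ^ (m - 1) = ε ^ 1 := by rw [pow_one]; exact htriv.symm
    rw [pow_eq_pow_iff_modEq, hord] at h4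
    have h5 : (m - 1) % 3 = 1 := h4
    omega
  · rw [Finset.prod_congr rfl (fun q _ => if_pos (show w q = u from if_neg fun h' => h3 h'.1)),
      Finset.prod_const, Finset.card_univ, ← orderOf_dvd_iff_pow_eq_one, hord] at htriv
    exact h3 (Nat.mod_eq_zero_of_dvd htriv)

end CfsgLib.S3Conj.Gow
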