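import Cfsg.Agent.Lib.S3Conj.Gow.Rep
import Cfsg.Agent.Lib.S3Conj.FiveBound

/-!
Solvable groups of fixed-point-free operators with all prime divisors at most `5`.
-/

set_option autoImplicit false

namespace CfsgLib.S3Conj.Gow

open Subgroup

universe u

/-- Commuting elements of the same prime order generate the same subgroup; one involution. -/
structure Uniq (K : Type u) [Group K] : Prop where
  prime : ∀ (p : ℕ) (a b : K), p.Prime → orderOf a = p → orderOf b = p → Commute a b → b ∈ zpowers a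
  two : ∀ a b : K, orderOf a = 2 → orderOf b = 2 → a = b

section Uniq

variable {K : Type u} [Group K] {q : ℕ} [hq : Fact q.Prime] {V : Type*} [AddCommGroup V]
  [Module (ZMod q) V]

/-- Fixed-point-free operators. -/
theorem uniq_of_fpf [Finite K] [Nontrivial V] (ρ : K →* Module.End (ZMod q) V) (hK : ¬ q ∣ Nat.card K)
    (hfp : ∀ (g : K) (v : V), v ≠ 0 → ρ g v = v → g = 1) : Uniq K := by
  have hsum : ∀ (g : K) (p : ℕ), g ≠ 1 → g ^ p = 1 → ∑ j ∈ Finset.range p, ρ (g ^ j) = 0 := by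
    intro g p hg hgp
    refine LinearMap.ext fun v => ?_
    by_contra hne
    refine hg (hfp g _ hne ?_)
    have h : (ρ g - 1) * ∑ j ∈ Finset.range p, ρ (g ^ j) = 0 := by
      simp only [map_pow]
      rw [mul_geom_sum, ← map_pow, hgp, map_one, sub_self]
    have := LinearMap.congr_fun h v
    rw [Module.End.mul_apply, LinearMap.sub_apply, Module.End.one_apply, LinearMap.zero_apply,
      sub_eq_zero] at this
    exact this
  constructor
  · intro p a b hp ha hb hab
    by_contra hmem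
    have hap : a ^ p = 1 := ha ▸ pow_orderOf_eq_one a
    have hbp : b ^ p = 1 := hb ▸ pow_orderOf_eq_one b
    have hcol : ∀ i ∈ Finset.range p, ∑ j ∈ Finset.range p, ρ ((b * a ^ i) ^ j) = 0 := by
      intro i _
      refine hsum _ p (fun h => hmem ?_) (by rw [(hab.symm.pow_right i).mul_pow, hbp, one_mul, ← pow_mul,
        pow_mul', hap, one_pow])
      rw [eq_inv_of_mul_eq_one_left h]
      exact inv_mem (pow_mem (mem_zpowers a) i)
    have hzero : ∑ j ∈ Finset.range p, ∑ i ∈ Finset.range p, ρ ((b * a ^ i) ^ j) = 0 := by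
      rw [Finset.sum_comm]
      exact Finset.sum_eq_zero hcol
    have hrow : ∀ j ∈ Finset.range p, j ≠ 0 → ∑ i ∈ Finset.range p, ρ ((b * a ^ i) ^ j) = 0 := by
      intro j hj hj0
      have haj : a ^ j ≠ 1 := fun h => by
        have h1 := Nat.le_of_dvd (Nat.pos_of_ne_zero hj0) (orderOf_dvd_of_pow_eq_one h)
        have := Finset.mem_range.mp hj
        omega
      have e : ∀ i, ρ ((b * a ^ i) ^ j) = ρ (b ^ j) * ρ ((a ^ j) ^ i) := fun i => by
        rw [(hab.symm.pow_right i).mul_pow, map_mul, ← pow_mul, ← pow_mul, mul_comm i j]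
      rw [Finset.sum_congr rfl fun i _ => e i, ← Finset.mul_sum,
        hsum _ p haj (by rw [← pow_mul, pow_mul', hap, one_pow]), mul_zero]
    rw [Finset.sum_eq_single_of_mem 0 (Finset.mem_range.mpr hp.pos) hrow] at hzero
    simp only [pow_zero, map_one, Finset.sum_const, Finset.card_range] at hzero
    obtain ⟨v, hv⟩ := exists_ne (0 : V)
    have h2 := LinearMap.congr_fun hzero v
    rw [LinearMap.smul_apply, Module.End.one_apply, LinearMap.zero_apply,
      ← Nat.cast_smul_eq_nsmul (ZMod q)] at h2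
    have h3 : ((p : ℕ) : ZMod q) = 0 := (smul_eq_zero.mp h2).resolve_right hv
    rw [ZMod.natCast_eq_zero_iff] at h3
    refine hK ?_
    rw [(Nat.prime_dvd_prime_iff_eq hq.out hp).mp h3, ← ha]
    exact orderOf_dvd_natCard a
  · intro a b ha hb
    have hneg : ∀ g : K, orderOf g = 2 → ∀ v, ρ g v = -v := by
      intro g hg v
      have h := LinearMap.congr_fun (hsum g 2 (fun h => by rw [h, orderOf_one] at hg; omega)
        (hg ▸ pow_orderOf_eq_one g)) v
      rw [Finset.sum_range_succ, Finset.sum_range_one, pow_zero, pow_one, map_one,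
        LinearMap.add_apply, Module.End.one_apply, LinearMap.zero_apply] at h
      exact eq_neg_of_add_eq_zero_right h
    obtain ⟨v, hv⟩ := exists_ne (0 : V)
    refine mul_inv_eq_one.mp (hfp (a * b⁻¹) v hv ?_)
    have hb' : orderOf b⁻¹ = 2 := by rw [orderOf_inv, hb]
    rw [rho_mul, hneg b⁻¹ hb', map_neg, hneg a ha, neg_neg]

end Uniq

variable {K : Type u} [Group K]

/-- In an abelian subgroup there are at most `n` solutions of `x ^ n = 1`. -/
theorem Uniq.card_pow_le [Fintype K] [DecidableEq K] (hU : Uniq K) (M : Subgroup K)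
    [DecidablePred (· ∈ M)] (hM : ∀ a ∈ M, ∀ b ∈ M, Commute a b) :
    ∀ n, 0 < n → (Finset.univ.filter fun a => a ∈ M ∧ a ^ n = 1).card ≤ n := by
  intro n
  induction n using Nat.strong_induction_on with
  | h n ih =>
  intro hn
  rcases eq_or_ne n 1 with rfl | hn1
  · refine Finset.card_le_one.mpr fun a ha b hb => ?_
    simp only [Finset.mem_filter, pow_one] at ha hb
    rw [ha.2.2, hb.2.2]
  set p := n.minFac
  have hp : p.Prime := Nat.minFac_prime hn1
  obtain ⟨m, hm⟩ : p ∣ n := Nat.minFac_dvd n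
  have hm0 : 0 < m := Nat.pos_of_ne_zero fun h => by rw [h, mul_zero] at hm; omega
  have hmn : m < n := by
    rw [hm]; exact lt_mul_left hm0 hp.one_lt
  set A := Finset.univ.filter fun a => a ∈ M ∧ a ^ n = 1
  set A' := Finset.univ.filter fun a => a ∈ M ∧ a ^ m = 1
  set P := Finset.univ.filter fun a => a ∈ M ∧ a ^ p = 1
  have hP : P.card ≤ p := by
    by_cases hex : ∃ c ∈ M, orderOf c = p
    · obtain ⟨c, hc, hco⟩ := hex
      calc P.card ≤ ((Finset.range p).image (c ^ ·)).card := by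
            refine Finset.card_le_card fun a ha => ?_
            simp only [P, Finset.mem_filter] at ha
            rw [Finset.mem_image]
            rcases eq_or_ne a 1 with rfl | ha1
            · exact ⟨0, Finset.mem_range.mpr hp.pos, pow_zero c⟩
            have := Fact.mk hp
            have hmem := hU.prime p c a hp hco (orderOf_eq_prime ha.2.2 ha1) (hM c hc a ha.2.1)
            obtain ⟨i, hi⟩ := Subgroup.mem_zpowers_iff.mp hmem
            have hp0 : (p : ℤ) ≠ 0 := by exact_mod_cast hp.ne_zero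
            have := Int.emod_nonneg i hp0
            have := Int.emod_lt_of_pos i (by exact_mod_cast hp.pos : (0 : ℤ) < p)
            refine ⟨(i % p).toNat, Finset.mem_range.mpr (by omega), ?_⟩
            rw [← hi, ← zpow_natCast, Int.toNat_of_nonneg (by omega), ← zpow_mod_orderOf c i, hco]
        _ ≤ p := Finset.card_image_le.trans (Finset.card_range p).le
    · push Not at hex
      refine le_trans (Finset.card_le_one.mpr fun a ha b hb => ?_) hp.one_le
      simp only [P, Finset.mem_filter] at ha hb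
      have := Fact.mk hp
      have h1 : a = 1 := by_contra fun h => hex a ha.2.1 (orderOf_eq_prime ha.2.2 h)
      have h2 : b = 1 := by_contra fun h => hex b hb.2.1 (orderOf_eq_prime hb.2.2 h)
      rw [h1, h2]
  refine (Finset.card_le_mul_card_image A p (f := fun a => a ^ p) fun y hy => ?_).trans ?_
  · obtain ⟨a0, ha0, rfl⟩ := Finset.mem_image.mp hy
    refine le_trans ?_ hP
    refine Finset.card_le_card_of_injOn (· * a0⁻¹) (fun a ha => ?_)
      (fun a _ b _ h => mul_right_cancel h)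
    simp only [A, P, Finset.mem_filter, Finset.mem_coe, Finset.mem_univ, true_and] at ha ha0 ⊢
    refine ⟨M.mul_mem ha.1.1 (M.inv_mem ha0.1), ?_⟩
    rw [(hM a ha.1.1 _ (M.inv_mem ha0.1)).mul_pow, ha.2, inv_pow, mul_inv_cancel]
  · conv_rhs => rw [hm]
    refine Nat.mul_le_mul_left p (le_trans (Finset.card_le_card fun y hy => ?_) (ih m hmn hm0))
    obtain ⟨a, ha, rfl⟩ := Finset.mem_image.mp hy
    simp only [A, Finset.mem_filter, Finset.mem_univ, true_and] at ha ⊢
    refine ⟨M.pow_mem ha.1 p, ?_⟩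
    rw [← pow_mul, ← hm, ha.2]

/-- In an abelian subgroup an order determines the cyclic subgroup. -/
theorem Uniq.mem_zpowers [Finite K] (hU : Uniq K) (M : Subgroup K)
    (hM : ∀ a ∈ M, ∀ b ∈ M, Commute a b) {a b : K} (ha : a ∈ M) (hb : b ∈ M)
    (h : orderOf a ∣ orderOf b) : a ∈ zpowers b := by
  classical
  have := Fintype.ofFinite K
  set S := Finset.univ.filter fun x : K => x ∈ M ∧ x ^ orderOf b = 1
  set T := Finset.univ.filter fun x : K => x ∈ zpowers b
  have hTS : T ⊆ S := by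
    intro x hx
    simp only [T, Finset.mem_filter, Finset.mem_univ, true_and] at hx
    simp only [S, Finset.mem_filter, Finset.mem_univ, true_and]
    exact ⟨zpowers_le.mpr hb hx, orderOf_dvd_iff_pow_eq_one.mp (orderOf_dvd_of_mem_zpowers hx)⟩
  have hT : T.card = orderOf b := by
    rw [← Nat.card_zpowers, Nat.card_eq_fintype_card, Fintype.card_subtype]
  have he : T = S := Finset.eq_of_subset_of_card_le hTS
    (hT ▸ hU.card_pow_le M hM _ (orderOf_pos b))
  have : a ∈ T := he ▸ (by simp [S, ha, orderOf_dvd_iff_pow_eq_one.mp h])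
  simpa [T] using this

/-- Prime-power parts suffice. -/
theorem forall_of_prime_parts [Finite K] (M : Subgroup K) (y : K)
    (h : ∀ x ∈ M, ∀ p k : ℕ, p.Prime → orderOf x = p ^ k → Commute y x) :
    ∀ x ∈ M, Commute y x := by
  intro x
  induction hn : orderOf x using Nat.strong_induction_on generalizing x with
  | h n ih =>
  intro hx
  rcases eq_or_ne n 1 with rfl | hn1
  · rw [orderOf_eq_one_iff.mp hn]; exact Commute.one_right y
  have hp := Nat.minFac_prime hn1
  obtain ⟨k, m, hkm, hnd, hm, hpk, hsplit⟩ := exists_split hp x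
  have hk : k ≠ 0 := by
    rintro rfl
    rw [pow_zero, one_mul, hn] at hkm
    subst hkm
    exact hnd (Nat.minFac_dvd n)
  refine hsplit y ?_ (h _ (M.pow_mem hx m) _ k hp hpk)
  refine ih m ?_ _ hm (M.pow_mem hx _)
  have h0 := orderOf_pos x
  rw [hn] at hkm h0
  rw [hkm]
  exact lt_mul_left (Nat.pos_of_ne_zero fun h => by rw [h, mul_zero] at hkm; omega)
    (Nat.one_lt_pow hk hp.one_lt)

/-- A power of an element normalising a cyclic group centralises it. -/
theorem commute_pow_gcd [Finite K] {y x : K} {n j : ℕ} (hy : y ^ n = 1)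
    (hj : y * x * y⁻¹ = x ^ j) : Commute (y ^ n.gcd (Nat.totient (orderOf x))) x := by
  have hpow : ∀ i : ℕ, y ^ i * x * (y ^ i)⁻¹ = x ^ j ^ i := by
    intro i
    induction i with
    | zero => simp
    | succ i ih =>
      calc y ^ (i + 1) * x * (y ^ (i + 1))⁻¹ = y * (y ^ i * x * (y ^ i)⁻¹) * y⁻¹ := by
            rw [pow_succ' y]; group
        _ = x ^ j ^ (i + 1) := by rw [ih, ← conj_pow, hj, ← pow_mul, ← pow_succ']
  have hcop : j.Coprime (orderOf x) := by
    have h1 : orderOf (y * x * y⁻¹) = orderOf x :=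
      orderOf_injective (MulAut.conj y).toMonoidHom (MulAut.conj y).injective x
    rw [hj, orderOf_pow] at h1
    have hpos := orderOf_pos x
    have hdvd := Nat.gcd_dvd_left (orderOf x) j
    have h2 := Nat.div_mul_cancel hdvd
    rw [h1] at h2
    rw [Nat.coprime_comm, Nat.coprime_iff_gcd_eq_one]
    exact (Nat.mul_eq_left hpos.ne').mp h2
  set m := orderOf x
  set U : (ZMod m)ˣ := ZMod.unitOfCoprime j hcop
  have h1 : U ^ n = 1 := by
    refine Units.ext ?_
    rw [Units.val_pow_eq_pow_val, ZMod.coe_unitOfCoprime, Units.val_one, ← Nat.cast_pow,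
      ← Nat.cast_one (R := ZMod m), ZMod.natCast_eq_natCast_iff, ← pow_eq_pow_iff_modEq, pow_one]
    rw [← hpow, hy]; simp
  have h2 := pow_gcd_eq_one.mpr ⟨h1, ZMod.pow_totient U⟩
  refine mul_inv_eq_iff_eq_mul.mp ?_
  rw [hpow]
  conv_rhs => rw [← pow_one x]
  rw [pow_eq_pow_iff_modEq, ← ZMod.natCast_eq_natCast_iff, Nat.cast_pow, Nat.cast_one,
    ← ZMod.coe_unitOfCoprime j hcop, ← Units.val_pow_eq_pow_val, h2, Units.val_one]

/-- A normal layer between two normal subgroups. -/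
theorem exists_layer [Finite K] [Group.IsSolvable K] (M C : Subgroup K) [M.Normal] [hC : C.Normal]
    (hMC : M < C) :
    ∃ (B : Subgroup K) (r : ℕ), B.Normal ∧ M < B ∧ B ≤ C ∧ r.Prime ∧ (∀ b ∈ B, b ^ r ∈ M) ∧
      ∀ b ∈ B, ∀ c ∈ B, b * c * b⁻¹ * c⁻¹ ∈ M := by
  set f := QuotientGroup.mk' M with hf
  have hfs : Function.Surjective f := QuotientGroup.mk'_surjective M
  obtain ⟨c, hcC, hcM⟩ := SetLike.exists_of_lt hMC
  have hne : C.map f ≠ ⊥ := fun h => hcM ((QuotientGroup.eq_one_iff c).mp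
    (Subgroup.mem_bot.mp (h ▸ Subgroup.mem_map_of_mem f hcC)))
  have := hC.map f hfs
  obtain ⟨N, hNn, hNC, hN0, hNmin⟩ := exists_minimal_normal hne
  obtain ⟨hNc, r, hr, hexp⟩ := minimal_normal_elementary hN0 inferInstance hNmin
  refine ⟨N.comap f, r, hNn.comap f, ?_, fun b hb => ?_, hr, fun b hb => ?_, fun b hb d hd => ?_⟩
  · refine lt_of_le_of_ne (fun a ha => ?_) fun h => hN0 ?_
    · rw [Subgroup.mem_comap, show f a = 1 from (QuotientGroup.eq_one_iff a).mpr ha]
      exact one_mem N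
    · rw [eq_bot_iff]
      intro s hs
      obtain ⟨a, rfl⟩ := hfs s
      rw [Subgroup.mem_bot]
      exact (QuotientGroup.eq_one_iff a).mpr (h ▸ (Subgroup.mem_comap.mpr hs : a ∈ N.comap f))
  · obtain ⟨a, ha, he⟩ := hNC (Subgroup.mem_comap.mp hb)
    have h1 : a⁻¹ * b ∈ M := QuotientGroup.eq.mp he
    have := C.mul_mem ha (hMC.le h1)
    rwa [mul_inv_cancel_left] at this
  · refine (QuotientGroup.eq_one_iff _).mp ?_
    show f (b ^ r) = 1
    rw [map_pow]
    exact hexp _ (Subgroup.mem_comap.mp hb)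
  · refine (QuotientGroup.eq_one_iff _).mp ?_
    show f (b * d * b⁻¹ * d⁻¹) = 1
    have hc : Commute (f b) (f d) :=
      congrArg Subtype.val (hNc.is_comm.comm ⟨_, Subgroup.mem_comap.mp hb⟩ ⟨_, Subgroup.mem_comap.mp hd⟩)
    rw [map_mul, map_mul, map_mul, map_inv, map_inv, hc.eq, mul_inv_cancel_right, mul_inv_cancel]

/-- Powers of a product of two elements with central commutator. -/
theorem mul_pow_of_central {a b c : K} (h : b * a = a * b * c) (hca : Commute c a)
    (hcb : Commute c b) : ∀ n : ℕ, (a * b) ^ n = a ^ n * b ^ n * c ^ n.choose 2 := by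
  have hb : ∀ n : ℕ, b ^ n * a = a * b ^ n * c ^ n := by
    intro n
    induction n with
    | zero => simp
    | succ n ih =>
      calc b ^ (n + 1) * a = b ^ n * (b * a) := by rw [pow_succ, mul_assoc]
        _ = (b ^ n * a) * (b * c) := by rw [h]; group
        _ = a * b ^ n * (c ^ n * b) * c := by rw [ih]; group
        _ = a * b ^ (n + 1) * c ^ (n + 1) := by rw [(hcb.pow_left n).eq, pow_succ, pow_succ]; group
  intro n
  induction n with
  | zero => simp
  | succ n ih =>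
    calc (a * b) ^ (n + 1) = a ^ n * b ^ n * c ^ n.choose 2 * (a * b) := by rw [pow_succ, ih]
      _ = a ^ n * b ^ n * (c ^ n.choose 2 * a) * b := by group
      _ = a ^ n * (b ^ n * a) * (c ^ n.choose 2 * b) := by rw [(hca.pow_left _).eq]; group
      _ = a ^ n * a * b ^ n * (c ^ n * b) * c ^ n.choose 2 := by
        rw [hb, (hcb.pow_left (n.choose 2)).eq]; group
      _ = a ^ (n + 1) * b ^ (n + 1) * c ^ (n + 1).choose 2 := by
        rw [(hcb.pow_left n).eq, Nat.choose_succ_succ', Nat.choose_one_right, pow_add, pow_succ a,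
          pow_succ b]
        group

/-- The layer `B` over `M` is that of a quaternion group. -/
structure Quat (M B : Subgroup K) (z x v : K) : Prop where
  hB : B.Normal
  hMB : M ≤ B
  hBC : ∀ b ∈ B, ∀ m ∈ M, Commute b m
  hz : z ∈ M
  hz1 : z ≠ 1
  hz2 : z ^ 2 = 1
  hx : x ∈ B
  hv : v ∈ B
  hx2 : x ^ 2 = z
  hv2 : v ^ 2 = z
  hvx : v * x * v⁻¹ = x * z
  two : ∀ m ∈ M, ∀ k : ℕ, m ^ 2 ^ k = 1 → m = 1 ∨ m = z
  claim : ∀ t : K, (∃ k : ℕ, t ^ 2 ^ k = 1) → Commute t x → Commute t v → t = 1 ∨ t = z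
  cosets : ∀ b ∈ B, ∃ s, (s = 1 ∨ s = x ∨ s = v ∨ s = x * v) ∧ s⁻¹ * b ∈ M

theorem Uniq.eq_one_or [Finite K] (hU : Uniq K) {z t : K} (hz : z ^ 2 = 1) (hz1 : z ≠ 1)
    (ht : t ^ 2 = 1) : t = 1 ∨ t = z := by
  have : Fact (Nat.Prime 2) := ⟨Nat.prime_two⟩
  rcases eq_or_ne t 1 with h | h
  · exact Or.inl h
  · exact Or.inr (hU.two t z (orderOf_eq_prime ht h) (orderOf_eq_prime hz hz1))

/-- A nonabelian layer is quaternion. -/
theorem quat_of_layer [Finite K] (hU : Uniq K) (M B : Subgroup K) [hBn : B.Normal]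
    (hMB : M ≤ B) (hMab : ∀ a ∈ M, ∀ b ∈ M, Commute a b) (hBC : ∀ b ∈ B, ∀ m ∈ M, Commute b m)
    {r : ℕ} (hr : r.Prime) (hpow : ∀ b ∈ B, b ^ r ∈ M)
    (hcomm : ∀ b ∈ B, ∀ c ∈ B, b * c * b⁻¹ * c⁻¹ ∈ M)
    (hna : ∃ b ∈ B, ∃ c ∈ B, ¬ Commute b c) : ∃ z x v, Quat M B z x v := by
  have hrf := Fact.mk hr
  -- `r`-parts
  have hpart : ∀ a ∈ B, ∀ b ∈ B, ¬ Commute a b →
      ∃ a' ∈ B, (∃ k, orderOf a' = r ^ k) ∧ ¬ Commute a' b := by
    intro a ha b hb hab
    obtain ⟨k, m, -, hm, hmo, hpo, hsplit⟩ := exists_split hr a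
    refine ⟨a ^ m, B.pow_mem ha m, ⟨k, hpo⟩, fun h => hab ?_⟩
    refine (hsplit b ?_ h.symm).symm
    have hmem : a ^ r ^ k ∈ M := by
      obtain ⟨t, ht⟩ := exists_pow_eq_self_of_coprime (x := a ^ r ^ k) (n := r)
        (by rw [hmo]; exact (hr.coprime_iff_not_dvd).mpr hm)
      rw [← ht]
      exact M.pow_mem (hpow _ (B.pow_mem ha _)) t
    exact hBC b hb _ hmem
  obtain ⟨b0, hb0, c0, hc0, hbc⟩ := hna
  obtain ⟨x0, hx0, hx0o, hx0c⟩ := hpart b0 hb0 c0 hc0 hbc
  obtain ⟨w0, hw0, hw0o, hw0c⟩ := hpart c0 hc0 x0 hx0 fun h => hx0c h.symm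
  -- order them
  obtain ⟨x, hx, hxo, w, hw, hwo, hxw, hdvd⟩ : ∃ x ∈ B, (∃ k, orderOf x = r ^ k) ∧ ∃ w ∈ B,
      (∃ k, orderOf w = r ^ k) ∧ ¬ Commute x w ∧ orderOf (w ^ r) ∣ orderOf (x ^ r) := by
    obtain ⟨i, hi⟩ := hx0o
    obtain ⟨j, hj⟩ := hw0o
    have h1 : ∀ (t : K) (l : ℕ), orderOf t = r ^ l → orderOf (t ^ r) = r ^ (l - 1) := by
      intro t l hl
      rcases l with _ | l
      · rw [pow_zero] at hl
        rw [orderOf_eq_one_iff.mp hl, one_pow, orderOf_one, pow_zero]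
      · rw [orderOf_pow' t hr.ne_zero, hl, Nat.gcd_eq_right (dvd_pow_self r (Nat.succ_ne_zero l)),
          pow_succ, Nat.mul_div_cancel _ hr.pos, Nat.add_sub_cancel]
    rcases le_total i j with hle | hle
    · exact ⟨w0, hw0, ⟨j, hj⟩, x0, hx0, ⟨i, hi⟩, hw0c, by
        rw [h1 _ _ hi, h1 _ _ hj]; exact pow_dvd_pow r (by omega)⟩
    · exact ⟨x0, hx0, ⟨i, hi⟩, w0, hw0, ⟨j, hj⟩, fun h => hw0c h.symm, by
        rw [h1 _ _ hi, h1 _ _ hj]; exact pow_dvd_pow r (by omega)⟩
  obtain ⟨i, hi⟩ := Subgroup.mem_zpowers_iff.mp (hU.mem_zpowers M hMab (hpow w hw) (hpow x hx) hdvd)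
  set a := x ^ (-i) with ha
  have haB : a ∈ B := B.zpow_mem hx _
  set v := a * w with hv
  have hvB : v ∈ B := B.mul_mem haB hw
  have hvx : ¬ Commute v x := by
    intro h
    apply hxw
    have := ((Commute.refl x).zpow_right i).mul_right h.symm
    rwa [hv, ha, ← mul_assoc, ← zpow_add, add_neg_cancel, zpow_zero, one_mul] at this
  set c := (a * w)⁻¹ * (w * a) with hc
  have hcM : c ∈ M := by
    have h1 := hcomm _ (B.inv_mem hw) _ (B.inv_mem haB)
    have e : c = w⁻¹ * a⁻¹ * (w⁻¹)⁻¹ * (a⁻¹)⁻¹ := by rw [hc]; group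
    rwa [e]
  have hwa : w * a = a * w * c := by rw [hc]; group
  have hca : Commute c a := (hBC a haB c hcM).symm
  have hcw : Commute c w := (hBC w hw c hcM).symm
  have haw : a ^ r * w ^ r = 1 := by
    rw [← hi, ha, ← zpow_natCast (x ^ (-i)) r, ← zpow_mul, ← zpow_natCast x r, ← zpow_mul,
      ← zpow_add, show -i * (r : ℤ) + (r : ℤ) * i = 0 by ring, zpow_zero]
  have hcr : c ^ r = 1 := by
    have h1 : w * a ^ r * w⁻¹ = a ^ r * c ^ r := by
      rw [← conj_pow, ← hca.symm.mul_pow]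
      congr 1
      rw [hwa, mul_assoc a w c, ← hcw.eq]
      group
    rw [(hBC w hw _ (hpow a haB)).eq, mul_inv_cancel_right] at h1
    exact left_eq_mul.mp h1
  have hv1 : v ^ r = c ^ r.choose 2 := by
    rw [hv, mul_pow_of_central hwa hca hcw, haw, one_mul]
  have hvM : v ∉ M := fun h => hvx (hBC x hx v h).symm
  rcases hr.eq_two_or_odd' with rfl | hodd
  swap
  · exfalso
    have hch : r.choose 2 = r * ((r - 1) / 2) := by
      rw [Nat.choose_two_right, Nat.mul_div_assoc]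
      obtain ⟨k, rfl⟩ := hodd
      exact ⟨k, by omega⟩
    rw [hch, pow_mul, hcr, one_pow] at hv1
    set d := v * x * v⁻¹ * x⁻¹ with hd
    have hdM : d ∈ M := hcomm v hvB x hx
    have hd1 : d ≠ 1 := fun h1 => hvx (mul_inv_eq_iff_eq_mul.mp (mul_inv_eq_one.mp h1))
    have hdr : d ^ r = 1 := by
      have h1 : v * x ^ r * v⁻¹ = d ^ r * x ^ r := by
        rw [← conj_pow, show v * x * v⁻¹ = d * x by rw [hd]; group,
          (hBC x hx d hdM).symm.mul_pow]
      rw [(hBC v hvB _ (hpow x hx)).eq, mul_inv_cancel_right] at h1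
      exact right_eq_mul.mp h1
    exact hvM (zpowers_le.mpr hdM (hU.prime r d v hr (orderOf_eq_prime hdr hd1)
      (orderOf_eq_prime hv1 fun h1 => hvM (h1 ▸ M.one_mem)) (hBC v hvB d hdM).symm))
  -- the prime is `2`
  set z := v * x * v⁻¹ * x⁻¹ with hz
  have hzM : z ∈ M := hcomm v hvB x hx
  have hz1 : z ≠ 1 := fun h => hvx (mul_inv_eq_iff_eq_mul.mp (mul_inv_eq_one.mp h))
  have hvxz : v * x * v⁻¹ = x * z := by
    rw [(hBC x hx z hzM).eq, hz, inv_mul_cancel_right]
  have hz2 : z ^ 2 = 1 := by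
    have h1 : v * x ^ 2 * v⁻¹ = x ^ 2 * z ^ 2 := by
      rw [← conj_pow, hvxz, (hBC x hx z hzM).mul_pow]
    rw [(hBC v hvB _ (hpow x hx)).eq, mul_inv_cancel_right] at h1
    exact left_eq_mul.mp h1
  have hv2 : v ^ 2 = z := by
    rcases hU.eq_one_or hz2 hz1 hcr with h | h
    · exfalso
      rw [h, one_pow] at hv1
      rcases hU.eq_one_or hz2 hz1 hv1 with h' | h'
      exacts [hvM (h' ▸ M.one_mem), hvM (h' ▸ hzM)]
    · rw [Nat.choose_self, pow_one] at hv1
      rw [hv1, h]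
  have h4 : ∀ m ∈ M, m ^ 2 ≠ z := by
    intro m hm h
    have h1 : (v * m) ^ 2 = 1 := by rw [(hBC v hvB m hm).mul_pow, hv2, h, ← pow_two, hz2]
    apply hvM
    rcases hU.eq_one_or hz2 hz1 h1 with h' | h'
    · rw [eq_inv_of_mul_eq_one_left h']; exact M.inv_mem hm
    · rw [eq_mul_inv_of_mul_eq h']; exact M.mul_mem hzM (M.inv_mem hm)
  have htwo : ∀ m ∈ M, ∀ k : ℕ, m ^ 2 ^ k = 1 → m = 1 ∨ m = z := by
    intro m hm k
    induction k generalizing m with
    | zero => intro h; exact Or.inl (by rwa [pow_zero, pow_one] at h)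
    | succ k ih =>
      intro h
      rcases ih (m ^ 2) (M.pow_mem hm 2) (by rw [← pow_mul, ← pow_succ', h]) with h' | h'
      · exact hU.eq_one_or hz2 hz1 h'
      · exact absurd h' (h4 m hm)
  have hsq : ∀ b ∈ B, (∃ k, b ^ 2 ^ k = 1) → b ^ 2 = 1 ∨ b ^ 2 = z := by
    rintro b hb ⟨k, hk⟩
    exact htwo _ (hpow b hb) k (by rw [← pow_mul, mul_comm, pow_mul, hk, one_pow])
  obtain ⟨kx, hkx⟩ := hxo
  have hx2 : x ^ 2 = z := by
    refine (hsq x hx ⟨kx, hkx ▸ pow_orderOf_eq_one x⟩).resolve_left fun h => ?_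
    rcases hU.eq_one_or hz2 hz1 h with h' | h'
    exacts [hvx (h' ▸ Commute.one_right v), hvx (h' ▸ (hBC v hvB z hzM))]
  have hclaim : ∀ t : K, (∃ k : ℕ, t ^ 2 ^ k = 1) → Commute t x → Commute t v → t = 1 ∨ t = z := by
    rintro t ⟨k, hk⟩ htx htv
    induction k generalizing t with
    | zero => exact Or.inl (by rwa [pow_zero, pow_one] at hk)
    | succ k ih =>
      rcases ih (t ^ 2) (by rw [← pow_mul, ← pow_succ', hk])
        (htx.pow_left 2) (htv.pow_left 2) with h' | h'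
      · exact hU.eq_one_or hz2 hz1 h'
      · exfalso
        have h1 : (t * x) ^ 2 = 1 := by rw [htx.mul_pow, h', hx2, ← pow_two, hz2]
        apply hvx
        have hxe : x = t⁻¹ ∨ x = t⁻¹ * z := by
          rcases hU.eq_one_or hz2 hz1 h1 with h'' | h''
          · exact Or.inl (eq_inv_of_mul_eq_one_right h'')
          · exact Or.inr (eq_inv_mul_of_mul_eq h'')
        rcases hxe with e | e <;> rw [e]
        exacts [htv.symm.inv_right, htv.symm.inv_right.mul_right (hBC v hvB z hzM)]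
  refine ⟨z, x, v, hBn, hMB, hBC, hzM, hz1, hz2, hx, hvB, hx2, hv2, hvxz, htwo, hclaim, ?_⟩
  intro b hb
  have hsign : ∀ t ∈ B, t ^ 2 = z → b * t * b⁻¹ = t ∨ b * t * b⁻¹ = t * z := by
    intro t ht ht2
    have hm := hcomm b hb t ht
    have e : b * t * b⁻¹ = t * (b * t * b⁻¹ * t⁻¹) := by
      rw [(hBC t ht _ hm).eq, inv_mul_cancel_right]
    have h1 : b * t ^ 2 * b⁻¹ = t ^ 2 * (b * t * b⁻¹ * t⁻¹) ^ 2 := by
      rw [← conj_pow, ← (hBC t ht _ hm).mul_pow, ← e]
    rw [ht2, (hBC b hb z hzM).eq, mul_inv_cancel_right] at h1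
    rcases hU.eq_one_or hz2 hz1 (left_eq_mul.mp h1) with h | h
    · exact Or.inl (by rw [e, h, mul_one])
    · exact Or.inr (by rw [e, h])
  have hxvz : x * v * x⁻¹ = v * z := by
    have hvz : Commute v z := hBC v hvB z hzM
    have h1 : v * x = x * v * z := by
      rw [mul_inv_eq_iff_eq_mul.mp hvxz, mul_assoc, ← hvz.eq, ← mul_assoc]
    have h2 : v * x * z = x * v := by
      rw [h1, mul_assoc (x * v), ← pow_two, hz2, mul_one]
    calc x * v * x⁻¹ = v * (x * z) * x⁻¹ := by rw [← h2, mul_assoc v x z]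
      _ = v * z := by rw [(hBC x hx z hzM).eq]; group
  have key : ∀ s t t' : K, b * t * b⁻¹ = t' → s * t * s⁻¹ = t' → Commute (s⁻¹ * b) t := by
    intro s t t' e1 e2
    refine mul_inv_eq_iff_eq_mul.mp ?_
    calc s⁻¹ * b * t * (s⁻¹ * b)⁻¹ = s⁻¹ * (b * t * b⁻¹) * s := by group
      _ = t := by rw [e1, ← e2]; group
  obtain ⟨s, hs, hsB, hs1, hs2⟩ : ∃ s, (s = 1 ∨ s = x ∨ s = v ∨ s = x * v) ∧ s ∈ B ∧
      Commute (s⁻¹ * b) x ∧ Commute (s⁻¹ * b) v := by
    rcases hsign x hx hx2 with e1 | e1 <;> rcases hsign v hvB hv2 with e2 | e2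
    · exact ⟨1, Or.inl rfl, B.one_mem, key _ _ _ e1 (by simp), key _ _ _ e2 (by simp)⟩
    · exact ⟨x, Or.inr (Or.inl rfl), hx, key _ _ _ e1 (by simp), key _ _ _ e2 hxvz⟩
    · exact ⟨v, Or.inr (Or.inr (Or.inl rfl)), hvB, key _ _ _ e1 hvxz, key _ _ _ e2 (by simp)⟩
    · refine ⟨x * v, Or.inr (Or.inr (Or.inr rfl)), B.mul_mem hx hvB, key _ _ _ e1 ?_, key _ _ _ e2 ?_⟩
      · calc x * v * x * (x * v)⁻¹ = x * (v * x * v⁻¹) * x⁻¹ := by group
          _ = x * z := by rw [hvxz, ← mul_assoc, mul_assoc (x * x), ((hBC x hx z hzM).inv_left).symm.eq]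
                          group
      · calc x * v * v * (x * v)⁻¹ = x * v * x⁻¹ := by group
          _ = v * z := hxvz
  refine ⟨s, hs, ?_⟩
  set d := s⁻¹ * b with hd
  have hdB : d ∈ B := B.mul_mem (B.inv_mem hsB) hb
  obtain ⟨k, m, -, hm, hmo, hpo, -⟩ := exists_split Nat.prime_two d
  have h1 : d ^ 2 ^ k ∈ M := by
    obtain ⟨t, ht⟩ := exists_pow_eq_self_of_coprime (x := d ^ 2 ^ k) (n := 2)
      (by rw [hmo]; exact (Nat.prime_two.coprime_iff_not_dvd).mpr hm)
    rw [← ht]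
    exact M.pow_mem (hpow _ (B.pow_mem hdB _)) t
  have h2 : d ^ m ∈ M := by
    rcases hclaim (d ^ m) ⟨k, hpo ▸ pow_orderOf_eq_one _⟩ (hs1.pow_left m) (hs2.pow_left m) with h | h
    · rw [h]; exact M.one_mem
    · rw [h]; exact hzM
  have hcop : Nat.Coprime (2 ^ k) m := (Nat.prime_two.coprime_iff_not_dvd.mpr hm).pow_left k
  have hb' := Nat.gcd_eq_gcd_ab (2 ^ k) m
  rw [hcop] at hb'
  have e : d = (d ^ 2 ^ k) ^ Nat.gcdA (2 ^ k) m * (d ^ m) ^ Nat.gcdB (2 ^ k) m := by
    rw [← zpow_natCast d (2 ^ k), ← zpow_natCast d m, ← zpow_mul, ← zpow_mul, ← zpow_add, ← hb']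
    exact (zpow_one d).symm
  rw [e]
  exact M.mul_mem (M.zpow_mem h1 _) (M.zpow_mem h2 _)

end CfsgLib.S3Conj.Gow
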