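import Cfsg.Agent.Lib.S3Conj.Gow.Fpf

/-!
Few elements of orders `3`, `5` and `2 ^ a` in fixed-point-free solvable groups.
-/

set_option autoImplicit false

namespace CfsgLib.S3Conj.Gow

open Subgroup

universe u

variable {K : Type u} [Group K]

/-- Elements preserving both cosets act as elements of the layer. -/
theorem Quat.exists_inner {M B : Subgroup K} {z x v : K} (hQ : Quat M B z x v) {k : K}
    (h1 : k * x * k⁻¹ = x ∨ k * x * k⁻¹ = x * z) (h2 : k * v * k⁻¹ = v ∨ k * v * k⁻¹ = v * z) :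
    ∃ s, (s = 1 ∨ s = x ∨ s = v ∨ s = x * v) ∧ s ∈ B ∧ Commute (s⁻¹ * k) x ∧ Commute (s⁻¹ * k) v := by
  have hxz : Commute x z := hQ.hBC x hQ.hx z hQ.hz
  have hvz : Commute v z := hQ.hBC v hQ.hv z hQ.hz
  have hxvz : x * v * x⁻¹ = v * z := by
    have h1' : v * x = x * v * z := by
      rw [mul_inv_eq_iff_eq_mul.mp hQ.hvx, mul_assoc, ← hvz.eq, ← mul_assoc]
    have h2' : v * x * z = x * v := by
      rw [h1', mul_assoc (x * v), ← pow_two, hQ.hz2, mul_one]
    calc x * v * x⁻¹ = v * (x * z) * x⁻¹ := by rw [← h2', mul_assoc v x z]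
      _ = v * z := by rw [hxz.eq]; group
  have key : ∀ s t t' : K, k * t * k⁻¹ = t' → s * t * s⁻¹ = t' → Commute (s⁻¹ * k) t := by
    intro s t t' e1 e2
    refine mul_inv_eq_iff_eq_mul.mp ?_
    calc s⁻¹ * k * t * (s⁻¹ * k)⁻¹ = s⁻¹ * (k * t * k⁻¹) * s := by group
      _ = t := by rw [e1, ← e2]; group
  rcases h1 with e1 | e1 <;> rcases h2 with e2 | e2
  · exact ⟨1, Or.inl rfl, B.one_mem, key _ _ _ e1 (by simp), key _ _ _ e2 (by simp)⟩
  · exact ⟨x, Or.inr (Or.inl rfl), hQ.hx, key _ _ _ e1 (by simp), key _ _ _ e2 hxvz⟩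
  · exact ⟨v, Or.inr (Or.inr (Or.inl rfl)), hQ.hv, key _ _ _ e1 hQ.hvx, key _ _ _ e2 (by simp)⟩
  · refine ⟨x * v, Or.inr (Or.inr (Or.inr rfl)), B.mul_mem hQ.hx hQ.hv, key _ _ _ e1 ?_, key _ _ _ e2 ?_⟩
    · calc x * v * x * (x * v)⁻¹ = x * (v * x * v⁻¹) * x⁻¹ := by group
        _ = x * z := by rw [hQ.hvx, ← mul_assoc, mul_assoc (x * x), (hxz.inv_left).symm.eq]; group
    · calc x * v * v * (x * v)⁻¹ = x * v * x⁻¹ := by group
        _ = v * z := hxvz

theorem Quat.not_mem {M B : Subgroup K} {z x v : K} (hQ : Quat M B z x v) :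
    x ∉ M ∧ v ∉ M ∧ x * v ∉ M ∧ x⁻¹ * v ∉ M ∧ ¬ Commute v x := by
  have hc : ¬ Commute v x := fun h => hQ.hz1 (by
    have := hQ.hvx
    rw [h.eq, mul_inv_cancel_right] at this
    exact left_eq_mul.mp this)
  refine ⟨fun h => hc (hQ.hBC v hQ.hv x h), fun h => hc (hQ.hBC x hQ.hx v h).symm, fun h => hc ?_,
    fun h => hc ?_, hc⟩
  · have := ((Commute.refl x).inv_right).mul_right (hQ.hBC x hQ.hx _ h)
    rw [inv_mul_cancel_left] at this
    exact this.symm
  · have := (Commute.refl x).mul_right (hQ.hBC x hQ.hx _ h)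
    rw [mul_inv_cancel_left] at this
    exact this.symm

/-- The three cosets. -/
def Quat.iota {M B : Subgroup K} {z x v : K} (_ : Quat M B z x v) : Fin 3 → K := ![x, v, x * v]

theorem Quat.exists_unique_coset {M B : Subgroup K} [M.Normal] {z x v : K} (hQ : Quat M B z x v)
    {b : K} (hb : b ∈ B) (hbM : b ∉ M) : ∃! i : Fin 3, (hQ.iota i)⁻¹ * b ∈ M := by
  obtain ⟨hxM, hvM, hxvM, hxvM', -⟩ := hQ.not_mem
  obtain ⟨s, hs, hsb⟩ := hQ.cosets b hb
  have hd : ∀ i j : Fin 3, i ≠ j → (hQ.iota i)⁻¹ * hQ.iota j ∉ M := by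
    have h12 : x⁻¹ * v ∉ M := hxvM'
    have h13 : x⁻¹ * (x * v) ∉ M := by rwa [inv_mul_cancel_left]
    have h23 : v⁻¹ * (x * v) ∉ M := fun h => hxM (by
      have := (inferInstance : M.Normal).conj_mem _ h v
      simpa [mul_assoc] using this)
    have hinv : ∀ a b : K, a⁻¹ * b ∉ M → b⁻¹ * a ∉ M := fun a b h h' =>
      h (by simpa using M.inv_mem h')
    intro i j hij
    fin_cases i <;> fin_cases j <;>
      first
      | exact absurd rfl hij
      | exact h12
      | exact h13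
      | exact h23
      | exact hinv _ _ h12
      | exact hinv _ _ h13
      | exact hinv _ _ h23
  obtain ⟨i, hi⟩ : ∃ i : Fin 3, (hQ.iota i)⁻¹ * b ∈ M := by
    rcases hs with rfl | rfl | rfl | rfl
    · exact absurd (by simpa using hsb) hbM
    exacts [⟨0, hsb⟩, ⟨1, hsb⟩, ⟨2, hsb⟩]
  refine ⟨i, hi, fun j hj => ?_⟩
  by_contra hne
  exact hd j i hne (by simpa [mul_assoc] using M.mul_mem hj (M.inv_mem hi))

theorem Quat.conj_mem {M B : Subgroup K} [M.Normal] {z x v : K} (hQ : Quat M B z x v) (k : K)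
    (i : Fin 3) : k * hQ.iota i * k⁻¹ ∈ B ∧ k * hQ.iota i * k⁻¹ ∉ M := by
  obtain ⟨hxM, hvM, hxvM, -, -⟩ := hQ.not_mem
  have h : hQ.iota i ∈ B ∧ hQ.iota i ∉ M := by
    fin_cases i
    exacts [⟨hQ.hx, hxM⟩, ⟨hQ.hv, hvM⟩, ⟨B.mul_mem hQ.hx hQ.hv, hxvM⟩]
  refine ⟨hQ.hB.conj_mem _ h.1 k, fun h' => h.2 ?_⟩
  have := (inferInstance : M.Normal).conj_mem _ h' k⁻¹
  simpa [mul_assoc] using this

/-- The action on the three cosets. -/
noncomputable def Quat.sigma {M B : Subgroup K} [M.Normal] {z x v : K} (hQ : Quat M B z x v) (k : K)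
    (i : Fin 3) : Fin 3 :=
  (hQ.exists_unique_coset (hQ.conj_mem k i).1 (hQ.conj_mem k i).2).exists.choose

theorem Quat.sigma_spec {M B : Subgroup K} [M.Normal] {z x v : K} (hQ : Quat M B z x v) (k : K)
    (i : Fin 3) : (hQ.iota (hQ.sigma k i))⁻¹ * (k * hQ.iota i * k⁻¹) ∈ M :=
  (hQ.exists_unique_coset (hQ.conj_mem k i).1 (hQ.conj_mem k i).2).exists.choose_spec

theorem Quat.sigma_eq {M B : Subgroup K} [M.Normal] {z x v : K} (hQ : Quat M B z x v) (k : K)
    {i j : Fin 3} (h : (hQ.iota j)⁻¹ * (k * hQ.iota i * k⁻¹) ∈ M) : hQ.sigma k i = j :=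
  (hQ.exists_unique_coset (hQ.conj_mem k i).1 (hQ.conj_mem k i).2).unique (hQ.sigma_spec k i) h

theorem Quat.sigma_one {M B : Subgroup K} [M.Normal] {z x v : K} (hQ : Quat M B z x v) (i : Fin 3) :
    hQ.sigma 1 i = i := hQ.sigma_eq 1 (by simp)

theorem Quat.sigma_mul {M B : Subgroup K} [M.Normal] {z x v : K} (hQ : Quat M B z x v) (k l : K)
    (i : Fin 3) : hQ.sigma (k * l) i = hQ.sigma k (hQ.sigma l i) := by
  refine hQ.sigma_eq _ ?_
  have h1 := (inferInstance : M.Normal).conj_mem _ (hQ.sigma_spec l i) k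
  have h2 := hQ.sigma_spec k (hQ.sigma l i)
  have := M.mul_mem h2 h1
  simpa [mul_assoc] using this

/-- The action as a homomorphism. -/
noncomputable def Quat.perm {M B : Subgroup K} [M.Normal] {z x v : K} (hQ : Quat M B z x v) :
    K →* Equiv.Perm (Fin 3) where
  toFun k := ⟨hQ.sigma k, hQ.sigma k⁻¹,
    fun i => by rw [← hQ.sigma_mul, inv_mul_cancel, hQ.sigma_one],
    fun i => by rw [← hQ.sigma_mul, mul_inv_cancel, hQ.sigma_one]⟩
  map_one' := Equiv.ext hQ.sigma_one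
  map_mul' k l := Equiv.ext (hQ.sigma_mul k l)

theorem Quat.perm_apply {M B : Subgroup K} [M.Normal] {z x v : K} (hQ : Quat M B z x v) (k : K)
    (i : Fin 3) : hQ.perm k i = hQ.sigma k i := rfl

theorem perm_three_facts : (∀ σ : Equiv.Perm (Fin 3), σ ^ 6 = 1) ∧
    (Finset.univ.filter fun σ : Equiv.Perm (Fin 3) => σ ^ 3 = 1 ∧ σ ≠ 1).card ≤ 2 := by
  constructor <;> decide +kernel

/-- The kernel of the action on the cosets consists of inner elements. -/
theorem Quat.signs [Finite K] {M B : Subgroup K} [M.Normal] {z x v : K} (hQ : Quat M B z x v)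
    (hU : Uniq K) {k : K} (hk : hQ.perm k = 1) :
    (k * x * k⁻¹ = x ∨ k * x * k⁻¹ = x * z) ∧ (k * v * k⁻¹ = v ∨ k * v * k⁻¹ = v * z) := by
  have hkz : k * z * k⁻¹ = z := by
    rcases hU.eq_one_or hQ.hz2 hQ.hz1 (t := k * z * k⁻¹) (by rw [conj_pow, hQ.hz2]; simp) with h | h
    · exact absurd (conj_eq_one_iff.mp h) hQ.hz1
    · exact h
  have main : ∀ i : Fin 3, hQ.iota i ∈ B → hQ.iota i ^ 2 = z →
      k * hQ.iota i * k⁻¹ = hQ.iota i ∨ k * hQ.iota i * k⁻¹ = hQ.iota i * z := by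
    intro i hiB hi2
    have h := hQ.sigma_spec k i
    rw [← hQ.perm_apply, hk, Equiv.Perm.one_apply] at h
    set m := (hQ.iota i)⁻¹ * (k * hQ.iota i * k⁻¹) with hm
    have e : k * hQ.iota i * k⁻¹ = hQ.iota i * m := by rw [hm, mul_inv_cancel_left]
    have h1 : k * hQ.iota i ^ 2 * k⁻¹ = hQ.iota i ^ 2 * m ^ 2 := by
      rw [← conj_pow, e, (hQ.hBC _ hiB m h).mul_pow]
    rw [hi2, hkz] at h1
    rcases hU.eq_one_or hQ.hz2 hQ.hz1 (left_eq_mul.mp h1) with h' | h'
    · exact Or.inl (by rw [e, h', mul_one])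
    · exact Or.inr (by rw [e, h'])
  exact ⟨main 0 hQ.hx hQ.hx2, main 1 hQ.hv hQ.hv2⟩

/-- A maximal abelian normal subgroup and the group above it. -/
theorem exists_structure [Finite K] (hsolv : Group.IsSolvable K) (hU : Uniq K) :
    ∃ M : Subgroup K, M.Normal ∧ (∀ a ∈ M, ∀ b ∈ M, Commute a b) ∧
      ((∀ c : K, (∀ m ∈ M, Commute c m) → c ∈ M) ∨
        ∃ (B : Subgroup K) (z x v : K), Quat M B z x v ∧
          ∀ d : K, (∀ m ∈ M, Commute d m) → Commute d x → Commute d v → d ∈ M) := by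
  classical
  have := hsolv
  have : Fintype (Subgroup K) := Fintype.ofFinite _
  obtain ⟨M, hMmem, hmax⟩ := ((Finset.univ : Finset (Subgroup K)).filter fun A =>
      A.Normal ∧ ∀ a ∈ A, ∀ b ∈ A, Commute a b).exists_max_image (fun A => Nat.card A)
    ⟨⊥, Finset.mem_filter.mpr ⟨Finset.mem_univ _, (inferInstance : (⊥ : Subgroup K).Normal), fun a ha b _ => by
      rw [Subgroup.mem_bot.mp ha]; exact Commute.one_left b⟩⟩
  obtain ⟨-, hMn, hMab⟩ := Finset.mem_filter.mp hMmem
  refine ⟨M, hMn, hMab, ?_⟩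
  set C := centralizer (M : Set K) with hC
  have hCc : ∀ c, c ∈ C ↔ ∀ m ∈ M, Commute c m := fun c =>
    ⟨fun h m hm => (h m hm).symm, fun h m hm => (h m hm).eq.symm⟩
  have hMC : M ≤ C := fun a ha => (hCc a).mpr (hMab a ha)
  rcases eq_or_lt_of_le hMC with heq | hlt
  · exact Or.inl fun c hc => heq ▸ (hCc c).mpr hc
  refine Or.inr ?_
  -- a layer is never abelian
  have hlayer : ∀ (D : Subgroup K), D.Normal → D ≤ C → M < D → ∃ (B : Subgroup K) (z x v : K),
      B ≤ D ∧ Quat M B z x v := by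
    intro D hDn hDC hMD
    obtain ⟨B, r, hBn, hMB, hBD, hr, hpow, hcomm⟩ := exists_layer M D hMD
    have hna : ∃ b ∈ B, ∃ c ∈ B, ¬ Commute b c := by
      by_contra! hab
      have h1 := hmax B (Finset.mem_filter.mpr ⟨Finset.mem_univ _, hBn, hab⟩)
      exact hMB.ne (Subgroup.eq_of_le_of_card_ge hMB.le h1)
    obtain ⟨z, x, v, hQ⟩ := quat_of_layer hU M B hMB.le hMab
      (fun b hb m hm => (hCc b).mp (hDC (hBD hb)) m hm) hr hpow hcomm hna
    exact ⟨B, z, x, v, hBD, hQ⟩
  obtain ⟨B, z, x, v, -, hQ⟩ := hlayer C inferInstance le_rfl hlt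
  refine ⟨B, z, x, v, hQ, fun d hdM hdx hdv => ?_⟩
  by_contra hd
  have := hQ.hB
  set D := C ⊓ centralizer (B : Set K)
  have hdB : d ∈ centralizer (B : Set K) := by
    intro b hb
    obtain ⟨s, hs, hsb⟩ := hQ.cosets b hb
    have hds : Commute d s := by
      rcases hs with rfl | rfl | rfl | rfl
      exacts [Commute.one_right d, hdx, hdv, hdx.mul_right hdv]
    have := hds.mul_right (hdM _ hsb)
    rw [mul_inv_cancel_left] at this
    exact this.eq.symm
  have hMD : M < D := lt_of_le_of_ne (le_inf hMC fun m hm b hb => hQ.hBC b hb m hm)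
    fun h => hd (h ▸ ⟨(hCc d).mpr hdM, hdB⟩)
  obtain ⟨B', z', x', v', hB', hQ'⟩ := hlayer D inferInstance inf_le_left hMD
  have hzz : z' = z := by
    rcases hU.eq_one_or hQ.hz2 hQ.hz1 hQ'.hz2 with h | h
    · exact absurd h hQ'.hz1
    · exact h
  have hcx : ∀ b ∈ B, Commute b x' := fun b hb => (hB' hQ'.hx).2 b hb
  have h1 : (x * x') ^ 2 = 1 := by
    rw [(hcx x hQ.hx).mul_pow, hQ.hx2, hQ'.hx2, hzz, ← pow_two, hQ.hz2]
  apply hQ.not_mem.2.2.2.2
  rcases hU.eq_one_or hQ.hz2 hQ.hz1 h1 with h | h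
  · rw [eq_inv_of_mul_eq_one_left h]
    exact (hcx v hQ.hv).inv_right
  · rw [eq_mul_inv_of_mul_eq h]
    exact (hQ.hBC v hQ.hv z hQ.hz).mul_right (hcx v hQ.hv).inv_right

/-- Natural exponents. -/
theorem exists_pow_conj [Finite K] (hU : Uniq K) {M : Subgroup K} [hMn : M.Normal]
    (hMab : ∀ a ∈ M, ∀ b ∈ M, Commute a b) (k : K) {x : K} (hx : x ∈ M) :
    ∃ j : ℕ, k * x * k⁻¹ = x ^ j := by
  have h := hU.mem_zpowers M hMab (hMn.conj_mem x hx k) hx
    (dvd_of_eq (orderOf_injective (MulAut.conj k).toMonoidHom (MulAut.conj k).injective x))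
  rw [← mem_powers_iff_mem_zpowers, Submonoid.mem_powers_iff] at h
  obtain ⟨j, hj⟩ := h
  exact ⟨j, hj.symm⟩

/-- The elements of order `5` are few. -/
theorem exists_five [Finite K] (hsolv : Group.IsSolvable K) (hs : Smooth (Nat.card K)) (hU : Uniq K) :
    ∃ S : Finset K, S.card ≤ 4 ∧ ∀ y, orderOf y = 5 → y ∈ S := by
  classical
  have := Fintype.ofFinite K
  obtain ⟨M, hMn, hMab, hcase⟩ := exists_structure hsolv hU
  by_cases hc : ∃ c ∈ M, orderOf c = 5
  · obtain ⟨c, hcM, hc5⟩ := hc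
    refine ⟨(Finset.Icc 1 4).image (c ^ ·), Finset.card_image_le.trans (by simp), fun y hy => ?_⟩
    obtain ⟨j, hj⟩ := exists_pow_conj hU hMab y hcM
    have h := commute_pow_gcd (n := 5) (hy ▸ pow_orderOf_eq_one y) hj
    rw [hc5, show Nat.gcd 5 (Nat.totient 5) = 1 by rw [Nat.totient_prime (by norm_num)]; rfl,
      pow_one] at h
    have hmem := hU.prime 5 c y (by norm_num) hc5 hy h.symm
    rw [← mem_powers_iff_mem_zpowers, Submonoid.mem_powers_iff] at hmem
    obtain ⟨i, rfl⟩ := hmem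
    rw [Finset.mem_image]
    refine ⟨i % 5, Finset.mem_Icc.mpr ⟨?_, by omega⟩, by rw [← hc5, pow_mod_orderOf]⟩
    by_contra h0
    rw [← pow_mod_orderOf, hc5, show i % 5 = 0 by omega, pow_zero, orderOf_one] at hy
    omega
  refine ⟨∅, by simp, fun y hy => absurd hy fun _ => ?_⟩
  push Not at hc
  have hyM : ∀ m ∈ M, Commute y m := by
    refine forall_of_prime_parts M y fun x hx p k hp hpk => ?_
    rcases Nat.eq_zero_or_pos k with rfl | hk
    · rw [pow_zero, orderOf_eq_one_iff] at hpk; rw [hpk]; exact Commute.one_right y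
    have hp5 : p ≠ 5 := by
      rintro rfl
      refine hc (x ^ 5 ^ (k - 1)) (M.pow_mem hx _) ?_
      rw [orderOf_pow' x (pow_ne_zero _ (by norm_num)), hpk,
        Nat.gcd_eq_right (pow_dvd_pow 5 (by omega)), Nat.pow_div (by omega) (by norm_num),
        show k - (k - 1) = 1 by omega, pow_one]
    have hple := hs p hp (((dvd_pow_self p hk.ne').trans (dvd_of_eq hpk.symm)).trans (orderOf_dvd_natCard x))
    obtain ⟨j, hj⟩ := exists_pow_conj hU hMab y hx
    have h := commute_pow_gcd (n := 5) (hy ▸ pow_orderOf_eq_one y) hj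
    rwa [hpk, Nat.totient_prime_pow hp hk, show Nat.gcd 5 (p ^ (k - 1) * (p - 1)) = 1 from ?_,
      pow_one] at h
    refine (Nat.Prime.coprime_iff_not_dvd (by norm_num : Nat.Prime 5)).mpr fun hd => ?_
    rcases (Nat.Prime.dvd_mul (by norm_num)).mp hd with h' | h'
    · exact hp5 ((Nat.prime_dvd_prime_iff_eq (by norm_num) hp).mp
        ((show Nat.Prime 5 by norm_num).dvd_of_dvd_pow h')).symm
    · have h2 := hp.two_le
      have := Nat.le_of_dvd (by omega) h'
      omega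
  have hyn : y ∉ M := fun h => hc y h hy
  rcases hcase with h | ⟨B, z, x, v, hQ, hD⟩
  · exact hyn (h y hyM)
  have hperm : hQ.perm y = 1 := by
    have h5 : hQ.perm y ^ 5 = 1 := by rw [← map_pow, ← hy, pow_orderOf_eq_one, map_one]
    have := pow_gcd_eq_one.mpr ⟨h5, perm_three_facts.1 (hQ.perm y)⟩
    rwa [show Nat.gcd 5 6 = 1 from rfl, pow_one] at this
  obtain ⟨h1, h2⟩ := hQ.signs hU hperm
  obtain ⟨s, hs', hsB, hc1, hc2⟩ := hQ.exists_inner h1 h2
  have hyB : y ∈ B := by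
    have : s⁻¹ * y ∈ M := hD _ (fun m hm =>
      ((hQ.hBC s hsB m hm).inv_left).mul_left (hyM m hm)) hc1 hc2
    have := B.mul_mem hsB (hQ.hMB this)
    rwa [mul_inv_cancel_left] at this
  -- the layer has exponent two over `M`
  have hy2 : y ^ 2 ∈ M := by
    obtain ⟨t, ht, htb⟩ := hQ.cosets y hyB
    have htB : t ∈ B ∧ t ^ 2 ∈ M := by
      have hxv : (x * v) ^ 2 ∈ M := by
        have h1 : v * x = x * z * v := mul_inv_eq_iff_eq_mul.mp hQ.hvx
        have e : (x * v) ^ 2 = x * x * z * (v * v) := by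
          calc (x * v) ^ 2 = x * (v * x) * v := by rw [pow_two]; group
            _ = x * x * z * (v * v) := by rw [h1]; group
        rw [e, ← pow_two, ← pow_two, hQ.hx2, hQ.hv2]
        exact M.mul_mem (M.mul_mem hQ.hz hQ.hz) hQ.hz
      rcases ht with rfl | rfl | rfl | rfl
      exacts [⟨B.one_mem, by rw [one_pow]; exact M.one_mem⟩, ⟨hQ.hx, hQ.hx2 ▸ hQ.hz⟩,
        ⟨hQ.hv, hQ.hv2 ▸ hQ.hz⟩, ⟨B.mul_mem hQ.hx hQ.hv, hxv⟩]
    have e : y = t * (t⁻¹ * y) := (mul_inv_cancel_left t y).symm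
    rw [e, (hQ.hBC t htB.1 _ htb).mul_pow]
    exact M.mul_mem htB.2 (M.pow_mem htb 2)
  refine hyn ?_
  have e : y = (y ^ 2) ^ 3 := by
    rw [← pow_mul, ← pow_mod_orderOf, hy]; exact (pow_one y).symm
  rw [e]
  exact M.pow_mem hy2 3

/-- The elements of order `3` are few. -/
theorem exists_three [Finite K] (hsolv : Group.IsSolvable K) (hs : Smooth (Nat.card K)) (hU : Uniq K) :
    ∃ S : Finset K, S.card ≤ 8 ∧ ∀ y, orderOf y = 3 → y ∈ S := by
  classical
  have := Fintype.ofFinite K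
  obtain ⟨M, hMn, hMab, hcase⟩ := exists_structure hsolv hU
  by_cases hc : ∃ c ∈ M, orderOf c = 3
  · obtain ⟨c, hcM, hc3⟩ := hc
    refine ⟨(Finset.range 3).image (c ^ ·), (Finset.card_image_le).trans (by simp), fun y hy => ?_⟩
    obtain ⟨j, hj⟩ := exists_pow_conj hU hMab y hcM
    have h := commute_pow_gcd (n := 3) (hy ▸ pow_orderOf_eq_one y) hj
    rw [hc3, show Nat.gcd 3 (Nat.totient 3) = 1 by rw [Nat.totient_prime (by norm_num)]; rfl,
      pow_one] at h
    have hmem := hU.prime 3 c y (by norm_num) hc3 hy h.symm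
    rw [← mem_powers_iff_mem_zpowers, Submonoid.mem_powers_iff] at hmem
    obtain ⟨i, rfl⟩ := hmem
    rw [Finset.mem_image]
    exact ⟨i % 3, Finset.mem_range.mpr (Nat.mod_lt _ (by norm_num)), by rw [← hc3, pow_mod_orderOf]⟩
  push Not at hc
  have hyM : ∀ y, orderOf y = 3 → ∀ m ∈ M, Commute y m := by
    intro y hy
    refine forall_of_prime_parts M y fun x hx p k hp hpk => ?_
    rcases Nat.eq_zero_or_pos k with rfl | hk
    · rw [pow_zero, orderOf_eq_one_iff] at hpk; rw [hpk]; exact Commute.one_right y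
    have hp3 : p ≠ 3 := by
      rintro rfl
      refine hc (x ^ 3 ^ (k - 1)) (M.pow_mem hx _) ?_
      rw [orderOf_pow' x (pow_ne_zero _ (by norm_num)), hpk,
        Nat.gcd_eq_right (pow_dvd_pow 3 (by omega)), Nat.pow_div (by omega) (by norm_num),
        show k - (k - 1) = 1 by omega, pow_one]
    have hple := hs p hp (((dvd_pow_self p hk.ne').trans (dvd_of_eq hpk.symm)).trans (orderOf_dvd_natCard x))
    obtain ⟨j, hj⟩ := exists_pow_conj hU hMab y hx
    have h := commute_pow_gcd (n := 3) (hy ▸ pow_orderOf_eq_one y) hj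
    rwa [hpk, Nat.totient_prime_pow hp hk, show Nat.gcd 3 (p ^ (k - 1) * (p - 1)) = 1 from ?_,
      pow_one] at h
    refine (Nat.prime_three.coprime_iff_not_dvd).mpr fun hd => ?_
    rcases Nat.prime_three.dvd_mul.mp hd with h' | h'
    · exact hp3 ((Nat.prime_dvd_prime_iff_eq Nat.prime_three hp).mp
        (Nat.prime_three.dvd_of_dvd_pow h')).symm
    · have h2 := hp.two_le
      interval_cases p <;> first | omega | exact absurd hp (by decide)
  rcases hcase with h | ⟨B, z, x, v, hQ, hD⟩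
  · exact ⟨∅, by simp, fun y hy => absurd hy fun _ => hc y (h y (hyM y hy)) hy⟩
  set S := Finset.univ.filter fun y : K => orderOf y = 3 with hS
  refine ⟨S, ?_, fun y hy => by simp [hS, hy]⟩
  have hinB : ∀ k, (∀ m ∈ M, Commute k m) → hQ.perm k = 1 → k ∈ B := by
    intro k hkM hk
    obtain ⟨h1, h2⟩ := hQ.signs hU hk
    obtain ⟨s, -, hsB, hc1, hc2⟩ := hQ.exists_inner h1 h2
    have := B.mul_mem hsB (hQ.hMB (hD _ (fun m hm =>
      ((hQ.hBC s hsB m hm).inv_left).mul_left (hkM m hm)) hc1 hc2))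
    rwa [mul_inv_cancel_left] at this
  set P := Finset.univ.filter fun σ : Equiv.Perm (Fin 3) => σ ^ 3 = 1 ∧ σ ≠ 1 with hP
  have hfib : ∀ σ ∈ S.image hQ.perm, (S.filter fun y => hQ.perm y = σ).card ≤ 4 := by
    intro σ hσ
    obtain ⟨y0, hy0, rfl⟩ := Finset.mem_image.mp hσ
    replace hy0 : orderOf y0 = 3 := by simpa [hS] using hy0
    let T : Finset K := {1, x, v, x * v}
    have hT : T.card ≤ 4 := by
      refine (Finset.card_insert_le _ _).trans ?_
      refine Nat.add_le_add_right ((Finset.card_insert_le _ _).trans ?_) 1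
      refine Nat.add_le_add_right ((Finset.card_insert_le _ _).trans ?_) 1
      simp
    refine le_trans ?_ hT
    have hf : ∀ y, ∃ s, y ∈ (S.filter fun y => hQ.perm y = hQ.perm y0) →
        s ∈ T ∧ (y0 * s)⁻¹ * y ∈ M := by
      intro y
      by_cases hy : y ∈ S.filter fun y => hQ.perm y = hQ.perm y0
      · simp only [hS, Finset.mem_filter, Finset.mem_univ, true_and] at hy
        have hB : y0⁻¹ * y ∈ B := hinB _ (fun m hm =>
          ((hyM y0 hy0 m hm).inv_left).mul_left (hyM y hy.1 m hm))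
          (by rw [map_mul, map_inv, hy.2, inv_mul_cancel])
        obtain ⟨s, hs', hsm⟩ := hQ.cosets _ hB
        refine ⟨s, fun _ => ⟨?_, by rwa [mul_inv_rev, mul_assoc]⟩⟩
        rcases hs' with rfl | rfl | rfl | rfl <;> simp [T]
      · exact ⟨1, fun h => absurd h hy⟩
    choose f hf using hf
    refine Finset.card_le_card_of_injOn f (fun y hy => (hf y hy).1) fun a ha b hb hab => ?_
    have h1 := (hf a ha).2
    have h2 := (hf b hb).2
    rw [← hab] at h2
    have hm : a⁻¹ * b ∈ M := by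
      have := M.mul_mem (M.inv_mem h1) h2
      simpa [mul_assoc] using this
    simp only [hS, Finset.coe_filter, Finset.mem_filter, Finset.mem_univ, true_and,
      Set.mem_setOf_eq] at ha hb
    set m := a⁻¹ * b with hmdef
    have hb' : b = a * m := (mul_inv_cancel_left a b).symm
    have h3 : m ^ 3 = 1 := by
      have h := hb.1 ▸ pow_orderOf_eq_one b
      rwa [hb', (hyM a ha.1 m hm).mul_pow, ← ha.1, pow_orderOf_eq_one, one_mul, ha.1] at h
    rw [hb']
    rcases (Nat.dvd_prime Nat.prime_three).mp (orderOf_dvd_of_pow_eq_one h3) with h | h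
    · rw [orderOf_eq_one_iff.mp h, mul_one]
    · exact absurd h (hc m hm)
  refine (Finset.card_le_mul_card_image S 4 hfib).trans ?_
  have himg : S.image hQ.perm ⊆ P := by
    intro σ hσ
    obtain ⟨y, hy, rfl⟩ := Finset.mem_image.mp hσ
    replace hy : orderOf y = 3 := by simpa [hS] using hy
    refine Finset.mem_filter.mpr ⟨Finset.mem_univ _, by rw [← map_pow, orderOf_dvd_iff_pow_eq_one.mp hy.dvd, map_one],
      fun h1 => ?_⟩
    have hyB := hinB y (hyM y hy) h1
    obtain ⟨t, ht, htb⟩ := hQ.cosets y hyB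
    -- `y` squares into `M` up to the four coset representatives
    have ht4 : t ^ 4 = 1 := by
      have hxv : (x * v) ^ 4 = 1 := by
        have h1 : v * x = x * z * v := mul_inv_eq_iff_eq_mul.mp hQ.hvx
        have e : (x * v) ^ 2 = x * x * z * (v * v) := by
          calc (x * v) ^ 2 = x * (v * x) * v := by rw [pow_two]; group
            _ = x * x * z * (v * v) := by rw [h1]; group
        rw [show 4 = 2 * 2 from rfl, pow_mul, e, ← pow_two x, ← pow_two v, hQ.hx2, hQ.hv2,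
          ← pow_two z, hQ.hz2, one_mul, hQ.hz2]
      rcases ht with rfl | rfl | rfl | rfl
      exacts [one_pow 4, by rw [show 4 = 2 * 2 from rfl, pow_mul, hQ.hx2, hQ.hz2],
        by rw [show 4 = 2 * 2 from rfl, pow_mul, hQ.hv2, hQ.hz2], hxv]
    have htB : t ∈ B := by
      rcases ht with rfl | rfl | rfl | rfl
      exacts [B.one_mem, hQ.hx, hQ.hv, B.mul_mem hQ.hx hQ.hv]
    refine hc y ?_ hy
    have e : y = (t * (t⁻¹ * y)) ^ 4 := by
      rw [mul_inv_cancel_left, ← pow_mod_orderOf, hy]; exact (pow_one y).symm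
    rw [e, (hQ.hBC t htB _ htb).mul_pow, ht4, one_mul]
    exact M.pow_mem htb 4
  calc 4 * (S.image hQ.perm).card ≤ 4 * 2 :=
        Nat.mul_le_mul_left 4 ((Finset.card_le_card himg).trans perm_three_facts.2)
    _ = 8 := rfl

/-- A `2`-element acting as a power `≡ 1 (mod 4)` on a cyclic `2`-group centralises it. -/
theorem commute_of_one_mod_four [Finite K] (hU : Uniq K) (a : ℕ) : ∀ {h x : K} {k j : ℕ},
    h ^ 2 ^ a = 1 → orderOf x = 2 ^ (k + 3) → h * x * h⁻¹ = x ^ j → j % 4 = 1 → Commute h x := by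
  induction a with
  | zero =>
    intro h x k j hh _ _ _
    rw [pow_zero, pow_one] at hh
    rw [hh]; exact Commute.one_left x
  | succ a ih =>
    intro h x k j hh hx hj hj4
    have hconj2 : h ^ 2 * x * (h ^ 2)⁻¹ = x ^ (j * j) := by
      calc h ^ 2 * x * (h ^ 2)⁻¹ = h * (h * x * h⁻¹) * h⁻¹ := by rw [pow_two]; group
        _ = (h * x * h⁻¹) ^ j := by rw [conj_pow, hj]
        _ = x ^ (j * j) := by rw [hj, ← pow_mul]
    have hc : Commute (h ^ 2) x := ih (by rw [← pow_mul, ← pow_succ', hh]) hx hconj2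
      (by rw [Nat.mul_mod, hj4])
    have hjj : j * j ≡ 1 [MOD 2 ^ (k + 3)] := by
      rw [← hx, ← pow_eq_pow_iff_modEq, ← hconj2, hc.eq, mul_inv_cancel_right, pow_one]
    obtain ⟨t, ht⟩ : ∃ t, j = 4 * t + 1 := ⟨j / 4, by omega⟩
    have hdvd : 2 ^ k ∣ t := by
      have h1 : 2 ^ (k + 3) ∣ j * j - 1 :=
        (Nat.modEq_iff_dvd' (Nat.one_le_iff_ne_zero.mpr (Nat.mul_ne_zero (by omega) (by omega)))).mp hjj.symm
      have e : j * j - 1 = 2 ^ 3 * (t * (2 * t + 1)) := by
        rw [ht]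
        have : (4 * t + 1) * (4 * t + 1) = 2 ^ 3 * (t * (2 * t + 1)) + 1 := by ring
        omega
      rw [e, pow_add, mul_comm (2 ^ k)] at h1
      exact (Nat.Coprime.dvd_mul_right (Nat.Coprime.pow_left k
        (Nat.prime_two.coprime_iff_not_dvd.mpr (by omega)))).mp (Nat.dvd_of_mul_dvd_mul_left (by norm_num) h1)
    obtain ⟨t', ht'⟩ := hdvd
    set z := x ^ 2 ^ (k + 2) with hz
    have hz2 : z ^ 2 = 1 := by
      rw [hz, ← pow_mul, ← pow_succ, ← hx, pow_orderOf_eq_one]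
    have hz1 : z ≠ 1 := fun h1 => by
      have := orderOf_dvd_of_pow_eq_one h1
      rw [hx, Nat.pow_dvd_pow_iff_le_right (le_refl 2)] at this
      omega
    have hxj : h * x * h⁻¹ = x * z ^ t' := by
      rw [hj, ht, ht', pow_succ', hz, ← pow_mul]
      congr 2
      ring
    rcases Nat.even_or_odd' t' with ⟨s, rfl | rfl⟩
    · rw [pow_mul, hz2, one_pow, mul_one] at hxj
      exact mul_inv_eq_iff_eq_mul.mp hxj
    rw [pow_add, pow_mul, hz2, one_pow, one_mul, pow_one] at hxj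
    by_contra hno
    -- `⟨x, h²⟩` is cyclic
    set A := Subgroup.closure ({x, h ^ 2} : Set K) with hA
    have hcS : ∀ u ∈ ({x, h ^ 2} : Set K), ∀ w ∈ ({x, h ^ 2} : Set K), Commute u w := by
      intro u hu w hw
      simp only [Set.mem_insert_iff, Set.mem_singleton_iff] at hu hw
      rcases hu with rfl | rfl <;> rcases hw with rfl | rfl
      exacts [Commute.refl _, hc.symm, hc, Commute.refl _]
    have hAab : ∀ u ∈ A, ∀ w ∈ A, Commute u w := by
      intro u hu w hw
      have hle : A ≤ centralizer ({x, h ^ 2} : Set K) := (Subgroup.closure_le _).mpr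
        fun s hs t ht => (hcS t ht s hs).eq
      have hle2 : A ≤ centralizer (A : Set K) := (Subgroup.closure_le _).mpr
        fun s hs t ht => ((hle ht) s hs).symm
      exact ((hle2 hw) u hu : u * w = w * u)
    have hxA : x ∈ A := Subgroup.subset_closure (by simp)
    have hhA : h ^ 2 ∈ A := Subgroup.subset_closure (by simp)
    have hxh : x ∉ zpowers (h ^ 2) := by
      intro hmem
      obtain ⟨i, hi⟩ := Subgroup.mem_zpowers_iff.mp hmem
      exact hno (hi ▸ ((Commute.refl h).pow_right 2).zpow_right i)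
    have hhx : h ^ 2 ∈ zpowers x := by
      obtain ⟨l, -, hl⟩ := (Nat.dvd_prime_pow Nat.prime_two).mp
        (orderOf_dvd_of_pow_eq_one (show (h ^ 2) ^ 2 ^ a = 1 by rw [← pow_mul, ← pow_succ', hh]))
      rcases le_total l (k + 3) with hle | hle
      · exact hU.mem_zpowers A hAab hhA hxA (by rw [hx, hl]; exact pow_dvd_pow 2 hle)
      · exact absurd (hU.mem_zpowers A hAab hxA hhA (by rw [hx, hl]; exact pow_dvd_pow 2 hle)) hxh
    obtain ⟨c, hc2⟩ := Subgroup.mem_zpowers_iff.mp hhx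
    have hzc : Commute x z := (Commute.refl x).pow_right _
    have hzpow : z ^ c = 1 := by
      have h1 : h * x ^ c * h⁻¹ = x ^ c * z ^ c := by rw [← conj_zpow, hxj, hzc.mul_zpow]
      rw [hc2, ((Commute.refl h).pow_right 2).eq, mul_inv_cancel_right] at h1
      exact left_eq_mul.mp h1
    obtain ⟨d, hd⟩ : (2 : ℤ) ∣ c := by
      rw [← orderOf_dvd_iff_zpow_eq_one] at hzpow
      have : Fact (Nat.Prime 2) := ⟨Nat.prime_two⟩
      rwa [orderOf_eq_prime hz2 hz1] at hzpow
    set w := h * x ^ (-d) with hw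
    have hw2 : w ^ 2 = z ^ (-d) := by
      calc w ^ 2 = (h * x ^ (-d) * h⁻¹) * h ^ 2 * x ^ (-d) := by rw [hw, pow_two, pow_two]; group
        _ = x ^ (-d) * z ^ (-d) * x ^ c * x ^ (-d) := by rw [← conj_zpow, hxj, hzc.mul_zpow, hc2]
        _ = z ^ (-d) := by
          rw [((hzc.zpow_zpow (-d) (-d))).eq, mul_assoc, mul_assoc, ← mul_assoc (x ^ (-d)),
            ← zpow_add, ← zpow_add, hd]
          rw [show -d + 2 * d + -d = 0 by ring, zpow_zero, mul_one]
    have hwx : ¬ Commute w x := by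
      intro hcw
      have := hcw.mul_left (((Commute.refl x).zpow_left d))
      rw [hw, mul_assoc, ← zpow_add, neg_add_cancel, zpow_zero, mul_one] at this
      exact hno this
    have hzm : z ^ (-d) = 1 ∨ z ^ (-d) = z := hU.eq_one_or hz2 hz1 (by
      rw [← zpow_natCast (z ^ (-d)) 2, ← zpow_mul, mul_comm, zpow_mul, zpow_natCast, hz2, one_zpow])
    rcases hzm with e | e <;> rw [e] at hw2
    · rcases hU.eq_one_or hz2 hz1 hw2 with h' | h' <;> apply hwx <;> rw [h']
      exacts [Commute.one_left x, hzc.symm]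
    · set i4 := x ^ 2 ^ (k + 1) with hi4
      have hi2 : i4 ^ 2 = z := by rw [hi4, hz, ← pow_mul, ← pow_succ]
      have hwi : Commute w i4 := by
        have h1 : h * i4 * h⁻¹ = i4 := by
          rw [hi4, ← conj_pow, hxj, hzc.mul_pow]
          have : z ^ 2 ^ (k + 1) = 1 := by rw [pow_succ', pow_mul, hz2, one_pow]
          rw [this, mul_one]
        exact Commute.mul_left (show Commute h i4 from mul_inv_eq_iff_eq_mul.mp h1)
          (((Commute.refl x).zpow_left (-d)).pow_right _)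
      have h1 : (w * i4) ^ 2 = 1 := by rw [hwi.mul_pow, hw2, hi2, ← pow_two, hz2]
      apply hwx
      rcases hU.eq_one_or hz2 hz1 h1 with h' | h'
      · rw [eq_inv_of_mul_eq_one_left h']
        exact (((Commute.refl x).pow_right _).symm).inv_left
      · rw [eq_mul_inv_of_mul_eq h']
        exact hzc.symm.mul_left (((Commute.refl x).pow_right _).symm).inv_left

/-- The fourth powers of large `2`-elements are few. -/
theorem exists_two [Finite K] (hsolv : Group.IsSolvable K) (hs : Smooth (Nat.card K)) (hU : Uniq K)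
    {a : ℕ} (ha : 4 ≤ a) :
    ∃ S : Finset K, S.card ≤ 2 ^ (a - 2) ∧ ∀ g, orderOf g = 2 ^ a → g ^ 4 ∈ S := by
  classical
  have := Fintype.ofFinite K
  have : Fact (Nat.Prime 2) := ⟨Nat.prime_two⟩
  obtain ⟨M, hMn, hMab, hcase⟩ := exists_structure hsolv hU
  refine ⟨Finset.univ.filter fun m => m ∈ M ∧ m ^ 2 ^ (a - 2) = 1,
    hU.card_pow_le M hMab _ (pow_pos two_pos _), fun g hg => ?_⟩
  have hgpow : g ^ 2 ^ a = 1 := hg ▸ pow_orderOf_eq_one g
  suffices hM : g ^ 4 ∈ M by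
    refine Finset.mem_filter.mpr ⟨Finset.mem_univ _, hM, ?_⟩
    rw [← pow_mul, show 4 * 2 ^ (a - 2) = 2 ^ a by
      rw [show (4 : ℕ) = 2 ^ 2 from rfl, ← pow_add]; congr 1; omega, hgpow]
  rcases hcase with h | ⟨B, z, x, v, hQ, hD⟩
  · refine h _ (forall_of_prime_parts M (g ^ 4) fun x hx p k hp hpk => ?_)
    rcases Nat.eq_zero_or_pos k with rfl | hk
    · rw [pow_zero, orderOf_eq_one_iff] at hpk; rw [hpk]; exact Commute.one_right _
    have hple := hs p hp (((dvd_pow_self p hk.ne').trans (dvd_of_eq hpk.symm)).trans (orderOf_dvd_natCard x))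
    obtain ⟨j, hj⟩ := exists_pow_conj hU hMab g hx
    have h := commute_pow_gcd hgpow hj
    rw [hpk, Nat.totient_prime_pow hp hk] at h
    have of_dvd : Nat.gcd (2 ^ a) (p ^ (k - 1) * (p - 1)) ∣ 4 → Commute (g ^ 4) x := by
      rintro ⟨c, hc⟩
      rw [hc, pow_mul]
      exact h.pow_left c
    have h2p : p = 2 ∨ p = 3 ∨ p = 5 := by
      have := hp.two_le
      interval_cases p <;> first | omega | exact absurd hp (by decide)
    have hodd : p ≠ 2 → Nat.gcd (2 ^ a) (p ^ (k - 1) * (p - 1)) ∣ p - 1 := fun hne => by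
      refine Nat.Coprime.dvd_of_dvd_mul_left ?_ (Nat.gcd_dvd_right _ _)
      exact Nat.Coprime.coprime_dvd_left (Nat.gcd_dvd_left _ _)
        (Nat.Coprime.pow _ _ ((Nat.coprime_primes Nat.prime_two hp).mpr (Ne.symm hne)))
    rcases h2p with rfl | rfl | rfl
    · rcases Nat.lt_or_ge k 3 with hk3 | hk3
      · refine of_dvd ((Nat.gcd_dvd_right _ _).trans ?_)
        interval_cases k <;> norm_num
      obtain ⟨k', rfl⟩ : ∃ k', k = k' + 3 := ⟨k - 3, by omega⟩
      have hj2 : g ^ 2 * x * (g ^ 2)⁻¹ = x ^ (j * j) := by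
        calc g ^ 2 * x * (g ^ 2)⁻¹ = g * (g * x * g⁻¹) * g⁻¹ := by rw [pow_two]; group
          _ = (g * x * g⁻¹) ^ j := by rw [conj_pow, hj]
          _ = x ^ (j * j) := by rw [hj, ← pow_mul]
      have hjodd : j % 2 = 1 := by
        by_contra hne
        have h1 : orderOf (g * x * g⁻¹) = orderOf x :=
          orderOf_injective (MulAut.conj g).toMonoidHom (MulAut.conj g).injective x
        have h2 : (g * x * g⁻¹) ^ 2 ^ (k' + 2) = 1 := by
          obtain ⟨i, rfl⟩ : 2 ∣ j := by omega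
          rw [hj, ← pow_mul, mul_comm 2 i, mul_assoc, ← pow_succ', mul_comm i, pow_mul, ← hpk,
            pow_orderOf_eq_one, one_pow]
        have h3 := orderOf_dvd_of_pow_eq_one h2
        rw [h1, hpk, Nat.pow_dvd_pow_iff_le_right (le_refl 2)] at h3
        omega
      have h2 := commute_of_one_mod_four hU a (h := g ^ 2) (k := k')
        (by rw [← pow_mul, mul_comm, pow_mul, hgpow, one_pow]) hpk hj2
        (by rw [Nat.mul_mod]; rcases (show j % 4 = 1 ∨ j % 4 = 3 by omega) with e | e <;> rw [e])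
      rw [show g ^ 4 = (g ^ 2) ^ 2 from pow_mul g 2 2]
      exact h2.pow_left 2
    · exact of_dvd ((hodd (by norm_num)).trans (by norm_num))
    · exact of_dvd ((hodd (by norm_num)).trans (by norm_num))
  -- in the quaternion case `2`-elements have order at most `8`
  exfalso
  have hperm : hQ.perm (g ^ 2) = 1 := by
    have h1 : hQ.perm g ^ 2 ^ a = 1 := by rw [← map_pow, hgpow, map_one]
    have h2 := pow_gcd_eq_one.mpr ⟨h1, perm_three_facts.1 (hQ.perm g)⟩
    obtain ⟨b, rfl⟩ : ∃ b, a = b + 1 := ⟨a - 1, by omega⟩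
    rw [map_pow]
    rwa [show (6 : ℕ) = 2 * 3 from rfl, pow_succ', Nat.gcd_mul_left,
      Nat.Coprime.gcd_eq_one (Nat.Coprime.pow_left b (by norm_num)), mul_one] at h2
  obtain ⟨h1, h2⟩ := hQ.signs hU hperm
  obtain ⟨s, hs', hsB, hc1, hc2⟩ := hQ.exists_inner h1 h2
  set t := s⁻¹ * g ^ 2 with ht
  have hts : Commute t s := by
    rcases hs' with rfl | rfl | rfl | rfl
    exacts [Commute.one_right _, hc1, hc2, hc1.mul_right hc2]
  have hs4 : s ^ 4 = 1 := by
    have hxv : (x * v) ^ 4 = 1 := by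
      have h1 : v * x = x * z * v := mul_inv_eq_iff_eq_mul.mp hQ.hvx
      have e : (x * v) ^ 2 = x * x * z * (v * v) := by
        calc (x * v) ^ 2 = x * (v * x) * v := by rw [pow_two]; group
          _ = x * x * z * (v * v) := by rw [h1]; group
      rw [show 4 = 2 * 2 from rfl, pow_mul, e, ← pow_two x, ← pow_two v, hQ.hx2, hQ.hv2,
        ← pow_two z, hQ.hz2, one_mul, hQ.hz2]
    rcases hs' with rfl | rfl | rfl | rfl
    exacts [one_pow 4, by rw [show 4 = 2 * 2 from rfl, pow_mul, hQ.hx2, hQ.hz2],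
      by rw [show 4 = 2 * 2 from rfl, pow_mul, hQ.hv2, hQ.hz2], hxv]
  have hg2 : g ^ 2 = s * t := by rw [ht, mul_inv_cancel_left]
  have htpow : t ^ 2 ^ a = 1 := by
    have h : (g ^ 2) ^ 2 ^ a = 1 := by rw [← pow_mul, mul_comm, pow_mul, hgpow, one_pow]
    rwa [hg2, hts.symm.mul_pow, show 2 ^ a = 4 * 2 ^ (a - 2) by
      rw [show (4 : ℕ) = 2 ^ 2 from rfl, ← pow_add]; congr 1; omega, pow_mul, hs4, one_pow, one_mul,
      ← show 2 ^ a = 4 * 2 ^ (a - 2) by
        rw [show (4 : ℕ) = 2 ^ 2 from rfl, ← pow_add]; congr 1; omega] at h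
  have ht2 : t ^ 2 = 1 := by
    rcases hQ.claim t ⟨a, htpow⟩ hc1 hc2 with h | h <;> rw [h]
    exacts [one_pow 2, hQ.hz2]
  have h8 : g ^ 8 = 1 := by
    rw [show 8 = 2 * 4 from rfl, pow_mul, hg2, hts.symm.mul_pow, hs4, one_mul,
      show 4 = 2 * 2 from rfl, pow_mul, ht2, one_pow]
  have := orderOf_dvd_of_pow_eq_one h8
  rw [hg, show (8 : ℕ) = 2 ^ 3 from rfl, Nat.pow_dvd_pow_iff_le_right (le_refl 2)] at this
  omega

end CfsgLib.S3Conj.Gow
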