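import Cfsg.Agent.Lib.S3Conj.Gow.Radical

/-!
Fixed spaces of maximal stabilisers in the radical, and pairs of them.
-/

set_option autoImplicit false

namespace CfsgLib.S3Conj.Gow

open Subgroup

universe u v

attribute [local instance] fact_prime_seven

variable {H : Type v} [Group H] {V : Type u} [AddCommGroup V] [Module (ZMod 7) V]
  {ρ : H →* Module.End (ZMod 7) V} {R : Subgroup H} {X : Submodule (ZMod 7) V}

theorem vec_eq_zero_of_eq_neg {v : V} (h : v = -v) : v = 0 := by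
  have h2 : (2 : ZMod 7) • v = 0 := by rw [two_smul]; nth_rw 2 [h]; rw [add_neg_cancel]
  exact (smul_eq_zero.mp h2).resolve_left (by decide)

/-- The elements acting trivially on a subspace. -/
def Fx (ρ : H →* Module.End (ZMod 7) V) (X : Submodule (ZMod 7) V) (t : H) : Prop :=
  ∀ x ∈ X, ρ t x = x

/-- The fixed space of a maximal stabiliser. -/
structure Fixed (ρ : H →* Module.End (ZMod 7) V) (R : Subgroup H) (X : Submodule (ZMod 7) V) :
    Prop where
  ne : X ≠ ⊥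
  fix : ∀ t ∈ R, ∀ u ∈ X, u ≠ 0 → ρ t u = u → Fx ρ X t
  mem : ∀ u ∈ X, u ≠ 0 → ∀ v, (∀ t ∈ R, ρ t u = u → ρ t v = v) → v ∈ X

theorem exists_fixed_space [Finite V] [Finite H] [Nontrivial V] (ρ : H →* Module.End (ZMod 7) V)
    (R : Subgroup H) : ∃ X, Fixed ρ R X := by
  classical
  have := Fintype.ofFinite V
  let T : V → Set H := fun v => {h | h ∈ R ∧ ρ h v = v}
  obtain ⟨u, hu⟩ := exists_ne (0 : V)
  obtain ⟨u0, hu0, hmax⟩ := ((Finset.univ : Finset V).filter (· ≠ 0)).exists_max_image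
    (fun v => Nat.card (T v)) ⟨u, by simp [hu]⟩
  replace hu0 : u0 ≠ 0 := by simpa using hu0
  let X : Submodule (ZMod 7) V :=
    { carrier := {v | ∀ h ∈ T u0, ρ h v = v}
      zero_mem' := fun h _ => map_zero _
      add_mem' := fun {a b} ha hb h hh => by rw [map_add, ha h hh, hb h hh]
      smul_mem' := fun c {a} ha h hh => by rw [map_smul, ha h hh] }
  have hu0X : u0 ∈ X := fun h hh => hh.2
  have hT : ∀ w ∈ X, w ≠ 0 → T w = T u0 := by
    intro w hw hw0
    refine (Set.eq_of_subset_of_ncard_le (s := T u0) (t := T w) (fun h hh => ⟨hh.1, hw h hh⟩) ?_).symm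
    rw [← Nat.card_coe_set_eq, ← Nat.card_coe_set_eq]
    exact hmax w (by simp [hw0])
  refine ⟨X, fun h => hu0 ((Submodule.mem_bot _).mp (h ▸ hu0X)), ?_, ?_⟩
  · intro t ht w hw hw0 hfix x hx
    have h1 : t ∈ T w := ⟨ht, hfix⟩
    rw [hT w hw hw0] at h1
    exact hx t h1
  · intro w hw hw0 v hv t ht
    rw [← hT w hw hw0] at ht
    exact hv t ht.1 ht.2

theorem Radical.sq_of_fix (hR : Radical ρ R) {t : H} (ht : t ∈ R) {w : V} (hw : w ≠ 0)
    (hfix : ρ t w = w) : ρ t * ρ t = 1 := by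
  refine (hR.sq t ht).resolve_right fun h => hw ?_
  have := LinearMap.congr_fun h w
  rw [Module.End.mul_apply, hfix, hfix, LinearMap.neg_apply, Module.End.one_apply] at this
  exact vec_eq_zero_of_eq_neg this

theorem Radical.comm_of_fix (hR : Radical ρ R) {t u : H} (ht : t ∈ R) (hu : u ∈ R) {w : V}
    (hw : w ≠ 0) (h1 : ρ u w = w) (h2 : ρ u (ρ t w) = ρ t w) : Commute (ρ t) (ρ u) := by
  refine (hR.sign t ht u hu).resolve_right fun h => hw ?_
  have := LinearMap.congr_fun h w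
  rw [Module.End.mul_apply, h1, LinearMap.neg_apply, Module.End.mul_apply, h2] at this
  exact (rho_eq_zero ρ).mp (vec_eq_zero_of_eq_neg this)

theorem Fixed.scaler [Finite V] (hX : Fixed ρ R X) (hR : Radical ρ R) {h : H} {u : V} (hu : u ∈ X)
    (hu0 : u ≠ 0) {c : ZMod 7} (hh : ρ h u = c • u) : h ∈ stabSub ρ X := by
  refine mem_stabSub_of_maps fun x hx => hX.mem u hu hu0 _ fun t ht htu => ?_
  have hc : c ≠ 0 := fun e => hu0 ((rho_eq_zero ρ).mp (by rw [hh, e, zero_smul]))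
  have ht' : h⁻¹ * t * h ∈ R := by
    have := hR.normal.conj_mem t ht h⁻¹
    rwa [inv_inv] at this
  have hfu : ρ (h⁻¹ * t * h) u = u := by
    rw [rho_mul, rho_mul, hh, map_smul, htu, ← hh, rho_inv_self]
  have := congrArg (ρ h) (hX.fix _ ht' u hu hu0 hfu x hx)
  rwa [← rho_mul, show h * (h⁻¹ * t * h) = t * h by group, rho_mul] at this

theorem Fixed.descend [Finite V] (hX : Fixed ρ R X) (hR : Radical ρ R) (hS : Scal ρ) (hE : Part ρ) :
    Scal (restr ρ X) ∧ Part (restr ρ X) := by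
  constructor
  · intro u hu c hc
    have hu' : (u : V) ≠ 0 := fun h => hu (Subtype.ext h)
    obtain ⟨h, hh⟩ := hS u hu' c hc
    exact ⟨⟨h, hX.scaler hR u.2 hu' hh⟩, Subtype.ext hh⟩
  · intro u hu
    have hu' : (u : V) ≠ 0 := fun h => hu (Subtype.ext h)
    obtain ⟨w, hw, hp⟩ := hE u hu'
    refine ⟨⟨w, hX.mem u u.2 hu' w fun t _ htu => ?_⟩, fun e => hw (congrArg Subtype.val e),
      fun h c hc => Subtype.ext (hp h c (congrArg Subtype.val hc))⟩
    have := hp t 1 (htu.trans (one_smul _ _).symm)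
    rwa [one_smul] at this

theorem Fixed.stab_of_comm [Finite V] (hX : Fixed ρ R X) {t : H}
    (hc : ∀ u ∈ R, Fx ρ X u → Commute (ρ t) (ρ u)) : t ∈ stabSub ρ X := by
  obtain ⟨w, hw, hw0⟩ := X.exists_mem_ne_zero_of_ne_bot hX.ne
  refine mem_stabSub_of_maps fun x hx => hX.mem w hw hw0 _ fun t' ht' h => ?_
  have hfx := hX.fix t' ht' w hw hw0 h
  have := LinearMap.congr_fun (hc t' ht' hfx).eq x
  rw [Module.End.mul_apply, Module.End.mul_apply, hfx x hx] at this
  exact this.symm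

theorem Fixed.comm_of_stab (hX : Fixed ρ R X) (hR : Radical ρ R) {t u : H} (ht : t ∈ R)
    (hts : t ∈ stabSub ρ X) (hu : u ∈ R) (hfx : Fx ρ X u) : Commute (ρ t) (ρ u) := by
  obtain ⟨w, hw, hw0⟩ := X.exists_mem_ne_zero_of_ne_bot hX.ne
  exact hR.comm_of_fix ht hu hw0 (hfx w hw) (hfx _ (stabSub_mem_maps hts hw))

/-- A moving element and a trivial one anticommuting with it. -/
theorem Fixed.exists_swap [Finite V] [Nontrivial V] (hX : Fixed ρ R X) (hR : Radical ρ R)
    (hne : X ≠ ⊤) : ∃ r ∈ R, ∃ b ∈ R, Fx ρ X b ∧ ρ b * ρ r = -(ρ r * ρ b) := by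
  by_contra! hno
  have hcomm : ∀ b ∈ R, Fx ρ X b → ∀ r ∈ R, Commute (ρ b) (ρ r) := fun b hb hfx r hr =>
    (hR.sign b hb r hr).resolve_right (hno r hr b hb hfx)
  obtain ⟨w, hw, hw0⟩ := X.exists_mem_ne_zero_of_ne_bot hX.ne
  apply hne
  rw [eq_top_iff]
  intro v _
  refine hX.mem w hw hw0 v fun t ht htw => ?_
  rcases hR.cent t (hcomm t ht (hX.fix t ht w hw hw0 htw)) with e | e
  · rw [e]; rfl
  · rw [e, LinearMap.neg_apply, Module.End.one_apply] at htw
    exact absurd (vec_eq_zero_of_eq_neg htw.symm) hw0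

/-- The element squaring to one. -/
theorem Radical.exists_invol (hR : Radical ρ R) {r b : H} (hr : r ∈ R) (hb : b ∈ R)
    (hbb : ρ b * ρ b = 1) (hanti : ρ b * ρ r = -(ρ r * ρ b)) :
    ∃ r' ∈ R, ρ r' * ρ r' = 1 ∧ ρ b * ρ r' = -(ρ r' * ρ b) ∧
      ∀ A, Commute A (ρ r) → Commute A (ρ b) → Commute A (ρ r') := by
  rcases hR.sq r hr with h | h
  · exact ⟨r, hr, h, hanti, fun A hA _ => hA⟩
  · refine ⟨r * b, R.mul_mem hr hb, ?_, ?_, fun A h1 h2 => by rw [map_mul]; exact h1.mul_right h2⟩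
    · rw [map_mul, mul_assoc (ρ r), ← mul_assoc (ρ b), hanti, neg_mul, mul_assoc (ρ r), hbb, mul_one,
        mul_neg, h, neg_neg]
    · rw [map_mul, ← mul_assoc, hanti, neg_mul]

/-- The span of `X` and its translate. -/
def pairSpace (ρ : H →* Module.End (ZMod 7) V) (R : Subgroup H) (X : Submodule (ZMod 7) V) (r : H) :
    Submodule (ZMod 7) V where
  carrier := {v | ∀ t ∈ R, Fx ρ X t → Commute (ρ r) (ρ t) → ρ t v = v}
  zero_mem' := fun t _ _ _ => map_zero _
  add_mem' := fun {a b} ha hb t h1 h2 h3 => by rw [map_add, ha t h1 h2 h3, hb t h1 h2 h3]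
  smul_mem' := fun c {a} ha t h1 h2 h3 => by rw [map_smul, ha t h1 h2 h3]

/-- The hypotheses on a pair. -/
structure Pair (ρ : H →* Module.End (ZMod 7) V) (R : Subgroup H) (X : Submodule (ZMod 7) V)
    (r b : H) : Prop where
  rad : Radical ρ R
  fixed : Fixed ρ R X
  hr : r ∈ R
  hb : b ∈ R
  hbX : Fx ρ X b
  rr : ρ r * ρ r = 1
  bb : ρ b * ρ b = 1
  anti : ρ b * ρ r = -(ρ r * ρ b)

namespace Pair

variable {r b : H}

theorem le (_h : Pair ρ R X r b) : X ≤ pairSpace ρ R X r := fun _ hx _ _ hfx _ => hfx _ hx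

theorem stab_of (_h : Pair ρ R X r b) [Finite V] {t : H}
    (hc : ∀ u ∈ R, Fx ρ X u → Commute (ρ r) (ρ u) → Commute (ρ t) (ρ u)) :
    t ∈ stabSub ρ (pairSpace ρ R X r) := by
  refine mem_stabSub_of_maps fun w hw u hu hfx hru => ?_
  have := LinearMap.congr_fun (hc u hu hfx hru).eq w
  rw [Module.End.mul_apply, Module.End.mul_apply, hw u hu hfx hru] at this
  exact this.symm

theorem stab_r (h : Pair ρ R X r b) [Finite V] : r ∈ stabSub ρ (pairSpace ρ R X r) :=
  h.stab_of fun _ _ _ hc => hc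

theorem stab_of_stab (h : Pair ρ R X r b) [Finite V] {t : H} (ht : t ∈ R) (hts : t ∈ stabSub ρ X) :
    t ∈ stabSub ρ (pairSpace ρ R X r) :=
  h.stab_of fun _ hu hfx _ => h.fixed.comm_of_stab h.rad ht hts hu hfx

theorem b_stab (h : Pair ρ R X r b) [Finite V] : b ∈ stabSub ρ X :=
  mem_stabSub_of_maps fun x hx => by rw [h.hbX x hx]; exact hx

theorem stab_b (h : Pair ρ R X r b) [Finite V] : b ∈ stabSub ρ (pairSpace ρ R X r) :=
  h.stab_of_stab h.hb h.b_stab

theorem bbv (h : Pair ρ R X r b) (v : V) : ρ b (ρ b v) = v := LinearMap.congr_fun h.bb v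

theorem rrv (h : Pair ρ R X r b) (v : V) : ρ r (ρ r v) = v := LinearMap.congr_fun h.rr v

theorem antiv (h : Pair ρ R X r b) (v : V) : ρ b (ρ r v) = -ρ r (ρ b v) :=
  LinearMap.congr_fun h.anti v

theorem b_rX (h : Pair ρ R X r b) {x : V} (hx : x ∈ X) : ρ b (ρ r x) = -ρ r x := by
  rw [h.antiv, h.hbX x hx]

theorem mem_of_b_fix (h : Pair ρ R X r b) [Finite V] {v : V} (hv : v ∈ pairSpace ρ R X r)
    (hbv : ρ b v = v) : v ∈ X := by
  obtain ⟨w, hw, hw0⟩ := X.exists_mem_ne_zero_of_ne_bot h.fixed.ne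
  refine h.fixed.mem w hw hw0 v fun t ht htw => ?_
  have hfx := h.fixed.fix t ht w hw hw0 htw
  rcases h.rad.sign r h.hr t ht with hc | hc
  · exact hv t ht hfx hc
  · have hfx' : Fx ρ X (t * b) := fun x hx => by rw [rho_mul, h.hbX x hx, hfx x hx]
    have hc' : Commute (ρ r) (ρ (t * b)) := by
      show ρ r * ρ (t * b) = ρ (t * b) * ρ r
      rw [map_mul, ← mul_assoc, hc, neg_mul, mul_assoc (ρ t) (ρ b), h.anti, mul_neg, mul_assoc]
    have := hv (t * b) (R.mul_mem ht h.hb) hfx' hc'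
    rwa [rho_mul, hbv] at this

theorem decomp (h : Pair ρ R X r b) [Finite V] {v : V} (hv : v ∈ pairSpace ρ R X r) :
    ∃ x ∈ X, ∃ y ∈ X, v = x + ρ r y := by
  have hbvW := stabSub_mem_maps h.stab_b hv
  refine ⟨(4 : ZMod 7) • (v + ρ b v), ?_, (4 : ZMod 7) • ρ r (v - ρ b v), ?_, ?_⟩
  · refine X.smul_mem _ (h.mem_of_b_fix (Submodule.add_mem _ hv hbvW) ?_)
    rw [map_add, h.bbv, add_comm]
  · refine X.smul_mem _ (h.mem_of_b_fix (stabSub_mem_maps h.stab_r (Submodule.sub_mem _ hv hbvW)) ?_)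
    rw [h.antiv, map_sub (ρ b), h.bbv, ← map_neg, neg_sub]
  · rw [map_smul, h.rrv, ← smul_add, show v + ρ b v + (v - ρ b v) = (2 : ZMod 7) • v by
      rw [two_smul]; abel, smul_smul, show (4 : ZMod 7) * 2 = 1 by decide, one_smul]

theorem unique (h : Pair ρ R X r b) {x y x' y' : V} (hx : x ∈ X) (hy : y ∈ X) (hx' : x' ∈ X)
    (hy' : y' ∈ X) (e : x + ρ r y = x' + ρ r y') : x = x' ∧ y = y' := by
  have e2 := congrArg (ρ b) e
  rw [map_add, map_add, h.hbX x hx, h.hbX x' hx', h.b_rX hy, h.b_rX hy'] at e2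
  have e3 : (2 : ZMod 7) • x = (2 : ZMod 7) • x' := by
    have := congrArg₂ (· + ·) e e2
    rw [two_smul, two_smul]
    rw [show x + ρ r y + (x + -ρ r y) = x + x by abel,
      show x' + ρ r y' + (x' + -ρ r y') = x' + x' by abel] at this
    exact this
  have hxx := smul_right_injective V (show (2 : ZMod 7) ≠ 0 by decide) e3
  refine ⟨hxx, rho_injective ρ r ?_⟩
  rw [hxx] at e
  exact add_left_cancel e

theorem comm_fx (h : Pair ρ R X r b) {t : H} (ht : t ∈ R) (hts : t ∈ stabSub ρ (pairSpace ρ R X r))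
    (htb : Commute (ρ t) (ρ b)) : ∀ u ∈ R, Fx ρ X u → Commute (ρ t) (ρ u) := by
  intro u hu hfx
  obtain ⟨w, hw, hw0⟩ := X.exists_mem_ne_zero_of_ne_bot h.fixed.ne
  have key : ∀ u' ∈ R, Fx ρ X u' → Commute (ρ r) (ρ u') → Commute (ρ t) (ρ u') := fun u' hu' hfx' hc =>
    h.rad.comm_of_fix ht hu' hw0 (hfx' w hw) (stabSub_mem_maps hts (h.le hw) u' hu' hfx' hc)
  rcases h.rad.sign r h.hr u hu with hc | hc
  · exact key u hu hfx hc
  · have hfx' : Fx ρ X (u * b) := fun x hx => by rw [rho_mul, h.hbX x hx, hfx x hx]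
    have hc' : Commute (ρ r) (ρ (u * b)) := by
      show ρ r * ρ (u * b) = ρ (u * b) * ρ r
      rw [map_mul, ← mul_assoc, hc, neg_mul, mul_assoc (ρ u) (ρ b), h.anti, mul_neg, mul_assoc]
    have := (key (u * b) (R.mul_mem hu h.hb) hfx' hc').mul_right htb
    rwa [map_mul, mul_assoc, h.bb, mul_one] at this

/-- Elements preserving the pair preserve `X` or swap. -/
theorem classify (h : Pair ρ R X r b) [Finite V] {t : H} (ht : t ∈ R)
    (hts : t ∈ stabSub ρ (pairSpace ρ R X r)) : t ∈ stabSub ρ X ∨ t * r ∈ stabSub ρ X := by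
  rcases h.rad.sign t ht b h.hb with hc | hc
  · exact Or.inl (h.fixed.stab_of_comm (h.comm_fx ht hts hc))
  · refine Or.inr (h.fixed.stab_of_comm (h.comm_fx (R.mul_mem ht h.hr)
      ((stabSub ρ _).mul_mem hts h.stab_r) ?_))
    show ρ (t * r) * ρ b = ρ b * ρ (t * r)
    rw [map_mul, ← mul_assoc (ρ b), show ρ b * ρ t = -(ρ t * ρ b) by rw [hc, neg_neg], neg_mul,
      mul_assoc (ρ t) (ρ b), h.anti, mul_neg, neg_neg, mul_assoc]

/-- Scalers of general vectors preserve the pair. -/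
theorem scaler (h : Pair ρ R X r b) [Finite V] {v : V} (hv : v ∈ pairSpace ρ R X r) (hv0 : v ≠ 0)
    (hfree : ∀ t ∈ R, t ∈ stabSub ρ (pairSpace ρ R X r) → ρ t v = v →
      ∀ w ∈ pairSpace ρ R X r, ρ t w = w)
    {g : H} {c : ZMod 7} (hg : ρ g v = c • v) : g ∈ stabSub ρ (pairSpace ρ R X r) := by
  refine mem_stabSub_of_maps fun w hw u hu hfx hru => ?_
  have ht : g⁻¹ * u * g ∈ R := by
    have := h.rad.normal.conj_mem u hu g⁻¹
    rwa [inv_inv] at this
  have htv : ρ (g⁻¹ * u * g) v = v := by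
    rw [rho_mul, rho_mul, hg, map_smul, hv u hu hfx hru, ← hg, rho_inv_self]
  have hts : g⁻¹ * u * g ∈ stabSub ρ (pairSpace ρ R X r) := h.stab_of fun u' hu' hfx' hru' =>
    h.rad.comm_of_fix ht hu' hv0 (hv u' hu' hfx' hru') (by rw [htv]; exact hv u' hu' hfx' hru')
  have := congrArg (ρ g) (hfree _ ht hts htv w hw)
  rwa [← rho_mul, show g * (g⁻¹ * u * g) = u * g by group, rho_mul] at this

/-- Partners stay in the pair. -/
theorem part (_h : Pair ρ R X r b) (hE : Part ρ) : Part (restr ρ (pairSpace ρ R X r)) := by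
  intro u hu
  have hu' : (u : V) ≠ 0 := fun e => hu (Subtype.ext e)
  obtain ⟨w, hw, hp⟩ := hE u hu'
  refine ⟨⟨w, fun t ht hfx hrt => ?_⟩, fun e => hw (congrArg Subtype.val e),
    fun g c hc => Subtype.ext (hp g c (congrArg Subtype.val hc))⟩
  have := hp t 1 ((u.2 t ht hfx hrt).trans (one_smul _ _).symm)
  rwa [one_smul] at this

/-- Elements acting as signs on `X`. -/
theorem one_class (h : Pair ρ R X r b) [Finite V] {u : stabSub ρ (pairSpace ρ R X r)} (hu : (u : H) ∈ R)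
    {ε : ZMod 7} (hε : ε = 1 ∨ ε = -1) (hX : ∀ x ∈ X, ρ (u : H) x = ε • x) :
    let σ := restr ρ (pairSpace ρ R X r)
    let β := σ ⟨b, h.stab_b⟩
    σ u = 1 ∨ σ u = -1 ∨ σ u = β ∨ σ u = -β := by
  intro σ β
  rcases h.rad.sign (u : H) hu r h.hr with hc | hc
  · have e : σ u = ε • 1 := by
      refine LinearMap.ext fun w => Subtype.ext ?_
      obtain ⟨x, hx, y, hy, hw⟩ := h.decomp w.2
      show ρ (u : H) (w : V) = ε • (w : V)
      rw [hw, map_add, hX x hx, ← Module.End.mul_apply, hc, Module.End.mul_apply, hX y hy, map_smul,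
        smul_add]
    rcases hε with rfl | rfl
    · exact Or.inl (by rw [e, one_smul])
    · exact Or.inr (Or.inl (by rw [e, neg_one_smul]))
  · have e : σ u = ε • β := by
      refine LinearMap.ext fun w => Subtype.ext ?_
      obtain ⟨x, hx, y, hy, hw⟩ := h.decomp w.2
      show ρ (u : H) (w : V) = ε • ρ b (w : V)
      rw [hw, map_add, hX x hx, ← Module.End.mul_apply, hc, LinearMap.neg_apply, Module.End.mul_apply,
        hX y hy, map_smul, map_add, h.hbX x hx, h.b_rX hy, smul_add, smul_neg]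
    rcases hε with rfl | rfl
    · exact Or.inr (Or.inr (Or.inl (by rw [e, one_smul])))
    · exact Or.inr (Or.inr (Or.inr (by rw [e, neg_one_smul])))

end Pair

end CfsgLib.S3Conj.Gow
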