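import Cfsg.Agent.Lib.S3Conj.Gow.Primitive

/-!
Representations with scalers and partners decompose into planes.
-/

set_option autoImplicit false

namespace CfsgLib.S3Conj.Gow

open Subgroup

universe u v

attribute [local instance] fact_prime_seven

variable {H : Type v} [Group H] {V : Type u} [AddCommGroup V] [Module (ZMod 7) V]

theorem planes_of_img {ρ : H →* Module.End (ZMod 7) V} (h : Planes (imgRep ρ)) : Planes ρ := by
  obtain ⟨s, hs, hs2⟩ := h
  exact ⟨s, ⟨hs.ne_bot, hs.top, hs.dim, fun g b hb => hs.inv (toImg ρ g) b hb⟩, hs2⟩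

theorem not_seven_dvd {n : ℕ} (h : Smooth n) : ¬ 7 ∣ n := fun hd =>
  absurd (h 7 (by norm_num) hd) (by norm_num)

theorem planes_aux : ∀ (n : ℕ) (V : Type u) [AddCommGroup V] [Module (ZMod 7) V] [Finite V],
    Module.finrank (ZMod 7) V = n → ∀ (K : Type u) [Group K] [Finite K], Group.IsSolvable K →
    Smooth (Nat.card K) → ∀ ρ : K →* Module.End (ZMod 7) V, Function.Injective ρ → Scal ρ → Part ρ →
    Planes ρ := by
  intro n
  induction n using Nat.strong_induction_on with
  | h n ih =>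
  intro V _ _ _ hn K _ _ hsolv hs ρ hinj hS hE
  classical
  have := hsolv
  have sub : ∀ W : Submodule (ZMod 7) V, W ≠ ⊤ → Scal (restr ρ W) → Part (restr ρ W) →
      Planes (restr ρ W) := by
    intro W hW h1 h2
    have hf : Finite (img (restr ρ W)) := finite_img _
    exact planes_of_img (ih (Module.finrank (ZMod 7) W) (hn ▸ Submodule.finrank_lt hW) W rfl
      (img (restr ρ W)) (isSolvable_img _ (inferInstance : Group.IsSolvable (stabSub ρ W)))
      (smooth_img _ fun p hp hd => hs p hp (hd.trans (Subgroup.card_subgroup_dvd_card _)))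
      (imgRep (restr ρ W)) (imgRep_injective _) h1.img h2.img)
  rcases subsingleton_or_nontrivial V with hV | hV
  · refine ⟨∅, ⟨fun b hb => absurd hb (Finset.notMem_empty b), ?_, ?_, fun _ b hb => absurd hb
      (Finset.notMem_empty b)⟩, fun b hb => absurd hb (Finset.notMem_empty b)⟩
    · exact Subsingleton.elim _ _
    · rw [Finset.sum_empty, Module.finrank_zero_of_subsingleton]
  by_cases hred : ∃ U : Submodule (ZMod 7) V, (∀ h : K, ∀ x ∈ U, ρ h x ∈ U) ∧ U ≠ ⊥ ∧ U ≠ ⊤
  · obtain ⟨U, hU, hU0, hU1⟩ := hred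
    obtain ⟨U', hU', hc⟩ := exists_inv_compl (not_seven_dvd hs) ρ U hU
    have hU'0 : U' ≠ ⊥ := fun e => hU1 (by
      have := hc.sup_eq_top
      rwa [e, sup_bot_eq] at this)
    have hU'1 : U' ≠ ⊤ := fun e => hU0 (by
      have := hc.inf_eq_bot
      rwa [e, inf_top_eq] at this)
    have hsys := isSys_pair ρ hU hU' hc hU0 hU'0
    obtain ⟨a1, a2⟩ := hsys.descend hS hE (b := U) (by simp)
    obtain ⟨b1, b2⟩ := hsys.descend hS hE (b := U') (by simp)
    exact planes_glue ρ hU hU' hc (sub U hU1 a1 a2) (sub U' hU'1 b1 b2)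
  have hirr : ∀ U : Submodule (ZMod 7) V, (∀ h : K, ∀ x ∈ U, ρ h x ∈ U) → U = ⊥ ∨ U = ⊤ := by
    intro U hU
    by_contra! h
    exact hred ⟨U, hU, h.1, h.2⟩
  by_cases hsys : ∃ s, IsSys ρ s ∧ 2 ≤ s.card
  · obtain ⟨s, hsys, hcard⟩ := hsys
    obtain ⟨b, hb, c, hc, hbc⟩ := Finset.one_lt_card.mp hcard
    have hbtop : b ≠ ⊤ := fun e => by
      obtain ⟨x, hx, hx0⟩ := c.exists_mem_ne_zero_of_ne_bot (hsys.ne_bot c hc)
      exact hbc (hsys.eq_of_mem hb hc (e ▸ Submodule.mem_top) hx hx0)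
    obtain ⟨a1, a2⟩ := hsys.descend hS hE hb
    exact planes_of_blocks hsys hirr hb (sub b hbtop a1 a2)
  have hle := primitive_le_two hsolv hs ρ hinj hS hE hsys fun X h _ => sub X h
  have hne1 : Module.finrank (ZMod 7) V ≠ 1 := fun h1 => by
    obtain ⟨u, hu⟩ := exists_ne (0 : V)
    obtain ⟨g, hg⟩ := hS u hu 3 (by decide)
    refine absurd (hE.scalar_sq hu (g := g) (c := 3) fun v => ?_) (by decide)
    obtain ⟨c, rfl⟩ := (finrank_eq_one_iff_of_nonzero' u hu).mp h1 v
    rw [map_smul, hg, smul_comm]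
  have hpos : 0 < Module.finrank (ZMod 7) V := Module.finrank_pos
  refine ⟨{⊤}, ⟨?_, ?_, ?_, ?_⟩, ?_⟩
  · simp
  · simp
  · simp
  · intro h b hb
    rw [Finset.mem_singleton] at hb ⊢
    subst hb
    exact mem_stabSub_of_maps fun x _ => Submodule.mem_top
  · intro b hb
    rw [Finset.mem_singleton.mp hb, finrank_top]
    omega

/-- A smooth solvable group with scalers and partners preserves a decomposition into planes. -/
theorem planes_of_scal [Finite V] [Finite H] (hsolv : Group.IsSolvable H)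
    (hs : Smooth (Nat.card H)) (ρ : H →* Module.End (ZMod 7) V) (hS : Scal ρ) (hE : Part ρ) :
    Planes ρ := by
  have hf : Finite (img ρ) := finite_img ρ
  exact planes_of_img (planes_aux _ V rfl (img ρ) (isSolvable_img ρ hsolv) (smooth_img ρ hs)
    (imgRep ρ) (imgRep_injective ρ) hS.img hE.img)

end CfsgLib.S3Conj.Gow
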