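import Cfsg.Agent.Lib.S3Conj.Gow.Cover

/-!
Groups permuting families of anticommuting operators up to sign.
-/

set_option autoImplicit false

namespace CfsgLib.S3Conj.Gow

open Subgroup

universe u v

attribute [local instance] fact_prime_seven

section Perm

theorem alternating_five_bound (A : Subgroup (alternatingGroup (Fin 5))) (hA : Group.IsSolvable A) :
    Nat.card A ≤ 12 := by
  classical
  have h60 : Nat.card (alternatingGroup (Fin 5)) = 60 := by
    rw [nat_card_alternatingGroup, Nat.card_eq_fintype_card, Fintype.card_fin]; rfl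
  have htop : A ≠ ⊤ := by
    rintro rfl
    refine Equiv.Perm.not_isSolvable_fin_5 ?_
    have h : Group.IsSolvable (alternatingGroup (Fin 5)) :=
      Group.isSolvable_of_surjective (f := (⊤ : Subgroup (alternatingGroup (Fin 5))).subtype)
        fun a => ⟨⟨a, mem_top a⟩, rfl⟩
    refine Group.isSolvable_of_ker_le_range (alternatingGroup (Fin 5)).subtype Equiv.Perm.sign ?_
    rw [Subgroup.range_subtype, alternatingGroup_eq_sign_ker]
  have hcore : A.normalCore = ⊥ :=
    (A.normalCore_normal.eq_bot_or_eq_top).resolve_right fun h =>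
      htop (top_le_iff.mp (h ▸ A.normalCore_le))
  rw [Subgroup.normalCore_eq_ker] at hcore
  have h1 := Nat.card_le_card_of_injective _
    ((MonoidHom.ker_eq_bot_iff (MulAction.toPermHom _ (alternatingGroup (Fin 5) ⧸ A))).mp hcore)
  rw [h60, Nat.card_perm, ← Subgroup.index_eq_card] at h1
  have h5 : 5 ≤ A.index := by
    by_contra hlt
    have := Nat.factorial_le (show A.index ≤ 4 by omega)
    rw [show Nat.factorial 4 = 24 from rfl] at this
    omega
  have h2 := A.card_mul_index
  rw [h60] at h2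
  have h3 := Nat.mul_le_mul_left (Nat.card A) h5
  omega

/-- In a solvable group of permutations of five points there are few three-cycles. -/
theorem three_cycles_le (G : Subgroup (Equiv.Perm (Fin 5))) (hG : Group.IsSolvable G)
    (T : Finset (Equiv.Perm (Fin 5))) (hT : ∀ σ ∈ T, σ ^ 3 = 1 ∧ σ ≠ 1 ∧ σ ∈ G) : T.card ≤ 9 := by
  classical
  have := hG
  have hsign : ∀ σ ∈ T, σ ∈ alternatingGroup (Fin 5) := by
    intro σ hσ
    rw [Equiv.Perm.mem_alternatingGroup]
    have h := congrArg Equiv.Perm.sign (hT σ hσ).1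
    rw [map_pow, map_one, pow_succ, Int.units_sq, one_mul] at h
    exact h
  set A := G.subgroupOf (alternatingGroup (Fin 5)) with hA
  have hAs : Group.IsSolvable A := by
    let f : A →* G := ((alternatingGroup (Fin 5)).subtype.comp A.subtype).codRestrict G fun a => a.2
    exact Group.isSolvable_of_isSolvable_injective (f := f) fun a b h =>
      Subtype.ext (Subtype.ext (congrArg (fun x : G => (x : Equiv.Perm (Fin 5))) h :))
  have h12 := alternating_five_bound A hAs
  have := Fintype.ofFinite A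
  let Z : Finset A := Finset.univ.filter fun a => a ^ 3 = 1 ∧ a ≠ 1
  have hTZ : T.card ≤ Z.card := by
    refine Finset.card_le_card_of_surjOn (fun a : A => ((a : alternatingGroup (Fin 5)) : Equiv.Perm (Fin 5)))
      fun σ hσ => ?_
    obtain ⟨h3, h1, hG'⟩ := hT σ hσ
    refine ⟨⟨⟨σ, hsign σ hσ⟩, hG'⟩, Finset.mem_coe.mpr (Finset.mem_filter.mpr ⟨Finset.mem_univ _,
      Subtype.ext (Subtype.ext h3), fun h => h1 (congrArg (fun a : A => ((a : alternatingGroup (Fin 5)) : Equiv.Perm (Fin 5))) h)⟩), rfl⟩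
  refine hTZ.trans ?_
  rw [Nat.card_eq_fintype_card] at h12
  by_cases h2 : 4 ∣ Fintype.card A
  · have : Fact (Nat.Prime 2) := ⟨Nat.prime_two⟩
    obtain ⟨K, hK⟩ := Sylow.exists_subgroup_card_pow_prime 2 (G := A) (n := 2)
      (by rw [Nat.card_eq_fintype_card]; exact h2)
    have hd : Disjoint Z (Finset.univ.filter (· ∈ K)) := by
      rw [Finset.disjoint_left]
      intro a ha haK
      obtain ⟨-, h3, h1⟩ := Finset.mem_filter.mp ha
      have h4 : a ^ 4 = 1 := by
        have h := orderOf_dvd_natCard (⟨a, (Finset.mem_filter.mp haK).2⟩ : K)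
        rw [hK, Subgroup.orderOf_mk] at h
        exact orderOf_dvd_iff_pow_eq_one.mp h
      exact h1 (by rwa [pow_succ, h3, one_mul] at h4)
    have h := Finset.card_le_univ (Z ∪ Finset.univ.filter (· ∈ K))
    rw [Finset.card_union_of_disjoint hd] at h
    have hKc : (Finset.univ.filter (· ∈ K)).card = 4 := by
      rw [← Fintype.card_subtype, ← Nat.card_eq_fintype_card]
      exact hK
    omega
  · have h : Z.card + 1 ≤ Fintype.card A := by
      have h : Z ⊆ (Finset.univ : Finset A).erase 1 := fun a ha =>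
        Finset.mem_erase.mpr ⟨(Finset.mem_filter.mp ha).2.2, Finset.mem_univ a⟩
      have := Finset.card_le_card h
      rw [Finset.card_erase_of_mem (Finset.mem_univ _), Finset.card_univ] at this
      have := Fintype.card_pos (α := A)
      omega
    have hdvd : Fintype.card A ∣ 60 := by
      rw [← Nat.card_eq_fintype_card]
      refine (Subgroup.card_subgroup_dvd_card A).trans ?_
      rw [nat_card_alternatingGroup, Nat.card_eq_fintype_card, Fintype.card_fin]
      exact dvd_rfl
    by_contra hlt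
    have h12' : Fintype.card A = 11 ∨ Fintype.card A = 12 := by omega
    rcases h12' with e | e <;> rw [e] at h2 hdvd <;> revert h2 hdvd <;> decide

set_option maxHeartbeats 4000000 in
theorem perm_five_facts : (∀ σ : Equiv.Perm (Fin 5), σ ^ 60 = 1) ∧
    ∀ σ : Equiv.Perm (Fin 5), σ ^ 3 = 1 → σ ≠ 1 → (∃ p q, p ≠ q ∧ σ p = p ∧ σ q = q) ∧
      ∀ a i, σ a ≠ a → σ i = i ∨ i = a ∨ i = σ a ∨ i = σ (σ a) := by
  constructor <;> decide +kernel

end Perm

variable {N : Type v} [Group N] {V : Type u} [AddCommGroup V] [Module (ZMod 7) V]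

/-- A member of the family with a sign. -/
def sgn {n : ℕ} (f : Fin n → Module.End (ZMod 7) V) (p : Fin n × Bool) : Module.End (ZMod 7) V :=
  bif p.2 then -f p.1 else f p.1

theorem sgn_flip {n : ℕ} (f : Fin n → Module.End (ZMod 7) V) (i : Fin n) (b : Bool) :
    sgn f (i, !b) = -sgn f (i, b) := by
  cases b <;> simp [sgn]

theorem end_eq_zero_of_eq_neg {A : Module.End (ZMod 7) V} (h : A = -A) : A = 0 := by
  have h2 : (2 : ZMod 7) • A = 0 := by rw [two_smul]; nth_rw 2 [h]; rw [add_neg_cancel]
  exact (smul_eq_zero.mp h2).resolve_left (by decide)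

theorem sgn_injective [Nontrivial V] {n : ℕ} {f : Fin n → Module.End (ZMod 7) V}
    (hu : ∀ i, IsUnit (f i)) (hanti : ∀ i j, i ≠ j → f i * f j = -(f j * f i)) :
    Function.Injective (sgn f) := by
  rintro ⟨i, a⟩ ⟨j, b⟩ h
  have hij : i = j := by
    by_contra hne
    have hc : f i * f j = f j * f i := by
      cases a <;> cases b <;> simp only [sgn, cond_true, cond_false, neg_inj] at h
      · rw [h]
      · rw [h]; simp
      · rw [neg_eq_iff_eq_neg] at h; rw [h]; simp
      · rw [h]
    have h0 := end_eq_zero_of_eq_neg (hc.symm.trans (hanti i j hne))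
    exact ((hu j).mul (hu i)).ne_zero h0
  subst hij
  cases a <;> cases b <;> simp only [sgn, cond_true, cond_false] at h
  · rfl
  · exact absurd (end_eq_zero_of_eq_neg h) (hu i).ne_zero
  · exact absurd (end_eq_zero_of_eq_neg h.symm) (hu i).ne_zero
  · rfl

/-- The action on the signed family. -/
theorem exists_signed [Nontrivial V] {n : ℕ} (σ : N →* Module.End (ZMod 7) V)
    {f : Fin n → Module.End (ZMod 7) V}
    (hu : ∀ i, IsUnit (f i)) (hanti : ∀ i j, i ≠ j → f i * f j = -(f j * f i))
    (hperm : ∀ g i, ∃ p, σ g * f i * σ g⁻¹ = sgn f p) :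
    ∃ (Φ : N →* Equiv.Perm (Fin n × Bool)) (π : N →* Equiv.Perm (Fin n)),
      (∀ g p, sgn f (Φ g p) = σ g * sgn f p * σ g⁻¹) ∧
      (∀ g p, (Φ g p).1 = π g p.1) ∧
      (∀ g i b, Φ g (i, !b) = ((Φ g (i, b)).1, !(Φ g (i, b)).2)) := by
  have hinj := sgn_injective hu hanti
  have hex : ∀ g p, ∃ q, sgn f q = σ g * sgn f p * σ g⁻¹ := by
    rintro g ⟨i, b⟩
    obtain ⟨⟨j, a⟩, hj⟩ := hperm g i
    cases b
    · exact ⟨(j, a), hj.symm⟩
    · refine ⟨(j, !a), ?_⟩
      rw [sgn_flip, ← hj]
      simp [sgn]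
  choose φ hφ using hex
  have h1 : ∀ p, φ 1 p = p := fun p => hinj (by rw [hφ, inv_one, map_one, one_mul, mul_one])
  have hmul : ∀ g h p, φ (g * h) p = φ g (φ h p) := fun g h p => hinj (by
    rw [hφ, hφ, hφ, mul_inv_rev, map_mul, map_mul]
    simp only [mul_assoc])
  have hflip : ∀ g i b, φ g (i, !b) = ((φ g (i, b)).1, !(φ g (i, b)).2) := fun g i b => hinj (by
    rw [hφ, sgn_flip, sgn_flip, Prod.mk.eta, hφ, mul_neg, neg_mul])
  have hfst : ∀ g i b, (φ g (i, b)).1 = (φ g (i, false)).1 := by
    intro g i b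
    cases b
    · rfl
    · have h := congrArg Prod.fst (hflip g i false)
      exact h
  let Φ : N →* Equiv.Perm (Fin n × Bool) :=
    { toFun := fun g => ⟨φ g, φ g⁻¹, fun p => by rw [← hmul, inv_mul_cancel, h1],
        fun p => by rw [← hmul, mul_inv_cancel, h1]⟩
      map_one' := Equiv.ext h1
      map_mul' := fun g h => Equiv.ext (hmul g h) }
  have hπ1 : ∀ i, (φ 1 (i, false)).1 = i := fun i => by rw [h1]
  have hπmul : ∀ g h i, (φ (g * h) (i, false)).1 = (φ g ((φ h (i, false)).1, false)).1 := fun g h i => by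
    rw [hmul, ← hfst g (φ h (i, false)).1 (φ h (i, false)).2]
  let π : N →* Equiv.Perm (Fin n) :=
    { toFun := fun g => ⟨fun i => (φ g (i, false)).1, fun i => (φ g⁻¹ (i, false)).1,
        fun i => (hπmul g⁻¹ g i).symm.trans (by rw [inv_mul_cancel, hπ1]),
        fun i => (hπmul g g⁻¹ i).symm.trans (by rw [mul_inv_cancel, hπ1])⟩
      map_one' := Equiv.ext hπ1
      map_mul' := fun g h => Equiv.ext (hπmul g h) }
  exact ⟨Φ, π, hφ, fun g p => hfst g p.1 p.2, hflip⟩

theorem cube_two_eq_one {μ : ZMod 7} (h2 : μ * μ = 1) (h3 : μ ^ 3 = 1) : μ = 1 := by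
  revert μ
  decide

/-- The two eigenspaces of an involution anticommuting with a bijection have equal dimension. -/
theorem finrank_fixed_two [Finite V] {p q : Module.End (ZMod 7) V} (hp : p * p = 1) (hq : IsUnit q)
    (hpq : p * q = -(q * p)) :
    2 * Module.finrank (ZMod 7) (LinearMap.ker (p - 1)) = Module.finrank (ZMod 7) V ∧
      IsCompl (LinearMap.ker (p - 1)) (LinearMap.ker (p + 1)) ∧
      (LinearMap.ker (p - 1)).map q = LinearMap.ker (p + 1) := by
  set P := LinearMap.ker (p - 1) with hP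
  set M := LinearMap.ker (p + 1) with hM
  have hPm : ∀ v, v ∈ P ↔ p v = v := fun v => by simp [hP, LinearMap.mem_ker, sub_eq_zero]
  have hMm : ∀ v, v ∈ M ↔ p v = -v := fun v => by simp [hM, LinearMap.mem_ker, add_eq_zero_iff_eq_neg]
  have hqi : Function.Injective q := ((Module.End.isUnit_iff q).mp hq).injective
  have hcompl : IsCompl P M := by
    refine ⟨Submodule.disjoint_def.mpr fun v h1 h2 => ?_, codisjoint_iff.mpr (eq_top_iff.mpr fun v _ => ?_)⟩
    · rw [hPm] at h1
      rw [hMm, h1] at h2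
      have h2' : (2 : ZMod 7) • v = 0 := by rw [two_smul]; nth_rw 2 [h2]; rw [add_neg_cancel]
      exact (smul_eq_zero.mp h2').resolve_left (by decide)
    · have hpp : p (p v) = v := LinearMap.congr_fun hp v
      have e : v = (4 : ZMod 7) • (v + p v) + (4 : ZMod 7) • (v - p v) := by
        rw [← smul_add, show v + p v + (v - p v) = (2 : ZMod 7) • v by rw [two_smul]; abel, smul_smul,
          show (4 : ZMod 7) * 2 = 1 by decide, one_smul]
      rw [e]
      refine Submodule.add_mem_sup (P.smul_mem _ ((hPm _).mpr ?_)) (M.smul_mem _ ((hMm _).mpr ?_))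
      · rw [map_add, hpp, add_comm]
      · rw [map_sub, hpp, neg_sub]
  have hpqv : ∀ v, p (q v) = -q (p v) := fun v => LinearMap.congr_fun hpq v
  have h1 : P.map q ≤ M := by
    rintro _ ⟨v, hv, rfl⟩
    rw [hMm, hpqv, (hPm v).mp hv]
  have h2 : M.map q ≤ P := by
    rintro _ ⟨v, hv, rfl⟩
    rw [hPm, hpqv, (hMm v).mp hv, map_neg, neg_neg]
  have e1 := (Submodule.equivMapOfInjective q hqi P).finrank_eq
  have e2 := (Submodule.equivMapOfInjective q hqi M).finrank_eq
  have f1 := Submodule.finrank_mono h1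
  have f2 := Submodule.finrank_mono h2
  refine ⟨?_, hcompl, Submodule.eq_of_le_of_finrank_le h1 (by omega)⟩
  have := Submodule.finrank_add_eq_of_isCompl hcompl
  omega

/-- Five anticommuting involutions on a space of dimension four cannot be covered. -/
theorem five_false [Finite V] [Finite N] (hsolv : Group.IsSolvable N)
    (hD : Module.finrank (ZMod 7) V = 4) (σ : N →* Module.End (ZMod 7) V) (hE : Part σ)
    (f : Fin 5 → Module.End (ZMod 7) V) (hsq : ∀ i, f i * f i = 1)
    (hanti : ∀ i j, i ≠ j → f i * f j = -(f j * f i))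
    (hgen : ∀ A : Module.End (ZMod 7) V, (∀ i, Commute A (f i)) → ∃ μ : ZMod 7, A = μ • 1)
    (hperm : ∀ g i, ∃ p, σ g * f i * σ g⁻¹ = sgn f p)
    (hcov : ∀ v : V, v ≠ 0 → (∃ p, sgn f p v = v) ∨ ∃ s, σ s v = (3 : ZMod 7) • v) : False := by
  classical
  have := hsolv
  have : Nontrivial V := Module.nontrivial_of_finrank_pos (R := ZMod 7) (by omega)
  obtain ⟨u0, hu0⟩ := exists_ne (0 : V)
  have hu : ∀ i, IsUnit (f i) := fun i => ⟨⟨f i, f i, hsq i, hsq i⟩, rfl⟩
  obtain ⟨Φ, π, hΦ, hπ, hflip⟩ := exists_signed σ hu hanti hperm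
  -- trivial permutations are scalars
  have hker : ∀ g, Φ g = 1 → ∃ μ : ZMod 7, μ * μ = 1 ∧ σ g = μ • 1 := by
    intro g hg
    obtain ⟨μ, hμ⟩ := hgen (σ g) fun i => by
      have h := hΦ g (i, false)
      rw [hg, Equiv.Perm.one_apply] at h
      simp only [sgn, cond_false] at h
      show σ g * f i = f i * σ g
      conv_rhs => rw [h, mul_assoc, ← map_mul, inv_mul_cancel, map_one, mul_one]
    exact ⟨μ, hE.scalar_sq hu0 (fun v => by rw [hμ]; rfl), hμ⟩
  have hsixty : ∀ g, Φ (g ^ 120) = 1 := by
    intro g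
    have h60 : π (g ^ 60) = 1 := by rw [map_pow]; exact perm_five_facts.1 _
    rw [show 120 = 60 * 2 from rfl, pow_mul, map_pow]
    refine Equiv.ext fun p => ?_
    obtain ⟨i, b⟩ := p
    have hfix : ∀ b, ∃ c, Φ (g ^ 60) (i, b) = (i, c) := fun b =>
      ⟨_, Prod.ext (by rw [hπ, h60]; rfl) rfl⟩
    obtain ⟨c, hc⟩ := hfix b
    rw [pow_two, Equiv.Perm.mul_apply, hc, Equiv.Perm.one_apply]
    rcases Bool.eq_or_eq_not c b with rfl | rfl
    · exact hc
    · rw [hflip, hc, Bool.not_not]
  -- the possible scalers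
  have hscaler : ∀ v : V, ∀ s, v ≠ 0 → σ s v = (3 : ZMod 7) • v →
      σ (s ^ 80) v = (2 : ZMod 7) • v ∧ Φ (s ^ 80) ^ 3 = 1 ∧ σ (s ^ 80) ^ 3 = 1 ∧ π (s ^ 80) ≠ 1 := by
    intro v s hv hs
    have h2 : σ (s ^ 80) v = (2 : ZMod 7) • v := by
      rw [rho_pow_smul σ hs, show (3 : ZMod 7) ^ 80 = 2 by decide +kernel]
    have h3 : Φ (s ^ 80) ^ 3 = 1 := by
      rw [← map_pow, ← pow_mul, show 80 * 3 = 120 * 2 from rfl, pow_mul, map_pow, hsixty, one_pow]
    obtain ⟨μ, hμ2, hμ⟩ := hker ((s ^ 80) ^ 3) (by rw [map_pow, h3])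
    have hμ1 : μ = 1 := by
      have h := rho_pow_smul σ h2 3
      rw [hμ, LinearMap.smul_apply, Module.End.one_apply] at h
      exact (smul_left_cancel' hv h).trans (by decide)
    refine ⟨h2, h3, by rw [← map_pow, hμ, hμ1, one_smul], fun h1 => ?_⟩
    have h0 : Φ (s ^ 80) = 1 := by
      refine Equiv.ext fun p => ?_
      obtain ⟨i, b⟩ := p
      have hfst : ∀ b, (Φ (s ^ 80) (i, b)).1 = i := fun b => by rw [hπ, h1]; rfl
      rcases Bool.eq_or_eq_not (Φ (s ^ 80) (i, b)).2 b with e | e
      · exact Prod.ext (hfst b) e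
      · exfalso
        have e1 : Φ (s ^ 80) (i, b) = (i, !b) := Prod.ext (hfst b) e
        have e2 : Φ (s ^ 80) (i, !b) = (i, b) := by rw [hflip, e1, Bool.not_not]
        have e3 := Equiv.congr_fun h3 (i, b)
        rw [pow_three, Equiv.Perm.mul_apply, Equiv.Perm.mul_apply, e1, e2, e1,
          Equiv.Perm.one_apply] at e3
        exact Bool.not_ne_self b (congrArg Prod.snd e3)
    obtain ⟨ν, hν2, hν⟩ := hker _ h0
    rw [hν, LinearMap.smul_apply, Module.End.one_apply] at h2
    rw [smul_left_cancel' hv h2] at hν2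
    exact absurd hν2 (by decide)
  -- the finitely many signed permutations
  set S := (Finset.univ : Finset (Equiv.Perm (Fin 5 × Bool))).filter fun Ψ =>
    ∃ g, Φ g = Ψ ∧ Ψ ^ 3 = 1 ∧ σ g ^ 3 = 1 ∧ π g ≠ 1 with hS
  have hSmem : ∀ Ψ, Ψ ∈ S ↔ ∃ g, Φ g = Ψ ∧ Ψ ^ 3 = 1 ∧ σ g ^ 3 = 1 ∧ π g ≠ 1 := fun Ψ => by simp [hS]
  set T := (Finset.univ : Finset (Equiv.Perm (Fin 5))).filter fun τ => τ ^ 3 = 1 ∧ τ ≠ 1 ∧ τ ∈ π.range
  have hT : T.card ≤ 9 := three_cycles_le π.range
    (Group.isSolvable_of_surjective π.rangeRestrict_surjective) T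
    fun τ hτ => (Finset.mem_filter.mp hτ).2
  have hπ3 : ∀ g, Φ g ^ 3 = 1 → π g ^ 3 = 1 := by
    intro g h
    rw [← map_pow] at h ⊢
    refine Equiv.ext fun i => ?_
    rw [← hπ _ (i, false), h]
    rfl
  have hScard : S.card ≤ 36 := by
    let par : Equiv.Perm (Fin 5 × Bool) → Fin 5 → Fin 5 := fun Ψ i => (Ψ (i, false)).1
    let mv : (Fin 5 → Fin 5) → Fin 5 := fun p => if h : ∃ a, p a ≠ a then h.choose else 0
    let code : Equiv.Perm (Fin 5 × Bool) → (Fin 5 → Fin 5) × Bool × Bool := fun Ψ =>
      (par Ψ, (Ψ (mv (par Ψ), false)).2, (Ψ (par Ψ (mv (par Ψ)), false)).2)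
    have hsub : ∀ Ψ ∈ S, code Ψ ∈ (T.image fun τ : Equiv.Perm (Fin 5) => (τ : Fin 5 → Fin 5)) ×ˢ
        (Finset.univ : Finset (Bool × Bool)) := by
      intro Ψ hΨ
      obtain ⟨g, rfl, h3, -, h1⟩ := (hSmem Ψ).mp hΨ
      refine Finset.mem_product.mpr ⟨Finset.mem_image.mpr ⟨π g, Finset.mem_filter.mpr
        ⟨Finset.mem_univ _, hπ3 g h3, h1, ⟨g, rfl⟩⟩, ?_⟩, Finset.mem_univ _⟩
      exact funext fun i => (hπ g (i, false)).symm
    have hinjc : Set.InjOn code S := by
      intro Ψ hΨ Ψ' hΨ' hcode
      obtain ⟨g, rfl, h3, -, h1⟩ := (hSmem Ψ).mp hΨ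
      obtain ⟨g', rfl, h3', -, -⟩ := (hSmem Ψ').mp hΨ'
      simp only [code, Prod.mk.injEq] at hcode
      obtain ⟨hp, hb1, hb2⟩ := hcode
      have hpi : ∀ g, par (Φ g) = π g := fun g => funext fun i => hπ g (i, false)
      rw [← hp, hpi g] at hb1 hb2
      rw [hpi, hpi] at hp
      have hp' : π g = π g' := Equiv.ext fun i => congrFun hp i
      set a := mv (π g) with ha
      have hex : ∃ a, π g a ≠ a := by
        by_contra! h
        exact h1 (Equiv.ext h)
      have hmova : π g a ≠ a := by
        simp only [ha, mv, dif_pos hex]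
        exact hex.choose_spec
      have hall : ∀ i, Φ g (i, false) = Φ g' (i, false) → ∀ b, Φ g (i, b) = Φ g' (i, b) := by
        intro i hi b
        cases b
        · exact hi
        · rw [show (true : Bool) = !false from rfl, hflip, hflip, hi]
      have e1 : Φ g (a, false) = Φ g' (a, false) := Prod.ext (by rw [hπ, hπ, hp']) hb1
      have e2 : Φ g (π g a, false) = Φ g' (π g a, false) := Prod.ext (by rw [hπ, hπ, hp']) hb2
      have e3 : Φ g (π g (π g a), false) = Φ g' (π g (π g a), false) := by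
        have hy : Φ g (Φ g (a, false)) = Φ g' (Φ g' (a, false)) := by
          rw [← e1]
          have := hall (π g a) e2 (Φ g (a, false)).2
          rwa [show ((π g a, (Φ g (a, false)).2) : Fin 5 × Bool) = Φ g (a, false) from
            Prod.ext (hπ g (a, false)).symm rfl] at this
        set y := Φ g (Φ g (a, false)) with hy'
        have hy1 : y.1 = π g (π g a) := by rw [hy', hπ, hπ]
        have c1 : Φ g y = (a, false) := by
          have := Equiv.congr_fun h3 (a, false)
          rwa [pow_three, Equiv.Perm.mul_apply, Equiv.Perm.mul_apply, Equiv.Perm.one_apply] at this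
        have c2 : Φ g' y = (a, false) := by
          have := Equiv.congr_fun h3' (a, false)
          rwa [pow_three, Equiv.Perm.mul_apply, Equiv.Perm.mul_apply, Equiv.Perm.one_apply, ← hy] at this
        rw [← hy1]
        cases hb : y.2 with
        | false => rw [show ((y.1, false) : Fin 5 × Bool) = y from Prod.ext rfl hb.symm, c1, c2]
        | true =>
          rw [show ((y.1, false) : Fin 5 × Bool) = (y.1, !true) from rfl, hflip, hflip,
            show ((y.1, true) : Fin 5 × Bool) = y from Prod.ext rfl hb.symm, c1, c2]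
      refine Equiv.ext fun p => ?_
      obtain ⟨i, b⟩ := p
      refine hall i ?_ b
      rcases (perm_five_facts.2 (π g) (hπ3 g h3) h1).2 a i hmova with h | rfl | rfl | rfl
      · -- a fixed point keeps its sign
        have hsame : ∀ g, Φ g ^ 3 = 1 → π g i = i → Φ g (i, false) = (i, false) := by
          intro g hc hi
          cases hb : (Φ g (i, false)).2 with
          | false => exact Prod.ext ((hπ g (i, false)).trans hi) hb
          | true =>
            have e : Φ g (i, false) = (i, true) := Prod.ext ((hπ g (i, false)).trans hi) hb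
            have e' : Φ g (i, true) = (i, false) := by
              rw [show (true : Bool) = !false from rfl, hflip, e]; rfl
            have := Equiv.congr_fun hc (i, false)
            rw [pow_three, Equiv.Perm.mul_apply, Equiv.Perm.mul_apply, e, e', e,
              Equiv.Perm.one_apply] at this
            exact absurd (congrArg Prod.snd this) (by simp)
        rw [hsame g h3 h, hsame g' h3' (hp' ▸ h)]
      · exact e1
      · exact e2
      · exact e3
    refine (Finset.card_le_card_of_injOn code hsub hinjc).trans ?_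
    rw [Finset.card_product, show (Finset.univ : Finset (Bool × Bool)).card = 4 from rfl]
    exact le_trans (Nat.mul_le_mul_right 4 (Finset.card_image_le.trans hT)) le_rfl
  have hrep : ∀ Ψ, ∃ g, Ψ ∈ S → Φ g = Ψ ∧ Ψ ^ 3 = 1 ∧ σ g ^ 3 = 1 ∧ π g ≠ 1 := fun Ψ => by
    by_cases h : Ψ ∈ S
    · obtain ⟨g, hg⟩ := (hSmem Ψ).mp h
      exact ⟨g, fun _ => hg⟩
    · exact ⟨1, fun h' => absurd h' h⟩
  choose rep hrep using hrep
  let W : (Fin 5 × Bool) ⊕ Equiv.Perm (Fin 5 × Bool) → Submodule (ZMod 7) V :=
    Sum.elim (fun p => LinearMap.ker (sgn f p - 1)) fun Ψ => eig σ (rep Ψ) 2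
  refine cover_false (V := V) (Finset.univ.disjSum S) W 49 (by norm_num) ?_ (fun x hx => ?_)
    (fun v hv => ?_)
  · rw [Finset.card_disjSum, Finset.card_univ, Fintype.card_prod, Fintype.card_fin, Fintype.card_bool]
    omega
  · have key : Module.finrank (ZMod 7) (W x) ≤ 2 := by
      rcases x with ⟨i, b⟩ | Ψ
      · obtain ⟨j, hj⟩ := exists_ne i
        have e1 : sgn f (i, b) * sgn f (i, b) = 1 := by cases b <;> simp [sgn, hsq]
        have e2 : sgn f (i, b) * f j = -(f j * sgn f (i, b)) := by
          cases b <;> simp [sgn, hanti i j hj.symm]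
        have h := (finrank_fixed_two e1 (hu j) e2).1
        show Module.finrank (ZMod 7) (LinearMap.ker (sgn f (i, b) - 1)) ≤ 2
        rw [hD] at h
        exact Nat.le_of_mul_le_mul_left (h.le.trans (by norm_num)) two_pos
      · obtain ⟨hg, hΨ3, hg3, hg1⟩ := hrep Ψ (Finset.inr_mem_disjSum.mp hx)
        set g := rep Ψ
        obtain ⟨⟨a, c, hac, ha, hc⟩, -⟩ := perm_five_facts.2 (π g) (hπ3 g (hg ▸ hΨ3)) hg1
        have hcm : ∀ i, π g i = i → ∀ v, σ g (f i v) = f i (σ g v) := by
          intro i hi v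
          cases hb : (Φ g (i, false)).2 with
          | false =>
            have h := hΦ g (i, false)
            rw [show Φ g (i, false) = (i, false) from Prod.ext ((hπ g (i, false)).trans hi) hb] at h
            simp only [sgn, cond_false] at h
            conv_rhs => rw [h]
            rw [Module.End.mul_apply, Module.End.mul_apply, rho_inv_self]
          | true =>
            exfalso
            have e : Φ g (i, false) = (i, true) := Prod.ext ((hπ g (i, false)).trans hi) hb
            have e' : Φ g (i, true) = (i, false) := by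
              rw [show (true : Bool) = !false from rfl, hflip, e]; rfl
            have := Equiv.congr_fun (hg ▸ hΨ3) (i, false)
            rw [pow_three, Equiv.Perm.mul_apply, Equiv.Perm.mul_apply, e, e', e,
              Equiv.Perm.one_apply] at this
            exact absurd (congrArg Prod.snd this) (by simp)
        obtain ⟨hP, hcompl, hmap⟩ := finrank_fixed_two (hsq a) (hu c) (hanti a c hac)
        simp only [W, Sum.elim_inr]
        set U := eig σ g 2 with hU
        set P := LinearMap.ker (f a - 1)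
        set M := LinearMap.ker (f a + 1)
        have hPne : ¬ P ≤ U := by
          intro hle
          have htop : U = ⊤ := by
            rw [eq_top_iff, ← hcompl.sup_eq_top, ← hmap]
            refine sup_le hle ?_
            rintro _ ⟨w, hw, rfl⟩
            have hwU := hle hw
            rw [hU, mem_eig] at hwU ⊢
            rw [hcm c hc, hwU, map_smul]
          exact eig_ne_top hE g (c := 2) (by decide) htop
        have h1 : Module.finrank (ZMod 7) (U ⊓ P : Submodule (ZMod 7) V) ≤ 1 := by
          have := Submodule.finrank_lt_finrank_of_lt (lt_of_le_of_ne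
            (inf_le_right : U ⊓ P ≤ P) fun e => hPne (e ▸ inf_le_left))
          omega
        have hUM : Module.finrank (ZMod 7) (U ⊓ M : Submodule (ZMod 7) V) ≤ 1 := by
          refine le_trans (le_trans ?_ (Submodule.finrank_mono (show (U ⊓ P).map (f c) ≥ U ⊓ M from ?_)))
            ((Submodule.finrank_map_le (f c) _).trans h1)
          · exact le_rfl
          · rintro w ⟨hwU, hwM⟩
            obtain ⟨y, hy, rfl⟩ := (hmap ▸ hwM : w ∈ P.map (f c))
            refine ⟨y, ⟨?_, hy⟩, rfl⟩
            rw [SetLike.mem_coe, hU, mem_eig] at hwU ⊢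
            rw [hcm c hc, ← map_smul] at hwU
            exact ((Module.End.isUnit_iff _).mp (hu c)).injective hwU
        have hsup : U ≤ (U ⊓ P) ⊔ (U ⊓ M) := by
          intro w hw
          have hfw : f a w ∈ U := by
            rw [hU, mem_eig] at hw ⊢
            rw [hcm a ha, hw, map_smul]
          have hff : f a (f a w) = w := LinearMap.congr_fun (hsq a) w
          have e : w = (4 : ZMod 7) • (w + f a w) + (4 : ZMod 7) • (w - f a w) := by
            rw [← smul_add, show w + f a w + (w - f a w) = (2 : ZMod 7) • w by rw [two_smul]; abel,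
              smul_smul, show (4 : ZMod 7) * 2 = 1 by decide, one_smul]
          rw [e]
          refine Submodule.add_mem_sup (Submodule.smul_mem _ _ ⟨U.add_mem hw hfw, ?_⟩)
            (Submodule.smul_mem _ _ ⟨U.sub_mem hw hfw, ?_⟩)
          · simp [P, LinearMap.mem_ker, hff, add_comm]
          · simp [M, LinearMap.mem_ker, hff]
        exact (Submodule.finrank_mono hsup).trans
          ((Submodule.finrank_add_le_finrank_add_finrank _ _).trans (by omega))
    rw [Module.natCard_eq_pow_finrank (K := ZMod 7), Module.natCard_eq_pow_finrank (K := ZMod 7) (V := V),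
      Nat.card_eq_fintype_card (α := ZMod 7), ZMod.card, hD, show (49 : ℕ) = 7 ^ 2 from rfl, ← pow_add]
    exact Nat.pow_le_pow_right (by norm_num) (by omega)
  · rcases hcov v hv with ⟨p, hp⟩ | ⟨s, hs⟩
    · refine ⟨Sum.inl p, Finset.inl_mem_disjSum.mpr (Finset.mem_univ p), ?_⟩
      simp [W, LinearMap.mem_ker, hp]
    · obtain ⟨h2, h3, hσ3, h1⟩ := hscaler v s hv hs
      have hmem : Φ (s ^ 80) ∈ S := (hSmem _).mpr ⟨_, rfl, h3, hσ3, h1⟩
      refine ⟨Sum.inr (Φ (s ^ 80)), Finset.inr_mem_disjSum.mpr hmem, ?_⟩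
      obtain ⟨hg, -, hg3, -⟩ := hrep _ hmem
      set g := rep (Φ (s ^ 80))
      obtain ⟨μ, hμ2, hμ⟩ := hker (g⁻¹ * s ^ 80) (by rw [map_mul, map_inv, hg, inv_mul_cancel])
      have hsg : σ (s ^ 80) = μ • σ g := by
        conv_lhs => rw [← mul_inv_cancel_left g (s ^ 80), map_mul, hμ, mul_smul_comm, mul_one]
      have hμ1 : μ = 1 := by
        refine cube_two_eq_one hμ2 ?_
        rw [hsg, smul_pow, hg3] at hσ3
        have := LinearMap.congr_fun hσ3 v
        rw [LinearMap.smul_apply, Module.End.one_apply] at this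
        exact smul_left_cancel' hv (this.trans (one_smul _ v).symm)
      simp only [W, Sum.elim_inr, mem_eig]
      rw [hμ1, one_smul] at hsg
      rw [← hsg]
      exact h2

/-- A group acting through a quaternion group extended by permutations of its axes is planar. -/
theorem quat_small [Finite V] [Finite N] [Nontrivial V] (σ : N →* Module.End (ZMod 7) V)
    (hinj : Function.Injective σ) (hS : Scal σ) (f : Fin 3 → Module.End (ZMod 7) V)
    (hsq : ∀ i, f i * f i = -1) (hanti : ∀ i j, i ≠ j → f i * f j = -(f j * f i))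
    (hthird : f 2 = f 0 * f 1) (hperm : ∀ g i, ∃ p, σ g * f i * σ g⁻¹ = sgn f p)
    (hreal : ∀ i, ∃ g, σ g = f i)
    (hcent : ∀ g, (∀ i, Commute (σ g) (f i)) → σ g = 1 ∨ σ g = -1) :
    Module.finrank (ZMod 7) V ≤ 2 := by
  classical
  by_contra hD
  have := Fintype.ofFinite N
  have hu : ∀ i, IsUnit (f i) := fun i =>
    ⟨⟨f i, -f i, by rw [mul_neg, hsq, neg_neg], by rw [neg_mul, hsq, neg_neg]⟩, rfl⟩
  obtain ⟨Φ, π, hΦ, hπ, -⟩ := exists_signed σ hu hanti hperm
  set Q : Finset (Module.End (ZMod 7) V) :=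
    ((Finset.univ : Finset (Option (Fin 3) × Bool))).image fun x =>
      bif x.2 then -(x.1.elim 1 f) else x.1.elim 1 f with hQ
  have hQmem : ∀ A, A ∈ Q ↔ ∃ o : Option (Fin 3), A = o.elim 1 f ∨ A = -(o.elim 1 f) := by
    intro A
    rw [hQ, Finset.mem_image]
    constructor
    · rintro ⟨⟨o, b⟩, -, rfl⟩
      cases b
      exacts [⟨o, Or.inl rfl⟩, ⟨o, Or.inr rfl⟩]
    · rintro ⟨o, rfl | rfl⟩
      exacts [⟨(o, false), Finset.mem_univ _, rfl⟩, ⟨(o, true), Finset.mem_univ _, rfl⟩]
  have hsigns : ∀ g i, π g i = i → σ g * f i = f i * σ g ∨ σ g * f i = -(f i * σ g) := by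
    intro g i hi
    have h := hΦ g (i, false)
    rw [show Φ g (i, false) = (i, (Φ g (i, false)).2) from Prod.ext ((hπ g (i, false)).trans hi) rfl] at h
    cases hb : (Φ g (i, false)).2 <;> rw [hb] at h <;> simp only [sgn, cond_true, cond_false] at h
    · left
      conv_rhs => rw [h, mul_assoc, ← map_mul, inv_mul_cancel, map_one, mul_one]
    · right
      rw [← neg_mul]
      conv_rhs => rw [h, mul_assoc, ← map_mul, inv_mul_cancel, map_one, mul_one]
  -- the kernel of the permutation action
  have hker : ∀ g, π g = 1 → σ g ∈ Q := by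
    intro g hg
    have hfix : ∀ i, π g i = i := fun i => by rw [hg]; rfl
    -- an element of the quaternion group with the same signs
    obtain ⟨o, ho⟩ : ∃ o : Option (Fin 3), ∀ i : Fin 3, i ≠ 2 →
        (σ g * f i = f i * σ g → (o.elim 1 f) * f i = f i * (o.elim 1 f)) ∧
        (σ g * f i = -(f i * σ g) → (o.elim 1 f) * f i = -(f i * (o.elim 1 f))) := by
      have hexcl : ∀ i, ¬ (σ g * f i = f i * σ g ∧ σ g * f i = -(f i * σ g)) := by
        rintro i ⟨h1, h2⟩
        exact ((hu i).mul ((Group.isUnit g).map σ)).ne_zero (end_eq_zero_of_eq_neg (h1.symm.trans h2))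
      rcases hsigns g 0 (hfix 0) with a | a <;> rcases hsigns g 1 (hfix 1) with b | b
      · refine ⟨none, fun i hi => ⟨fun _ => by simp, fun h => absurd ⟨?_, h⟩ (hexcl i)⟩⟩
        fin_cases i
        exacts [a, b, absurd rfl hi]
      · refine ⟨some 0, fun i hi => ?_⟩
        fin_cases i
        · exact ⟨fun _ => rfl, fun h => absurd ⟨a, h⟩ (hexcl 0)⟩
        · exact ⟨fun h => absurd ⟨h, b⟩ (hexcl 1), fun _ => hanti 0 1 (by decide)⟩
        · exact absurd rfl hi
      · refine ⟨some 1, fun i hi => ?_⟩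
        fin_cases i
        · exact ⟨fun h => absurd ⟨h, a⟩ (hexcl 0), fun _ => hanti 1 0 (by decide)⟩
        · exact ⟨fun _ => rfl, fun h => absurd ⟨b, h⟩ (hexcl 1)⟩
        · exact absurd rfl hi
      · refine ⟨some 2, fun i hi => ?_⟩
        fin_cases i
        · exact ⟨fun h => absurd ⟨h, a⟩ (hexcl 0), fun _ => hanti 2 0 (by decide)⟩
        · exact ⟨fun h => absurd ⟨h, b⟩ (hexcl 1), fun _ => hanti 2 1 (by decide)⟩
        · exact absurd rfl hi
    obtain ⟨r, hr⟩ : ∃ r, σ r = o.elim 1 f := by
      cases o with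
      | none => exact ⟨1, map_one σ⟩
      | some i => exact hreal i
    have hcomm : ∀ i : Fin 3, i ≠ 2 → Commute (σ (r⁻¹ * g)) (f i) := by
      intro i hi
      show σ (r⁻¹ * g) * f i = f i * σ (r⁻¹ * g)
      rw [map_mul]
      rcases hsigns g i (hfix i) with e | e
      · have h2 : Commute (σ r) (f i) := by rw [hr]; exact (ho i hi).1 e
        have h3 : σ r⁻¹ * f i = f i * σ r⁻¹ := by
          calc σ r⁻¹ * f i = σ r⁻¹ * (f i * σ r) * σ r⁻¹ := by
                rw [mul_assoc, mul_assoc, ← map_mul, mul_inv_cancel, map_one, mul_one]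
            _ = f i * σ r⁻¹ := by
                rw [← h2.eq, ← mul_assoc, ← map_mul, inv_mul_cancel, map_one, one_mul]
        rw [mul_assoc, e, ← mul_assoc, h3, mul_assoc]
      · have h2 : σ r * f i = -(f i * σ r) := by rw [hr]; exact (ho i hi).2 e
        have h3 : σ r⁻¹ * f i = -(f i * σ r⁻¹) := by
          calc σ r⁻¹ * f i = σ r⁻¹ * (f i * σ r) * σ r⁻¹ := by
                rw [mul_assoc, mul_assoc, ← map_mul, mul_inv_cancel, map_one, mul_one]
            _ = -(f i * σ r⁻¹) := by
                rw [show f i * σ r = -(σ r * f i) by rw [h2, neg_neg], mul_neg, neg_mul,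
                  ← mul_assoc, ← map_mul, inv_mul_cancel, map_one, one_mul]
        rw [mul_assoc, e, mul_neg, ← mul_assoc, h3, neg_mul, neg_neg, mul_assoc]
    have hg' : σ g = σ r * σ (r⁻¹ * g) := by rw [← map_mul, mul_inv_cancel_left]
    rw [hg', hr, hQmem]
    rcases hcent (r⁻¹ * g) (fun i => by
        fin_cases i
        · exact hcomm 0 (by decide)
        · exact hcomm 1 (by decide)
        · exact hthird ▸ (hcomm 0 (by decide)).mul_right (hcomm 1 (by decide))) with e | e <;> rw [e]
    · exact ⟨o, Or.inl (mul_one _)⟩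
    · exact ⟨o, Or.inr (by rw [mul_neg, mul_one])⟩
  have hQ4 : ∀ A ∈ Q, A ^ 4 = 1 := by
    intro A hA
    obtain ⟨o, ho⟩ := (hQmem A).mp hA
    have h2 : (o.elim 1 f) ^ 4 = 1 := by
      cases o with
      | none => simp
      | some i =>
        show f i ^ 4 = 1
        rw [show 4 = 2 * 2 from rfl, pow_mul, pow_two (f i), hsq i, neg_one_sq]
    rcases ho with rfl | rfl
    · exact h2
    · rw [Even.neg_pow (by decide), h2]
  have hord : ∀ g : N, g ^ 24 = 1 := fun g => hinj (by
    rw [show 24 = 6 * 4 from rfl, pow_mul, map_pow, map_one]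
    exact hQ4 _ (hker _ (by rw [map_pow]; exact perm_three_facts.1 _)))
  set S := (Finset.univ : Finset N).filter fun g => g ^ 3 = 1 ∧ g ≠ 1
  have hπne : ∀ g ∈ S, π g ≠ 1 := by
    intro g hg h
    obtain ⟨-, h3, h1⟩ := Finset.mem_filter.mp hg
    refine h1 (hinj ?_)
    rw [map_one]
    have h4 := hQ4 _ (hker g h)
    rwa [show 4 = 3 + 1 from rfl, pow_succ, ← map_pow, h3, map_one, one_mul] at h4
  have hScard : S.card ≤ 16 := by
    refine (Finset.card_le_mul_card_image S 8 (f := π) fun τ hτ => ?_).trans ?_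
    · obtain ⟨g0, -, rfl⟩ := Finset.mem_image.mp hτ
      refine le_trans (Finset.card_le_card_of_injOn (t := Q) (fun g => σ (g0⁻¹ * g)) (fun g hg => ?_)
        fun a _ b _ h => mul_left_cancel (hinj h)) (by rw [hQ]; exact Finset.card_image_le.trans (by decide))
      exact hker _ (by rw [map_mul, map_inv, (Finset.mem_filter.mp hg).2, inv_mul_cancel])
    · refine le_trans (Nat.mul_le_mul_left 8 (le_trans (Finset.card_le_card fun τ hτ => ?_) perm_three_facts.2))
        (le_of_eq rfl)
      obtain ⟨g, hg, rfl⟩ := Finset.mem_image.mp hτ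
      refine Finset.mem_filter.mpr ⟨Finset.mem_univ _, ?_, hπne g hg⟩
      rw [← map_pow, (Finset.mem_filter.mp hg).2.1, map_one]
  refine cover_false (V := V) S (fun g => eig σ g 2) 49 (by norm_num) (by omega) (fun g hg => ?_)
    (fun v hv => ?_)
  · obtain ⟨a, ha⟩ : ∃ a, π g a ≠ a := by
      by_contra! h
      exact hπne g hg (Equiv.ext h)
    set U := eig σ g 2 with hU
    have hdis : U ⊓ U.map (f a) = ⊥ := by
      rw [Submodule.eq_bot_iff]
      rintro w ⟨hwU, u, hu', rfl⟩
      have e := hΦ g (a, false)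
      set p := Φ g (a, false) with hp
      have hp1 : p.1 ≠ a := by rw [hp, hπ]; exact ha
      rw [SetLike.mem_coe, hU, mem_eig] at hu' hwU
      have h1 : sgn f p u = f a u := by
        have h := LinearMap.congr_fun e ((2 : ZMod 7) • u)
        rw [← hu'] at h
        simp only [Module.End.mul_apply, rho_inv_self] at h
        simp only [sgn, cond_false] at h
        rw [hu', map_smul, hwU] at h
        exact smul_right_injective V (show (2 : ZMod 7) ≠ 0 by decide) h
      have h2 : (f a * sgn f p) u = -u := by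
        rw [Module.End.mul_apply, h1, ← Module.End.mul_apply, hsq, LinearMap.neg_apply, Module.End.one_apply]
      have h3 : (f a * sgn f p) * (f a * sgn f p) = -1 := by
        obtain ⟨i, b⟩ := p
        have e' : f i * f a = -(f a * f i) := hanti i a hp1
        cases b <;> simp only [sgn, cond_true, cond_false, mul_neg, neg_mul, neg_neg] <;>
          rw [mul_assoc, ← mul_assoc (f i), e', neg_mul, mul_neg, mul_assoc (f a) (f i), hsq i,
            mul_neg, mul_one, mul_neg, hsq a, neg_neg]
      have h4 := LinearMap.congr_fun h3 u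
      rw [Module.End.mul_apply, h2, map_neg, h2, neg_neg, LinearMap.neg_apply, Module.End.one_apply] at h4
      have hu0 : (2 : ZMod 7) • u = 0 := by rw [two_smul]; nth_rw 2 [h4]; rw [add_neg_cancel]
      rw [(smul_eq_zero.mp hu0).resolve_left (by decide), map_zero]
    have h1 := Submodule.finrank_sup_add_finrank_inf_eq U (U.map (f a))
    rw [hdis, finrank_bot, add_zero,
      ← (Submodule.equivMapOfInjective (f a) ((Module.End.isUnit_iff _).mp (hu a)).injective U).finrank_eq] at h1
    have h2 := Submodule.finrank_le (U ⊔ U.map (f a))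
    rw [Module.natCard_eq_pow_finrank (K := ZMod 7), Module.natCard_eq_pow_finrank (K := ZMod 7) (V := V),
      Nat.card_eq_fintype_card (α := ZMod 7), ZMod.card, show (49 : ℕ) = 7 ^ 2 from rfl, ← pow_add]
    exact Nat.pow_le_pow_right (by norm_num) (by omega)
  · obtain ⟨s, hs⟩ := hS v hv 3 (by decide)
    have h2 : σ (s ^ 8) v = (2 : ZMod 7) • v := by
      rw [rho_pow_smul σ hs, show (3 : ZMod 7) ^ 8 = 2 by decide]
    refine ⟨s ^ 8, Finset.mem_filter.mpr ⟨Finset.mem_univ _, by rw [← pow_mul, hord],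
      fun h => ?_⟩, mem_eig.mpr h2⟩
    rw [h, rho_one] at h2
    exact absurd (smul_left_cancel' hv ((one_smul _ v).trans h2)) (by decide)

end CfsgLib.S3Conj.Gow
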