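import Cfsg.Agent.Lib.S3Conj.Gow.System
import Cfsg.Agent.Lib.S3Conj.Gow.Signed

/-!
Quaternion groups acting on planes.
-/

set_option autoImplicit false

namespace CfsgLib.S3Conj.Gow

open Subgroup

universe u v

attribute [local instance] fact_prime_seven

variable {N : Type v} [Group N] {V : Type u} [AddCommGroup V] [Module (ZMod 7) V]

theorem seven_facts : (∀ α β : ZMod 7, α * α + β * β = 0 → α = 0 ∧ β = 0) ∧
    (∀ β : ZMod 7, -β = β → β = 0) ∧ (∀ α : ZMod 7, 2 * α * 2 = 4 → α = 1) ∧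
    (2 : ZMod 7)⁻¹ = 4 :=
  ⟨by decide, by decide, by decide, inv_eq_of_mul_eq_one_right (by decide)⟩

/-- Two anticommuting square roots of `-1`. -/
structure QPair (I J : Module.End (ZMod 7) V) : Prop where
  sqI : ∀ v, I (I v) = -v
  sqJ : ∀ v, J (J v) = -v
  anti : ∀ v, J (I v) = -I (J v)

namespace QPair

variable {I J : Module.End (ZMod 7) V}

theorem of_family {f : Fin 3 → Module.End (ZMod 7) V} (hsq : ∀ i, f i * f i = -1)
    (hanti : ∀ i j, i ≠ j → f i * f j = -(f j * f i)) : QPair (f 0) (f 1) :=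
  ⟨fun v => LinearMap.congr_fun (hsq 0) v, fun v => LinearMap.congr_fun (hsq 1) v,
    fun v => LinearMap.congr_fun (hanti 1 0 (by decide)) v⟩

/-- A combination with square one. -/
def w (I J : Module.End (ZMod 7) V) : Module.End (ZMod 7) V := I + J + (2 : ZMod 7) • (I * J)

theorem w_apply (v : V) : w I J v = I v + J v + (2 : ZMod 7) • I (J v) := rfl

theorem w_w (h : QPair I J) (v : V) : w I J (w I J v) = v := by
  simp only [w_apply, map_add, map_smul, h.sqI, h.sqJ, h.anti, map_neg, neg_neg, smul_neg, smul_add,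
    smul_smul]
  match_scalars <;> decide

theorem w_I (h : QPair I J) (v : V) : w I J (I v) = -I (w I J v) - (2 : ZMod 7) • v := by
  simp only [w_apply, map_add, map_smul, h.sqI, h.anti, map_neg, neg_neg, smul_neg]
  match_scalars <;> decide

theorem indep (h : QPair I J) {e : V} (he : e ≠ 0) {α β : ZMod 7} (h0 : α • e + β • I e = 0) :
    α = 0 ∧ β = 0 := by
  have h1 : α • I e - β • e = 0 := by
    have := congrArg I h0
    rw [map_add, map_smul, map_smul, h.sqI, map_zero, smul_neg, ← sub_eq_add_neg] at this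
    exact this
  have h2 : (α * α + β * β) • e = 0 := by
    have e1 : α • (α • e + β • I e) - β • (α • I e - β • e) = (α * α + β * β) • e := by
      simp only [smul_add, smul_sub, smul_smul]
      match_scalars <;> ring
    rw [← e1, h0, h1, smul_zero, smul_zero, sub_zero]
  have h3 := (smul_eq_zero.mp h2).resolve_right he
  exact seven_facts.1 α β h3

theorem coeff_eq (h : QPair I J) {e : V} (he : e ≠ 0) {α β γ δ : ZMod 7}
    (h0 : α • e + β • I e = γ • e + δ • I e) : α = γ ∧ β = δ := by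
  obtain ⟨h1, h2⟩ := h.indep he (α := α - γ) (β := β - δ) (by
    rw [sub_smul, sub_smul, ← sub_eq_zero.mpr h0]; abel)
  exact ⟨sub_eq_zero.mp h1, sub_eq_zero.mp h2⟩

theorem exists_fixed (h : QPair I J) {b : Submodule (ZMod 7) V} (hI : ∀ x ∈ b, I x ∈ b)
    (hJ : ∀ x ∈ b, J x ∈ b) (hb : b ≠ ⊥) : ∃ e ∈ b, e ≠ 0 ∧ w I J e = e := by
  obtain ⟨u, hu, hu0⟩ := b.exists_mem_ne_zero_of_ne_bot hb
  have hwu : w I J u ∈ b := by
    rw [w_apply]
    exact b.add_mem (b.add_mem (hI u hu) (hJ u hu)) (b.smul_mem _ (hI _ (hJ u hu)))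
  by_cases hne : u + w I J u = 0
  · have hneg : w I J u = -u := eq_neg_of_add_eq_zero_right hne
    refine ⟨I u - u, b.sub_mem (hI u hu) hu, fun h0 => ?_, ?_⟩
    · have := h.indep hu0 (α := -1) (β := 1) (by rw [neg_one_smul, one_smul, ← h0]; abel)
      exact one_ne_zero this.2
    · rw [map_sub, h.w_I, hneg, map_neg, neg_neg, two_smul]
      abel
  · exact ⟨u + w I J u, b.add_mem hu hwu, hne, by rw [map_add, h.w_w, add_comm]⟩

theorem J_eq (h : QPair I J) {e : V} (hw : w I J e = e) :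
    J e = (4 : ZMod 7) • e + (5 : ZMod 7) • I e := by
  have e1 : J e = (3 : ZMod 7) • ((w I J e - I e) - (2 : ZMod 7) • I (w I J e - I e)) := by
    simp only [w_apply, map_add, map_sub, map_smul, h.sqI, smul_add, smul_sub, smul_smul, smul_neg]
    match_scalars <;> decide
  rw [hw, map_sub, h.sqI] at e1
  rw [e1]
  simp only [smul_sub, smul_neg, smul_smul]
  match_scalars <;> decide

theorem fixed_line (h : QPair I J) {e : V} (he : e ≠ 0) (hw : w I J e = e) {α β : ZMod 7}
    (h0 : w I J (α • e + β • I e) = α • e + β • I e) : β = 0 := by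
  rw [map_add, map_smul, map_smul, h.w_I, hw] at h0
  have h1 : (α - 2 * β) • e + (-β) • I e = α • e + β • I e := by
    rw [← h0]
    simp only [smul_sub, smul_neg, smul_smul]
    match_scalars <;> ring
  have h2 := (h.coeff_eq he h1).2
  exact seven_facts.2.1 β h2

theorem span (h : QPair I J) [Finite V] {b : Submodule (ZMod 7) V}
    (hb : Module.finrank (ZMod 7) b = 2) {e : V} (he : e ∈ b) (hIe : I e ∈ b) (he0 : e ≠ 0) {x : V}
    (hx : x ∈ b) : ∃ α β : ZMod 7, x = α • e + β • I e := by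
  have hli : LinearIndependent (ZMod 7) ![e, I e] := LinearIndependent.pair_iff.mpr fun s t hst => h.indep he0 hst
  have hle : Submodule.span (ZMod 7) (Set.range ![e, I e]) ≤ b := by
    rw [Submodule.span_le]
    rintro _ ⟨i, rfl⟩
    fin_cases i
    exacts [he, hIe]
  have heq := Submodule.eq_of_le_of_finrank_le hle
    (by rw [hb, finrank_span_eq_card hli, Fintype.card_fin])
  rw [← heq, Submodule.mem_span_range_iff_exists_fun] at hx
  obtain ⟨c, hc⟩ := hx
  exact ⟨c 0, c 1, by rw [← hc, Fin.sum_univ_two]; rfl⟩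

/-- Operators commuting with the pair are scalars on an invariant plane. -/
theorem commutant (h : QPair I J) [Finite V] {b : Submodule (ZMod 7) V}
    (hb : Module.finrank (ZMod 7) b = 2) (hI : ∀ x ∈ b, I x ∈ b) (hJ : ∀ x ∈ b, J x ∈ b)
    (A : Module.End (ZMod 7) V) (hA : ∀ x ∈ b, A x ∈ b) (hAI : ∀ x ∈ b, A (I x) = I (A x))
    (hAJ : ∀ x ∈ b, A (J x) = J (A x)) : ∃ μ : ZMod 7, ∀ x ∈ b, A x = μ • x := by
  obtain ⟨e, he, he0, hw⟩ := h.exists_fixed hI hJ (fun h0 => by rw [h0, finrank_bot] at hb; omega)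
  obtain ⟨α, β, hAe⟩ := h.span hb he (hI e he) he0 (hA e he)
  have hwA : w I J (A e) = A e := by
    conv_rhs => rw [← hw]
    rw [w_apply, w_apply, map_add, map_add, map_smul, hAI e he, hAJ e he, hAI _ (hJ e he), hAJ e he]
  have hβ : β = 0 := h.fixed_line he0 hw (hAe ▸ hwA)
  rw [hβ, zero_smul, add_zero] at hAe
  refine ⟨α, fun x hx => ?_⟩
  obtain ⟨γ, δ, rfl⟩ := h.span hb he (hI e he) he0 hx
  rw [map_add, map_smul, map_smul, hAI e he, hAe, map_smul]
  simp only [smul_add, smul_smul, mul_comm α]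

/-- Corresponding vectors of two planes. -/
def Twin (I : Module.End (ZMod 7) V) (e f x x' : V) : Prop :=
  ∃ α β : ZMod 7, x = α • e + β • I e ∧ x' = α • f + β • I f

theorem Twin.fun_eq (h : QPair I J) {e f x x' x'' : V} (he : e ≠ 0) (h1 : Twin I e f x x')
    (h2 : Twin I e f x x'') : x' = x'' := by
  obtain ⟨α, β, hx, rfl⟩ := h1
  obtain ⟨γ, δ, hx', rfl⟩ := h2
  obtain ⟨rfl, rfl⟩ := h.coeff_eq he (hx.symm.trans hx')
  rfl

theorem Twin.add {e f x x' y y' : V} (h1 : Twin I e f x x') (h2 : Twin I e f y y') :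
    Twin I e f (x + y) (x' + y') := by
  obtain ⟨α, β, rfl, rfl⟩ := h1
  obtain ⟨γ, δ, rfl, rfl⟩ := h2
  exact ⟨α + γ, β + δ, by rw [add_smul, add_smul]; abel, by rw [add_smul, add_smul]; abel⟩

theorem Twin.smul {e f x x' : V} (c : ZMod 7) (h1 : Twin I e f x x') :
    Twin I e f (c • x) (c • x') := by
  obtain ⟨α, β, rfl, rfl⟩ := h1
  exact ⟨c * α, c * β, by rw [smul_add, smul_smul, smul_smul], by rw [smul_add, smul_smul, smul_smul]⟩

theorem Twin.mapI (h : QPair I J) {e f x x' : V} (h1 : Twin I e f x x') :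
    Twin I e f (I x) (I x') := by
  obtain ⟨α, β, rfl, rfl⟩ := h1
  refine ⟨-β, α, ?_, ?_⟩ <;> rw [map_add, map_smul, map_smul, h.sqI, smul_neg, neg_smul, add_comm]

theorem Twin.mapJ (h : QPair I J) {e f x x' : V} (he : w I J e = e) (hf : w I J f = f)
    (h1 : Twin I e f x x') : Twin I e f (J x) (J x') := by
  obtain ⟨α, β, rfl, rfl⟩ := h1
  refine ⟨4 * α + 5 * β, 5 * α - 4 * β, ?_, ?_⟩
  all_goals
    rw [map_add, map_smul, map_smul, h.anti]
    first | rw [h.J_eq he] | rw [h.J_eq hf]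
    simp only [map_add, map_smul, h.sqI, smul_add, smul_neg, neg_add_rev, neg_neg, smul_smul]
    match_scalars <;> ring

end QPair

/-- Scalers of a vector with components in two blocks. -/
theorem IsSys.block_sq [Finite V] {ρ : N →* Module.End (ZMod 7) V}
    {s : Finset (Submodule (ZMod 7) V)} (hs : IsSys ρ s) {b c : Submodule (ZMod 7) V} (hb : b ∈ s)
    (hc : c ∈ s) (hbc : b ≠ c) {x y : V} (hx : x ∈ b) (hx0 : x ≠ 0) (hy : y ∈ c) (hy0 : y ≠ 0)
    {h : N} (hh : ρ h (x + y) = (3 : ZMod 7) • (x + y)) :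
    ρ (h ^ 2) x = (2 : ZMod 7) • x ∧ ρ (h ^ 2) y = (2 : ZMod 7) • y ∧
      b.map (ρ (h ^ 2)) = b ∧ c.map (ρ (h ^ 2)) = c := by
  classical
  rw [map_add, smul_add] at hh
  set B := b.map (ρ h) with hB
  set C := c.map (ρ h) with hC
  have hBs := hs.inv h b hb
  have hCs := hs.inv h c hc
  have hBC : B ≠ C := fun e => hbc (Submodule.map_injective_of_injective (rho_injective ρ h) e)
  have hloc : ∀ D x', D ∈ s → D ≠ b → D ≠ c → x' ∈ D → x' ≠ 0 →
      ∀ E z, E ∈ s → E ≠ D → z ∈ E → x' + z ≠ (3 : ZMod 7) • x + (3 : ZMod 7) • y := by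
    intro D x' hD hDb hDc hx' hx0' E z hE hED hz e
    refine hx0' (hs.eq_zero_of_mem hD hx' ?_)
    rw [eq_sub_of_add_eq e]
    refine Submodule.sub_mem _ (Submodule.add_mem _ (Submodule.smul_mem _ _ ?_)
      (Submodule.smul_mem _ _ ?_)) ?_
    · exact (Finset.le_sup (f := id) (Finset.mem_erase.mpr ⟨Ne.symm hDb, hb⟩)) hx
    · exact (Finset.le_sup (f := id) (Finset.mem_erase.mpr ⟨Ne.symm hDc, hc⟩)) hy
    · exact (Finset.le_sup (f := id) (Finset.mem_erase.mpr ⟨hED, hE⟩)) hz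
  have hBbc : B = b ∨ B = c := by
    by_contra! hne
    exact hloc B _ hBs hne.1 hne.2 ⟨x, hx, rfl⟩ (fun e => hx0 ((rho_eq_zero ρ).mp e)) C _ hCs hBC.symm
      ⟨y, hy, rfl⟩ hh
  have hCbc : C = b ∨ C = c := by
    by_contra! hne
    exact hloc C _ hCs hne.1 hne.2 ⟨y, hy, rfl⟩ (fun e => hy0 ((rho_eq_zero ρ).mp e)) B _ hBs hBC
      ⟨x, hx, rfl⟩ ((add_comm _ _).trans hh)
  have hgmap : ∀ d : Submodule (ZMod 7) V, d.map (ρ (h ^ 2)) = (d.map (ρ h)).map (ρ h) := fun d => by
    rw [pow_two, map_mul, Module.End.mul_eq_comp, Submodule.map_comp]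
  have hfix : b.map (ρ (h ^ 2)) = b ∧ c.map (ρ (h ^ 2)) = c := by
    rw [hgmap, hgmap, ← hB, ← hC]
    rcases hBbc with e | e <;> rcases hCbc with e' | e'
    · exact absurd (e.trans e'.symm) hBC
    · exact ⟨by rw [e, ← hB, e], by rw [e', ← hC, e']⟩
    · exact ⟨by rw [e, ← hC, e'], by rw [e', ← hB, e]⟩
    · exact absurd (e.trans e'.symm) hBC
  have hgv : ρ (h ^ 2) x + ρ (h ^ 2) y = (2 : ZMod 7) • x + (2 : ZMod 7) • y := by
    rw [pow_two, rho_mul, rho_mul, ← map_add, hh, map_add, map_smul, map_smul, ← smul_add, hh,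
      smul_add, smul_smul, smul_smul]
    rfl
  refine ⟨sub_eq_zero.mp (hs.eq_zero_of_mem hb (Submodule.sub_mem _ (hfix.1.le ⟨x, hx, rfl⟩)
      (b.smul_mem _ hx)) ?_), sub_eq_zero.mp (hs.eq_zero_of_mem hc (Submodule.sub_mem _
      (hfix.2.le ⟨y, hy, rfl⟩) (c.smul_mem _ hy)) ?_), hfix.1, hfix.2⟩
  · rw [show ρ (h ^ 2) x - (2 : ZMod 7) • x = (2 : ZMod 7) • y - ρ (h ^ 2) y by
      rw [sub_eq_sub_iff_add_eq_add, hgv, add_comm]]
    exact (Finset.le_sup (f := id) (Finset.mem_erase.mpr ⟨Ne.symm hbc, hc⟩))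
      (Submodule.sub_mem _ (c.smul_mem _ hy) (hfix.2.le ⟨y, hy, rfl⟩))
  · rw [show ρ (h ^ 2) y - (2 : ZMod 7) • y = (2 : ZMod 7) • x - ρ (h ^ 2) x by
      rw [sub_eq_sub_iff_add_eq_add, add_comm, hgv]]
    exact (Finset.le_sup (f := id) (Finset.mem_erase.mpr ⟨hbc, hb⟩))
      (Submodule.sub_mem _ (b.smul_mem _ hx) (hfix.1.le ⟨x, hx, rfl⟩))

/-- A normal quaternion group forces a single plane. -/
theorem dim_two_of_planes [Finite V] [Nontrivial V] (σ : N →* Module.End (ZMod 7) V) (hS : Scal σ)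
    (hE : Part σ) (f : Fin 3 → Module.End (ZMod 7) V)
    (hsq : ∀ i, f i * f i = -1) (hanti : ∀ i j, i ≠ j → f i * f j = -(f j * f i))
    (hthird : f 2 = f 0 * f 1) (hperm : ∀ g i, ∃ p, σ g * f i * σ g⁻¹ = sgn f p)
    (hreal : ∀ i, ∃ g, σ g = f i) (hP : Planes σ) : Module.finrank (ZMod 7) V = 2 := by
  classical
  obtain ⟨s, hs, hs2⟩ := hP
  have hQ := QPair.of_family hsq hanti
  have hconj : ∀ g i, ∃ p, ∀ v, σ g (f i v) = sgn f p (σ g v) := fun g i => by
    obtain ⟨p, hp⟩ := hperm g i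
    refine ⟨p, fun v => ?_⟩
    rw [← hp, Module.End.mul_apply, Module.End.mul_apply, rho_inv_self]
  -- every member fixes every block
  have hfix : ∀ b ∈ s, ∀ i, ∀ x ∈ b, f i x ∈ b := by
    intro b hb i
    obtain ⟨g0, hg0⟩ := hreal i
    have hcs : b.map (f i) ∈ s := hg0 ▸ hs.inv g0 b hb
    by_cases hc : b.map (f i) = b
    · exact fun x hx => hc.le ⟨x, hx, rfl⟩
    exfalso
    obtain ⟨x, hx, hx0⟩ := b.exists_mem_ne_zero_of_ne_bot (hs.ne_bot b hb)
    obtain ⟨y, hy0, hp⟩ := hE x hx0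
    have hy : y ∈ b := hs.partner_mem hS hb hx hx0 hp
    have hiy0 : f i y ≠ 0 := fun h => hy0 (by
      have := LinearMap.congr_fun (hsq i) y
      rw [Module.End.mul_apply, h, map_zero, LinearMap.neg_apply, Module.End.one_apply] at this
      exact neg_eq_zero.mp this.symm)
    have hv : x + f i y ≠ 0 := fun h => hc (hs.eq_of_mem hcs hb ⟨y, hy, rfl⟩
      (by rw [eq_neg_of_add_eq_zero_right h]; exact b.neg_mem hx) hiy0)
    obtain ⟨h, hh⟩ := hS _ hv 3 (by decide)
    obtain ⟨h1, h2, -, -⟩ := hs.block_sq hb hcs (Ne.symm hc) hx hx0 ⟨y, hy, rfl⟩ hiy0 hh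
    have hgy : σ (h ^ 2) y = (4 : ZMod 7) • y := by
      rw [partner_eq (by decide) (hp _ 2 h1), seven_facts.2.2.2]
    obtain ⟨⟨j, c⟩, hj⟩ := hconj (h ^ 2) i
    have e := hj y
    rw [h2, hgy, map_smul] at e
    have e' : sgn f (j, c) y = (4 : ZMod 7) • f i y := by
      have := congrArg (fun v => (2 : ZMod 7) • v) e
      simp only [smul_smul] at this
      rw [show (2 : ZMod 7) * 2 = 4 by decide, show (2 : ZMod 7) * 4 = 1 by decide, one_smul] at this
      exact this.symm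
    rcases eq_or_ne j i with rfl | hji
    · cases c <;> simp only [sgn, cond_true, cond_false, LinearMap.neg_apply] at e'
      · exact absurd (smul_left_cancel' hiy0 ((one_smul _ _).trans e')) (by decide)
      · exact absurd (smul_left_cancel' hiy0 ((neg_one_smul (ZMod 7) _).trans e')) (by decide)
    · set A := f i * sgn f (j, c) with hA
      have hAy : A y = (-4 : ZMod 7) • y := by
        rw [hA, Module.End.mul_apply, e', map_smul, ← Module.End.mul_apply, hsq, LinearMap.neg_apply,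
          Module.End.one_apply, smul_neg, neg_smul]
      have hAA : A * A = -1 := by
        have e0 : f j * f i = -(f i * f j) := hanti j i hji
        cases c <;> simp only [hA, sgn, cond_true, cond_false, mul_neg, neg_mul, neg_neg] <;>
          rw [mul_assoc, ← mul_assoc (f j), e0, neg_mul, mul_neg, mul_assoc (f i) (f j), hsq j,
            mul_neg, mul_one, mul_neg, hsq i, neg_neg]
      have := LinearMap.congr_fun hAA y
      rw [Module.End.mul_apply, hAy, map_smul, hAy, smul_smul, LinearMap.neg_apply,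
        Module.End.one_apply, ← neg_one_smul (ZMod 7) y] at this
      exact absurd (smul_left_cancel' hy0 this) (by decide)
  have hI : ∀ b ∈ s, ∀ x ∈ b, f 0 x ∈ b := fun b hb => hfix b hb 0
  have hJ : ∀ b ∈ s, ∀ x ∈ b, f 1 x ∈ b := fun b hb => hfix b hb 1
  obtain ⟨b, hb⟩ : s.Nonempty := by
    rw [Finset.nonempty_iff_ne_empty]
    intro h
    have := hs.top
    rw [h, Finset.sup_empty] at this
    exact bot_ne_top this
  by_contra hD
  obtain ⟨c, hc, hcb⟩ : ∃ c ∈ s, c ≠ b := by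
    by_contra! h
    apply hD
    have h1 : s = {b} := Finset.eq_singleton_iff_unique_mem.mpr ⟨hb, h⟩
    rw [← hs.dim, h1, Finset.sum_singleton]
    exact hs2 b hb
  obtain ⟨e, he, he0, hwe⟩ := hQ.exists_fixed (hI b hb) (hJ b hb) (hs.ne_bot b hb)
  obtain ⟨e', he', he0', hwe'⟩ := hQ.exists_fixed (hI c hc) (hJ c hc) (hs.ne_bot c hc)
  obtain ⟨y, hy0, hp⟩ := hE e he0
  have hy : y ∈ b := hs.partner_mem hS hb he he0 hp
  obtain ⟨γ, δ, hyeq⟩ := hQ.span (hs2 b hb) he (hI b hb e he) he0 hy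
  set y' := γ • e' + δ • f 0 e' with hy'
  have hy'c : y' ∈ c := c.add_mem (c.smul_mem _ he') (c.smul_mem _ (hI c hc e' he'))
  have hy'0 : y' ≠ 0 := fun h => hy0 (by
    obtain ⟨hγ, hδ⟩ := hQ.indep he0' h
    rw [hyeq, hγ, hδ, zero_smul, zero_smul, add_zero])
  have hv : e + y' ≠ 0 := fun h => hcb (hs.eq_of_mem hc hb hy'c
    (by rw [eq_neg_of_add_eq_zero_right h]; exact b.neg_mem he) hy'0)
  obtain ⟨h, hh⟩ := hS _ hv 3 (by decide)
  obtain ⟨hge, hgy', -, hgc⟩ := hs.block_sq hb hc (Ne.symm hcb) he he0 hy'c hy'0 hh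
  set g := h ^ 2
  have hgy : σ g y = (4 : ZMod 7) • y := by
    rw [partner_eq (by decide) (hp _ 2 hge), seven_facts.2.2.2]
  -- twins are respected by the quaternion group
  have hT : ∀ p x x', QPair.Twin (f 0) e e' x x' → QPair.Twin (f 0) e e' (sgn f p x) (sgn f p x') := by
    rintro ⟨i, c⟩ x x' h
    have h1 : QPair.Twin (f 0) e e' (f i x) (f i x') := by
      fin_cases i
      · exact h.mapI hQ
      · exact h.mapJ hQ hwe hwe'
      · show QPair.Twin (f 0) e e' (f 2 x) (f 2 x')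
        rw [hthird]
        exact (h.mapJ hQ hwe hwe').mapI hQ
    cases c
    · exact h1
    · have := h1.smul (-1)
      rwa [neg_one_smul, neg_one_smul] at this
  have hee : QPair.Twin (f 0) e e' e e' := ⟨1, 0, by simp, by simp⟩
  obtain ⟨pI, hpI⟩ := hconj g 0
  obtain ⟨pJ, hpJ⟩ := hconj g 1
  obtain ⟨pK, hpK⟩ := hconj g 2
  set w' := sgn f pI + sgn f pJ + (2 : ZMod 7) • sgn f pK with hw'
  have hgw : ∀ v, σ g (QPair.w (f 0) (f 1) v) = w' (σ g v) := by
    intro v
    rw [QPair.w_apply, map_add, map_add, map_smul, hpI, hpJ, ← Module.End.mul_apply (f 0), ← hthird,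
      hpK]
    rfl
  have hw'e : w' e = e := by
    have := hgw e
    rw [hwe, hge, map_smul] at this
    exact (smul_right_injective V (show (2 : ZMod 7) ≠ 0 by decide) this).symm
  have hw'e' : w' e' = e' := by
    have h1 : QPair.Twin (f 0) e e' (w' e) (w' e') :=
      ((hT pI e e' hee).add (hT pJ e e' hee)).add ((hT pK e e' hee).smul 2)
    rw [hw'e] at h1
    exact QPair.Twin.fun_eq hQ he0 h1 hee
  -- `g` fixes the line of `e'`
  have hmem : σ g⁻¹ e' ∈ c := by
    rw [← hgc] at he'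
    obtain ⟨t, ht, hte⟩ := he'
    rw [← hte, rho_inv_self]
    exact ht
  obtain ⟨α, β, hαβ⟩ := hQ.span (hs2 c hc) he' (hI c hc e' he') he0' hmem
  have hβ : β = 0 := by
    refine hQ.fixed_line (α := α) he0' hwe' ?_
    rw [← hαβ]
    apply rho_injective σ g
    rw [hgw, rho_self_inv, hw'e']
  rw [hβ, zero_smul, add_zero] at hαβ
  have hα0 : α ≠ 0 := fun h => he0' (by
    rw [h, zero_smul] at hαβ
    exact (rho_eq_zero σ).mp hαβ)
  have hge' : σ g e' = α⁻¹ • e' := by
    have := congrArg (σ g) hαβ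
    rw [rho_self_inv, map_smul] at this
    conv_rhs => rw [this]
    rw [smul_smul, inv_mul_cancel₀ hα0, one_smul]
  have hgIe : σ g (f 0 e) = (2 : ZMod 7) • sgn f pI e := by rw [hpI, hge, map_smul]
  have hgIe' : σ g (f 0 e') = α⁻¹ • sgn f pI e' := by rw [hpI, hge', map_smul]
  have hTg : ∀ x x', QPair.Twin (f 0) e e' x x' →
      QPair.Twin (f 0) e e' (σ g x) ((2 * α) • σ g x') := by
    rintro x x' ⟨a, b', rfl, rfl⟩
    rw [map_add, map_smul, map_smul, map_add, map_smul, map_smul, hge, hgIe, hge', hgIe']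
    have h2 := ((hee.smul a).add ((hT pI e e' hee).smul b')).smul 2
    have k1 : a • (2 : ZMod 7) • e + b' • (2 : ZMod 7) • sgn f pI e = (2 : ZMod 7) • (a • e + b' • sgn f pI e) := by
      rw [smul_add, smul_comm a, smul_comm b']
    have k2 : (2 * α) • (a • α⁻¹ • e' + b' • α⁻¹ • sgn f pI e') =
        (2 : ZMod 7) • (a • e' + b' • sgn f pI e') := by
      rw [smul_comm a, smul_comm b', ← smul_add, smul_smul, mul_assoc, mul_inv_cancel₀ hα0, mul_one]
    rw [k1, k2]
    exact h2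
  have hyy : QPair.Twin (f 0) e e' y y' := ⟨γ, δ, hyeq, hy'⟩
  have hα1 : α = 1 := by
    have h1 := hTg y y' hyy
    rw [hgy, hgy', smul_smul] at h1
    have h2 := smul_left_cancel' hy'0 (QPair.Twin.fun_eq hQ he0 h1 (hyy.smul 4))
    exact seven_facts.2.2.1 α h2
  rw [hα1, inv_one, one_smul] at hge'
  obtain ⟨z, hz0, hzp⟩ := hE y' hy'0
  have hz : z ∈ c := hs.partner_mem hS hc hy'c hy'0 hzp
  have hgz : σ g z = (4 : ZMod 7) • z := by
    rw [partner_eq (by decide) (hzp _ 2 hgy'), seven_facts.2.2.2]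
  -- three eigenvalues on a plane
  have hδ : δ ≠ 0 := fun hd => by
    have h1 : y' = γ • e' := by rw [hy', hd, zero_smul, add_zero]
    have h2 := hgy'
    rw [h1, map_smul, hge', ← h1] at h2
    exact absurd (smul_left_cancel' hy'0 ((one_smul _ y').trans h2)) (by decide)
  have hgI : δ • σ g (f 0 e') = γ • e' + (2 * δ) • f 0 e' := by
    have h2 := hgy'
    rw [hy', map_add, map_smul, map_smul, hge'] at h2
    rw [eq_sub_of_add_eq' h2, smul_add, smul_smul, smul_smul]
    match_scalars <;> ring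
  obtain ⟨a, b', rfl⟩ := hQ.span (hs2 c hc) he' (hI c hc e' he') he0' hz
  have h1 : (δ * a + b' * γ) • e' + (2 * δ * b') • f 0 e' = (4 * δ * a) • e' + (4 * δ * b') • f 0 e' := by
    have h2 := congrArg (fun v => δ • v) hgz
    simp only [map_add, map_smul, hge', smul_add, smul_comm δ b', hgI, smul_smul] at h2
    calc (δ * a + b' * γ) • e' + (2 * δ * b') • f 0 e'
        = (δ * a) • e' + ((b' * γ) • e' + (b' * (2 * δ)) • f 0 e') := by match_scalars <;> ring
      _ = _ := by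
        rw [h2]
        match_scalars <;> ring
  obtain ⟨h3, h4⟩ := hQ.coeff_eq he0' h1
  have hb0 : b' = 0 := by
    by_contra hne
    have : (2 : ZMod 7) = 4 := mul_right_cancel₀ hδ (mul_right_cancel₀ hne h4)
    exact absurd this (by decide)
  have ha0 : a = 0 := by
    rw [hb0, zero_mul, add_zero] at h3
    by_contra hne
    have : (1 : ZMod 7) = 4 := mul_right_cancel₀ hδ (mul_right_cancel₀ hne (by rw [one_mul]; exact h3))
    exact absurd this (by decide)
  exact hz0 (by rw [ha0, hb0, zero_smul, zero_smul, add_zero])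

end CfsgLib.S3Conj.Gow
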