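import Cfsg.Agent.Lib.S3Conj.Gow.Pair
import Cfsg.Agent.Lib.S3Conj.Gow.QuatPlane

/-!
Primitive groups with scalers and partners act on planes.
-/

set_option autoImplicit false

namespace CfsgLib.S3Conj.Gow

open Subgroup Polynomial

universe u v

attribute [local instance] fact_prime_seven

variable {H : Type v} [Group H] {V : Type u} [AddCommGroup V] [Module (ZMod 7) V]
  {ρ : H →* Module.End (ZMod 7) V}

theorem restr_anti {W : Submodule (ZMod 7) V} {g k : stabSub ρ W}
    (h : ρ (g : H) * ρ (k : H) = -(ρ (k : H) * ρ (g : H))) :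
    restr ρ W g * restr ρ W k = -(restr ρ W k * restr ρ W g) :=
  LinearMap.ext fun w => Subtype.ext (LinearMap.congr_fun h w)

theorem restr_comm {W : Submodule (ZMod 7) V} {g k : stabSub ρ W}
    (h : Commute (ρ (g : H)) (ρ (k : H))) : Commute (restr ρ W g) (restr ρ W k) :=
  LinearMap.ext fun w => Subtype.ext (LinearMap.congr_fun h.eq w)

theorem restr_sq_one {W : Submodule (ZMod 7) V} {g : stabSub ρ W}
    (h : ρ (g : H) * ρ (g : H) = 1) : restr ρ W g * restr ρ W g = 1 :=
  LinearMap.ext fun w => Subtype.ext (LinearMap.congr_fun h w)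

theorem restr_sq_neg {W : Submodule (ZMod 7) V} {g : stabSub ρ W}
    (h : ρ (g : H) * ρ (g : H) = -1) : restr ρ W g * restr ρ W g = -1 :=
  LinearMap.ext fun w => Subtype.ext (LinearMap.congr_fun h w)

/-- Conjugation fixing an operator up to sign: squares commute. -/
theorem commute_sq (σ : H →* Module.End (ZMod 7) V) {a : Module.End (ZMod 7) V} (g : H)
    (h : σ g * a * σ g⁻¹ = a ∨ σ g * a * σ g⁻¹ = -a) : Commute (σ (g ^ 2)) a := by
  have step : ∀ w, (σ g * a * σ g⁻¹) (σ g w) = σ g (a w) := fun w => by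
    rw [Module.End.mul_apply, Module.End.mul_apply, rho_inv_self]
  refine LinearMap.ext fun w => ?_
  rw [Module.End.mul_apply, Module.End.mul_apply, pow_two, rho_mul, rho_mul]
  rcases h with e | e
  · rw [← step, e, ← step, e]
  · rw [← step, e, LinearMap.neg_apply, map_neg, ← step, e, LinearMap.neg_apply, neg_neg]

section Algebra

variable {A : Type*} [Ring A]

theorem five_family {β P : A} (q : Fin 3 → A) (hb : β * β = 1) (hP : P * P = 1)
    (hbP : β * P = -(P * β)) (hqb : ∀ i, Commute (q i) β) (hqP : ∀ i, Commute (q i) P)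
    (hqq : ∀ i, q i * q i = -1) (hanti : ∀ i j, i ≠ j → q i * q j = -(q j * q i)) :
    (∀ i, (![β, P, P * β * q 0, P * β * q 1, P * β * q 2] : Fin 5 → A) i *
        (![β, P, P * β * q 0, P * β * q 1, P * β * q 2] : Fin 5 → A) i = 1) ∧
      ∀ i j, i ≠ j → (![β, P, P * β * q 0, P * β * q 1, P * β * q 2] : Fin 5 → A) i *
        (![β, P, P * β * q 0, P * β * q 1, P * β * q 2] : Fin 5 → A) j =
        -((![β, P, P * β * q 0, P * β * q 1, P * β * q 2] : Fin 5 → A) j *
          (![β, P, P * β * q 0, P * β * q 1, P * β * q 2] : Fin 5 → A) i) := by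
  set M := P * β with hM
  have hMM : M * M = -1 := by
    rw [hM, mul_assoc P, ← mul_assoc β, hbP, neg_mul, mul_assoc P β β, hb, mul_one, mul_neg, hP]
  have hMq : ∀ i, Commute (q i) M := fun i => (hqP i).mul_right (hqb i)
  have hbM : β * M = -(M * β) := by rw [hM, ← mul_assoc, hbP, neg_mul]
  have hPM : P * M = -(M * P) := by
    rw [hM, mul_assoc P β P, hbP, mul_neg, neg_neg]
  have hsq : ∀ i, M * q i * (M * q i) = 1 := fun i => by
    rw [mul_assoc, ← mul_assoc (q i), (hMq i).eq, mul_assoc M, ← mul_assoc, hMM, hqq, neg_one_mul,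
      neg_neg]
  have hqM : ∀ i j, i ≠ j → M * q i * (M * q j) = -(M * q j * (M * q i)) := fun i j hij => by
    rw [mul_assoc, ← mul_assoc (q i), (hMq i).eq, mul_assoc M, ← mul_assoc, hMM, hanti i j hij,
      mul_assoc M (q j), ← mul_assoc (q j), (hMq j).eq, mul_assoc M, ← mul_assoc, hMM, neg_one_mul,
      neg_one_mul]
  have hbq : ∀ i, β * (M * q i) = -(M * q i * β) := fun i => by
    rw [← mul_assoc, hbM, neg_mul, mul_assoc, ← (hqb i).eq, ← mul_assoc]
  have hPq : ∀ i, P * (M * q i) = -(M * q i * P) := fun i => by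
    rw [← mul_assoc, hPM, neg_mul, mul_assoc, ← (hqP i).eq, ← mul_assoc]
  constructor
  · intro i
    fin_cases i
    exacts [hb, hP, hsq 0, hsq 1, hsq 2]
  · intro i j hij
    fin_cases i <;> fin_cases j <;>
      first
      | exact absurd rfl hij
      | exact hbP
      | exact (neg_eq_iff_eq_neg.mpr hbP).symm
      | exact hbq _
      | exact (neg_eq_iff_eq_neg.mpr (hbq _)).symm
      | exact hPq _
      | exact (neg_eq_iff_eq_neg.mpr (hPq _)).symm
      | exact hqM 0 1 (by decide)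
      | exact hqM 0 2 (by decide)
      | exact hqM 1 0 (by decide)
      | exact hqM 1 2 (by decide)
      | exact hqM 2 0 (by decide)
      | exact hqM 2 1 (by decide)

theorem pm_sq {x : A} {e : A} (h : x = e ∨ x = -e) : x * x = e * e := by
  rcases h with rfl | rfl <;> simp

/-- The products of square one. -/
theorem five_class {β P : A} (q : Fin 3 → A) (hb : β * β = 1) (hP : P * P = 1)
    (hbP : β * P = -(P * β)) (hqb : ∀ i, Commute (q i) β) (hqP : ∀ i, Commute (q i) P)
    (hqq : ∀ i, q i * q i = -1) (hne : (-1 : A) ≠ 1) {t : A} (o : Option (Fin 3)) (e p : A)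
    (he : e = 1 ∨ e = β) (hp : p = 1 ∨ p = P) (ht : t = o.elim 1 q * e * p ∨ t = -(o.elim 1 q * e * p))
    (h1 : t * t = 1) :
    t = 1 ∨ t = -1 ∨
      ∃ i, t = (![β, P, P * β * q 0, P * β * q 1, P * β * q 2] : Fin 5 → A) i ∨
        t = -(![β, P, P * β * q 0, P * β * q 1, P * β * q 2] : Fin 5 → A) i := by
  rw [pm_sq ht] at h1
  cases o with
  | none =>
    simp only [Option.elim_none, one_mul] at ht h1
    rcases he with rfl | rfl <;> rcases hp with rfl | rfl
    · rw [one_mul] at ht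
      rcases ht with h | h
      exacts [Or.inl h, Or.inr (Or.inl h)]
    · rw [one_mul] at ht
      exact Or.inr (Or.inr ⟨1, ht⟩)
    · rw [mul_one] at ht
      exact Or.inr (Or.inr ⟨0, ht⟩)
    · exfalso
      refine hne (Eq.trans ?_ h1)
      rw [mul_assoc e p, ← mul_assoc p, show p * e = -(e * p) by rw [hbP, neg_neg], neg_mul,
        mul_assoc e p p, hP, mul_one, mul_neg, hb]
  | some i =>
    simp only [Option.elim_some] at ht h1
    rcases he with rfl | rfl <;> rcases hp with rfl | rfl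
    · rw [mul_one, mul_one, hqq] at h1
      exact absurd h1 hne
    · rw [mul_one, (hqP i).symm.mul_mul_mul_comm, hqq, hP, mul_one] at h1
      exact absurd h1 hne
    · rw [mul_one, (hqb i).symm.mul_mul_mul_comm, hqq, hb, mul_one] at h1
      exact absurd h1 hne
    · have e1 : q i * e * p = -(p * e * q i) := by
        rw [mul_assoc, hbP, mul_neg, ← mul_assoc, (hqP i).eq, mul_assoc p, (hqb i).eq, ← mul_assoc]
      rw [e1, neg_neg] at ht
      refine Or.inr (Or.inr ?_)
      fin_cases i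
      exacts [⟨2, ht.symm⟩, ⟨3, ht.symm⟩, ⟨4, ht.symm⟩]

end Algebra

theorem neg_one_ne_one [Nontrivial V] : (-1 : Module.End (ZMod 7) V) ≠ 1 := by
  intro h
  obtain ⟨v, hv⟩ := exists_ne (0 : V)
  have := LinearMap.congr_fun h v
  rw [LinearMap.neg_apply, Module.End.one_apply] at this
  exact hv (vec_eq_zero_of_eq_neg this.symm)

theorem nontrivial_pairSpace {R : Subgroup H} {X : Submodule (ZMod 7) V} {r b : H}
    (h : Pair ρ R X r b) : Nontrivial (pairSpace ρ R X r) := by
  obtain ⟨w, hw, hw0⟩ := X.exists_mem_ne_zero_of_ne_bot h.fixed.ne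
  exact ⟨⟨⟨w, h.le hw⟩, 0, fun e => hw0 (congrArg Subtype.val e)⟩⟩

/-- The radical cannot act as signs on a proper fixed space. -/
theorem signs_false [Finite V] [Finite H] {R : Subgroup H} {X : Submodule (ZMod 7) V} {r b : H}
    (h : Pair ρ R X r b) (hS : Scal ρ) (hE : Part ρ)
    (hA : ∀ g : stabSub ρ X, (g : H) ∈ R → restr ρ X g = 1 ∨ restr ρ X g = -1) : False := by
  classical
  set W := pairSpace ρ R X r with hW
  have : Nontrivial W := nontrivial_pairSpace h
  set σ := restr ρ W with hσ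
  set β := σ ⟨b, h.stab_b⟩ with hβ
  set P := σ ⟨r, h.stab_r⟩ with hP
  have hbb : β * β = 1 := restr_sq_one h.bb
  have hPP : P * P = 1 := restr_sq_one h.rr
  have hbP : β * P = -(P * β) := restr_anti h.anti
  have hne : (-1 : Module.End (ZMod 7) W) ≠ 1 := neg_one_ne_one
  let f : Fin 2 → Module.End (ZMod 7) W := ![β, P]
  -- the operators of square one
  have hclass : ∀ t : stabSub ρ W, (t : H) ∈ R → σ t * σ t = 1 →
      σ t = 1 ∨ σ t = -1 ∨ ∃ i, σ t = f i ∨ σ t = -f i := by
    intro t ht h1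
    have main : ∀ u : stabSub ρ W, (u : H) ∈ R → (u : H) ∈ stabSub ρ X →
        σ u = 1 ∨ σ u = -1 ∨ σ u = β ∨ σ u = -β := by
      intro u hu hus
      rcases hA ⟨u, hus⟩ hu with e | e
      · exact h.one_class hu (Or.inl rfl) fun x hx => by
          rw [one_smul]; exact congrArg Subtype.val (LinearMap.congr_fun e ⟨x, hx⟩)
      · exact h.one_class hu (Or.inr rfl) fun x hx => by
          rw [neg_one_smul]; exact congrArg Subtype.val (LinearMap.congr_fun e ⟨x, hx⟩)
    rcases h.classify ht t.2 with hts | hts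
    · rcases main t ht hts with e | e | e | e
      exacts [Or.inl e, Or.inr (Or.inl e), Or.inr (Or.inr ⟨0, Or.inl e⟩), Or.inr (Or.inr ⟨0, Or.inr e⟩)]
    · have et : σ t = σ (t * ⟨r, h.stab_r⟩) * P := by rw [map_mul, mul_assoc, hPP, mul_one]
      rcases main (t * ⟨r, h.stab_r⟩) (R.mul_mem ht h.hr) hts with e | e | e | e <;> rw [e] at et
      · exact Or.inr (Or.inr ⟨1, Or.inl (et.trans (one_mul P))⟩)
      · exact Or.inr (Or.inr ⟨1, Or.inr (et.trans (neg_one_mul P))⟩)
      all_goals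
        exfalso
        refine hne (Eq.trans ?_ h1)
        rw [et]
        try simp only [neg_mul, mul_neg, neg_neg]
        rw [mul_assoc β P, ← mul_assoc P, show P * β = -(β * P) by rw [hbP, neg_neg], neg_mul,
          mul_assoc β P P, hPP, mul_one, mul_neg, hbb]
  obtain ⟨x, hx, hx0⟩ := X.exists_mem_ne_zero_of_ne_bot h.fixed.ne
  obtain ⟨⟨hSX, hEX⟩⟩ := PLift.up (h.fixed.descend h.rad hS hE)
  obtain ⟨y', hy'0, hpy⟩ := hEX ⟨x, hx⟩ fun e => hx0 (congrArg Subtype.val e)
  obtain ⟨y, hy⟩ := y'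
  have hy0 : y ≠ 0 := fun e => hy'0 (Subtype.ext e)
  have hxy : y ≠ x ∧ y ≠ -x := by
    obtain ⟨g, hg⟩ := hSX ⟨x, hx⟩ (fun e => hx0 (congrArg Subtype.val e)) 3 (by decide)
    have h1 : (3 : ZMod 7) • ρ (g : H) y = y := congrArg Subtype.val (hpy g 3 hg)
    have h2 : ρ (g : H) x = (3 : ZMod 7) • x := congrArg Subtype.val hg
    refine ⟨fun e => ?_, fun e => ?_⟩ <;> rw [e] at h1
    · rw [h2, smul_smul] at h1
      exact absurd (smul_left_cancel' hx0 (h1.trans (one_smul _ x).symm)) (by decide)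
    · rw [map_neg, h2, smul_neg, neg_inj, smul_smul] at h1
      exact absurd (smul_left_cancel' hx0 (h1.trans (one_smul _ x).symm)) (by decide)
  set v := x + ρ r y with hv
  have hvW : v ∈ W := Submodule.add_mem _ (h.le hx) (stabSub_mem_maps h.stab_r (h.le hy))
  have hv0 : v ≠ 0 := fun e => hx0 (h.unique hx hy X.zero_mem X.zero_mem
    (by rw [map_zero, add_zero]; exact e)).1
  obtain ⟨g, hg⟩ := hS v hv0 3 (by decide)
  have hgs : g ∈ stabSub ρ W := by
    refine h.scaler hvW hv0 (fun t ht hts htv => ?_) hg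
    have h1 : σ ⟨t, hts⟩ * σ ⟨t, hts⟩ = 1 := restr_sq_one (h.rad.sq_of_fix ht hv0 htv)
    have hfix : σ ⟨t, hts⟩ ⟨v, hvW⟩ = ⟨v, hvW⟩ := Subtype.ext htv
    rcases hclass ⟨t, hts⟩ ht h1 with e | e | ⟨i, e⟩
    · exact fun w hw => congrArg Subtype.val (LinearMap.congr_fun e ⟨w, hw⟩)
    · rw [e, LinearMap.neg_apply, Module.End.one_apply] at hfix
      exact absurd (vec_eq_zero_of_eq_neg hfix.symm) fun e' => hv0 (congrArg Subtype.val e')
    exfalso
    have hβv : ρ b v = x + ρ r (-y) := by rw [hv, map_add, h.hbX x hx, h.b_rX hy, map_neg]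
    have hPv : ρ r v = y + ρ r x := by rw [hv, map_add, h.rrv, add_comm]
    fin_cases i <;> rcases e with e | e <;> rw [e] at hfix <;> have h3 := congrArg Subtype.val hfix <;>
      simp only [f, β, P, σ, Matrix.cons_val_zero, Matrix.cons_val_one, LinearMap.neg_apply,
        Submodule.coe_neg, restr_apply, hβv, hPv, Fin.zero_eta, Fin.mk_one, Fin.isValue] at h3
    · exact hy0 (vec_eq_zero_of_eq_neg (h.unique hx (X.neg_mem hy) hx hy h3).2.symm)
    · rw [neg_add, ← map_neg, neg_neg] at h3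
      exact hx0 (vec_eq_zero_of_eq_neg (h.unique (X.neg_mem hx) hy hx hy h3).1.symm)
    · exact hxy.1 (h.unique hy hx hx hy h3).1
    · rw [neg_add, ← map_neg] at h3
      exact hxy.2 (neg_eq_iff_eq_neg.mp (h.unique (X.neg_mem hy) (X.neg_mem hx) hx hy h3).1)
  -- the induced action on the two classes
  have hfsq : ∀ i, f i * f i = 1 := fun i => by fin_cases i <;> [exact hbb; exact hPP]
  have hanti : ∀ i j, i ≠ j → f i * f j = -(f j * f i) := fun i j hij => by
    fin_cases i <;> fin_cases j <;>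
      first | exact absurd rfl hij | exact hbP | exact (neg_eq_iff_eq_neg.mpr hbP).symm
  have hu : ∀ i, IsUnit (f i) := fun i => ⟨⟨f i, f i, hfsq i, hfsq i⟩, rfl⟩
  have hperm : ∀ k i, ∃ p, σ k * f i * σ k⁻¹ = sgn f p := by
    intro k i
    obtain ⟨t, htR, ht⟩ : ∃ t : stabSub ρ W, (t : H) ∈ R ∧ σ t = f i := by
      fin_cases i <;> [exact ⟨_, h.hb, rfl⟩; exact ⟨_, h.hr, rfl⟩]
    have h1 : σ (k * t * k⁻¹) * σ (k * t * k⁻¹) = 1 := by
      rw [← map_mul, show k * t * k⁻¹ * (k * t * k⁻¹) = k * (t * t) * k⁻¹ by group, map_mul, map_mul,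
        map_mul σ t t, ht, hfsq, mul_one, ← map_mul, mul_inv_cancel, map_one]
    have e : σ k * f i * σ k⁻¹ = σ (k * t * k⁻¹) := by rw [map_mul, map_mul, ht]
    have back : ∀ c : Module.End (ZMod 7) W, σ (k * t * k⁻¹) = c → σ k⁻¹ * c * σ k = f i := by
      intro c hc
      rw [← hc, ← map_mul, ← map_mul, show k⁻¹ * (k * t * k⁻¹) * k = t by group, ht]
    rcases hclass (k * t * k⁻¹) (h.rad.normal.conj_mem _ htR k) h1 with e' | e' | ⟨j, e'⟩
    · exfalso
      have hf := back _ e'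
      rw [mul_one, ← map_mul, inv_mul_cancel, map_one] at hf
      obtain ⟨j, hj⟩ := exists_ne i
      have := hanti i j hj.symm
      rw [← hf, one_mul, mul_one] at this
      exact (hu j).ne_zero (end_eq_zero_of_eq_neg this)
    · exfalso
      have hf := back _ e'
      rw [mul_neg, mul_one, neg_mul, ← map_mul, inv_mul_cancel, map_one] at hf
      obtain ⟨j, hj⟩ := exists_ne i
      have := hanti i j hj.symm
      rw [← hf, neg_one_mul, mul_neg, mul_one, neg_neg] at this
      exact (hu j).ne_zero (end_eq_zero_of_eq_neg this.symm)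
    · rcases e' with e' | e'
      exacts [⟨(j, false), e.trans e'⟩, ⟨(j, true), e.trans e'⟩]
  obtain ⟨Φ, π, hΦ, hπ, hflip⟩ := exists_signed σ hu hanti hperm
  set k : stabSub ρ W := (⟨g, hgs⟩ : stabSub ρ W) ^ 4 with hk
  have hΦk : Φ k = 1 := by
    have h2 : π ((⟨g, hgs⟩ : stabSub ρ W) ^ 2) = 1 := by
      rw [map_pow]
      exact (show ∀ τ : Equiv.Perm (Fin 2), τ ^ 2 = 1 by decide) _
    rw [hk, show 4 = 2 * 2 from rfl, pow_mul, map_pow]
    refine Equiv.ext fun p => ?_
    obtain ⟨i, c⟩ := p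
    obtain ⟨d, hd⟩ : ∃ d, Φ ((⟨g, hgs⟩ : stabSub ρ W) ^ 2) (i, c) = (i, d) :=
      ⟨_, Prod.ext (by rw [hπ, h2]; rfl) rfl⟩
    rw [pow_two, Equiv.Perm.mul_apply, hd, Equiv.Perm.one_apply]
    rcases Bool.eq_or_eq_not d c with rfl | rfl
    · exact hd
    · rw [hflip, hd, Bool.not_not]
  have hcm : ∀ i, ∀ w : W, σ k (f i w) = f i (σ k w) := fun i w => by
    have e := hΦ k (i, false)
    rw [hΦk, Equiv.Perm.one_apply] at e
    simp only [sgn, cond_false] at e
    conv_rhs => rw [e]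
    rw [Module.End.mul_apply, Module.End.mul_apply, rho_inv_self]
  set K := ((k : H)) with hK
  have hkX : ∀ z ∈ X, ρ K z ∈ X := fun z hz => by
    refine h.mem_of_b_fix (stabSub_mem_maps k.2 (h.le hz)) ?_
    have := congrArg Subtype.val (hcm 0 ⟨z, h.le hz⟩)
    simp only [f, β, σ, Matrix.cons_val_zero, restr_apply] at this
    rw [← this, h.hbX z hz]
  have hkr : ρ K (ρ r y) = ρ r (ρ K y) := by
    have := congrArg Subtype.val (hcm 1 ⟨y, h.le hy⟩)
    simpa [f, P, σ] using this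
  have hK4 : ρ K v = (4 : ZMod 7) • v := by
    rw [hK, hk, Subgroup.coe_pow, rho_pow_smul ρ hg, show (3 : ZMod 7) ^ 4 = 4 by decide]
  rw [hv, map_add, hkr, smul_add, ← map_smul] at hK4
  obtain ⟨h1, h2⟩ := h.unique (hkX x hx) (hkX y hy) (X.smul_mem _ hx) (X.smul_mem _ hy) hK4
  have hks : K ∈ stabSub ρ X := mem_stabSub_of_maps hkX
  have h3 : (4 : ZMod 7) • ρ K y = y := congrArg Subtype.val (hpy ⟨K, hks⟩ 4 (Subtype.ext h1))
  rw [h2, smul_smul] at h3
  exact absurd (smul_left_cancel' hy0 (h3.trans (one_smul _ y).symm)) (by decide)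

/-- A quaternion group on a proper fixed plane is impossible. -/
theorem quat_false [Finite V] [Finite H] (hsolv : Group.IsSolvable H) {R : Subgroup H}
    {X : Submodule (ZMod 7) V} (hR : Radical ρ R) (hX : Fixed ρ R X) (hne : X ≠ ⊤) (hS : Scal ρ)
    (hE : Part ρ) (hdim : Module.finrank (ZMod 7) X = 2) (gI gJ : stabSub ρ X) (hIR : (gI : H) ∈ R)
    (hJR : (gJ : H) ∈ R)
    (hsqI : restr ρ X gI * restr ρ X gI = -1) (hsqJ : restr ρ X gJ * restr ρ X gJ = -1)
    (hanti : restr ρ X gI * restr ρ X gJ = -(restr ρ X gJ * restr ρ X gI))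
    (hall : ∀ g : stabSub ρ X, (g : H) ∈ R → ∃ o : Option (Fin 3),
      restr ρ X g = o.elim 1 ![restr ρ X gI, restr ρ X gJ, restr ρ X gI * restr ρ X gJ] ∨
      restr ρ X g = -(o.elim 1 ![restr ρ X gI, restr ρ X gJ, restr ρ X gI * restr ρ X gJ])) :
    False := by
  classical
  have : Nontrivial X := Module.nontrivial_of_finrank_pos (R := ZMod 7) (by omega)
  have hnX : (-1 : Module.End (ZMod 7) X) ≠ 1 := neg_one_ne_one
  have : Nontrivial V := (Submodule.subtype_injective X).nontrivial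
  -- the relations hold globally
  have hII : ρ (gI : H) * ρ (gI : H) = -1 :=
    (hR.sq _ hIR).resolve_left fun e => hnX (hsqI.symm.trans (restr_sq_one e))
  have hJJ : ρ (gJ : H) * ρ (gJ : H) = -1 :=
    (hR.sq _ hJR).resolve_left fun e => hnX (hsqJ.symm.trans (restr_sq_one e))
  have hIJ : ρ (gI : H) * ρ (gJ : H) = -(ρ (gJ : H) * ρ (gI : H)) := by
    refine (hR.sign _ hIR _ hJR).resolve_left fun e => ?_
    have h0 := end_eq_zero_of_eq_neg ((restr_comm (g := gI) (k := gJ) e).eq.symm.trans hanti)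
    have hu : IsUnit (restr ρ X gJ * restr ρ X gI) :=
      ((Group.isUnit gJ).map (restr ρ X)).mul ((Group.isUnit gI).map (restr ρ X))
    exact hu.ne_zero h0
  obtain ⟨r0, hr0, b, hb, hbX, hbr0⟩ := hX.exists_swap hR hne
  have hbb : ρ b * ρ b = 1 := by
    obtain ⟨w, hw, hw0⟩ := X.exists_mem_ne_zero_of_ne_bot hX.ne
    exact hR.sq_of_fix hb hw0 (hbX w hw)
  have hIb : Commute (ρ (gI : H)) (ρ b) := hX.comm_of_stab hR hIR gI.2 hb hbX
  have hJb : Commute (ρ (gJ : H)) (ρ b) := hX.comm_of_stab hR hJR gJ.2 hb hbX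
  -- correct the moving element
  have fix1 : ∀ r ∈ R, ρ b * ρ r = -(ρ r * ρ b) → ∀ a c : H, a ∈ R → c ∈ R →
      Commute (ρ c) (ρ b) → ρ a * ρ c = -(ρ c * ρ a) →
      ∃ r' ∈ R, ρ b * ρ r' = -(ρ r' * ρ b) ∧ Commute (ρ a) (ρ r') ∧
        (Commute (ρ c) (ρ r) → Commute (ρ c) (ρ r')) := by
    intro r hr hbr a c ha hc hcb hac
    rcases hR.sign a ha r hr with e | e
    · exact ⟨r, hr, hbr, e, id⟩
    · refine ⟨r * c, R.mul_mem hr hc, ?_, ?_, fun h => ?_⟩
      · rw [map_mul, ← mul_assoc, hbr, neg_mul, mul_assoc (ρ r), hcb.symm.eq, ← mul_assoc]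
      · show ρ a * ρ (r * c) = ρ (r * c) * ρ a
        rw [map_mul, ← mul_assoc, e, neg_mul, mul_assoc, hac, mul_neg, neg_neg, ← mul_assoc]
      · rw [map_mul]
        exact h.mul_right (Commute.refl _)
  obtain ⟨r1, hr1, hbr1, hIr1, -⟩ := fix1 r0 hr0 hbr0 gI gJ hIR hJR hJb hIJ
  obtain ⟨r2, hr2, hbr2, hJr2, hI2⟩ :=
    fix1 r1 hr1 hbr1 gJ gI hJR hIR hIb (neg_eq_iff_eq_neg.mpr hIJ).symm
  obtain ⟨r, hr, hrr, hbr, hkeep⟩ := hR.exists_invol hr2 hb hbb hbr2
  have hIr : Commute (ρ (gI : H)) (ρ r) := hkeep _ (hI2 hIr1) hIb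
  have hJr : Commute (ρ (gJ : H)) (ρ r) := hkeep _ hJr2 hJb
  have hp : Pair ρ R X r b := ⟨hR, hX, hr, hb, hbX, hrr, hbb, hbr⟩
  set W := pairSpace ρ R X r with hW
  have : Nontrivial W := nontrivial_pairSpace hp
  set σ := restr ρ W with hσ
  set eI : stabSub ρ W := ⟨gI, hp.stab_of_stab hIR gI.2⟩
  set eJ : stabSub ρ W := ⟨gJ, hp.stab_of_stab hJR gJ.2⟩
  set eb : stabSub ρ W := ⟨b, hp.stab_b⟩
  set er : stabSub ρ W := ⟨r, hp.stab_r⟩
  set β := σ eb with hβ
  set P := σ er with hP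
  let q : Fin 3 → Module.End (ZMod 7) W := ![σ eI, σ eJ, σ eI * σ eJ]
  let qe : Fin 3 → stabSub ρ W := ![eI, eJ, eI * eJ]
  have hqe : ∀ i, σ (qe i) = q i := fun i => by fin_cases i <;> [rfl; rfl; exact map_mul σ eI eJ]
  have hbb' : β * β = 1 := restr_sq_one hbb
  have hPP : P * P = 1 := restr_sq_one hrr
  have hbP : β * P = -(P * β) := restr_anti hbr
  have hqb : ∀ i, Commute (q i) β := by
    have h1 : Commute (σ eI) β := restr_comm hIb
    have h2 : Commute (σ eJ) β := restr_comm hJb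
    intro i; fin_cases i
    exacts [h1, h2, h1.mul_left h2]
  have hqP : ∀ i, Commute (q i) P := by
    have h1 : Commute (σ eI) P := restr_comm hIr
    have h2 : Commute (σ eJ) P := restr_comm hJr
    intro i; fin_cases i
    exacts [h1, h2, h1.mul_left h2]
  have hqI : σ eI * σ eI = -1 := restr_sq_neg hII
  have hqJ : σ eJ * σ eJ = -1 := restr_sq_neg hJJ
  have hqIJ : σ eI * σ eJ = -(σ eJ * σ eI) := restr_anti hIJ
  have hqJI : σ eJ * σ eI = -(σ eI * σ eJ) := (neg_eq_iff_eq_neg.mpr hqIJ).symm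
  have hqq : ∀ i, q i * q i = -1 := by
    intro i; fin_cases i
    · exact hqI
    · exact hqJ
    · show σ eI * σ eJ * (σ eI * σ eJ) = -1
      rw [mul_assoc, ← mul_assoc (σ eJ), hqJI, neg_mul, mul_assoc (σ eI), hqJ]
      simp only [mul_neg, mul_one, neg_neg]
      exact hqI
  have hqanti : ∀ i j, i ≠ j → q i * q j = -(q j * q i) := by
    have h02 : σ eI * (σ eI * σ eJ) = -(σ eI * σ eJ * σ eI) := by
      rw [mul_assoc (σ eI) (σ eJ), hqJI, mul_neg, neg_neg]
    have h12 : σ eJ * (σ eI * σ eJ) = -(σ eI * σ eJ * σ eJ) := by rw [← mul_assoc, hqJI, neg_mul]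
    intro i j hij
    fin_cases i <;> fin_cases j <;>
      first
      | exact absurd rfl hij
      | exact hqIJ
      | exact hqJI
      | exact h02
      | exact (neg_eq_iff_eq_neg.mpr h02).symm
      | exact h12
      | exact (neg_eq_iff_eq_neg.mpr h12).symm
  obtain ⟨hfsq, hfanti⟩ := five_family q hbb' hPP hbP hqb hqP hqq hqanti
  set f : Fin 5 → Module.End (ZMod 7) W := ![β, P, P * β * q 0, P * β * q 1, P * β * q 2] with hf
  have hnW : (-1 : Module.End (ZMod 7) W) ≠ 1 := neg_one_ne_one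
  -- elements fixing `X` setwise
  have hstab : ∀ u : stabSub ρ W, (u : H) ∈ R → (u : H) ∈ stabSub ρ X →
      ∃ (o : Option (Fin 3)) (e : Module.End (ZMod 7) W), (e = 1 ∨ e = β) ∧
        (σ u = o.elim 1 q * e ∨ σ u = -(o.elim 1 q * e)) := by
    intro u hu hus
    have one : ∀ u' : stabSub ρ W, (u' : H) ∈ R → ∀ hu' : (u' : H) ∈ stabSub ρ X,
        (restr ρ X ⟨u', hu'⟩ = 1 ∨ restr ρ X ⟨u', hu'⟩ = -1) →
        ∃ e, (e = 1 ∨ e = β) ∧ (σ u' = e ∨ σ u' = -e) := by
      intro u' hu'R hu' hc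
      have key : ∀ ε : ZMod 7, (ε = 1 ∨ ε = -1) → (∀ x ∈ X, ρ (u' : H) x = ε • x) →
          ∃ e, (e = 1 ∨ e = β) ∧ (σ u' = e ∨ σ u' = -e) := fun ε hε hx => by
        rcases hp.one_class hu'R hε hx with e | e | e | e
        exacts [⟨1, Or.inl rfl, Or.inl e⟩, ⟨1, Or.inl rfl, Or.inr e⟩, ⟨β, Or.inr rfl, Or.inl e⟩,
          ⟨β, Or.inr rfl, Or.inr e⟩]
      rcases hc with e | e
      · exact key 1 (Or.inl rfl) fun x hx => by
          rw [one_smul]; exact congrArg Subtype.val (LinearMap.congr_fun e ⟨x, hx⟩)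
      · exact key (-1) (Or.inr rfl) fun x hx => by
          rw [neg_one_smul]; exact congrArg Subtype.val (LinearMap.congr_fun e ⟨x, hx⟩)
    obtain ⟨o, ho⟩ := hall ⟨u, hus⟩ hu
    cases o with
    | none =>
      obtain ⟨e, he, h'⟩ := one u hu hus ho
      exact ⟨none, e, he, by simpa using h'⟩
    | some i =>
      let qX : Fin 3 → stabSub ρ X := ![gI, gJ, gI * gJ]
      have hqX : ∀ i, restr ρ X (qX i) = ![restr ρ X gI, restr ρ X gJ, restr ρ X gI * restr ρ X gJ] i :=
        fun i => by fin_cases i <;> [rfl; rfl; exact map_mul (restr ρ X) gI gJ]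
      have hqXe : ∀ i, ((qX i : H) = (qe i : H)) ∧ (qX i : H) ∈ R := fun i => by
        fin_cases i <;> [exact ⟨rfl, hIR⟩; exact ⟨rfl, hJR⟩; exact ⟨rfl, R.mul_mem hIR hJR⟩]
      have hsq : restr ρ X (qX i) * restr ρ X (qX i) = -1 := by
        fin_cases i
        · exact hsqI
        · exact hsqJ
        · show restr ρ X (gI * gJ) * restr ρ X (gI * gJ) = -1
          rw [map_mul, mul_assoc, ← mul_assoc (restr ρ X gJ),
            (neg_eq_iff_eq_neg.mpr hanti).symm, neg_mul, mul_assoc (restr ρ X gI), hsqJ]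
          simp only [mul_neg, mul_one, neg_neg]
          exact hsqI
      have hus' : ((qe i * u : stabSub ρ W) : H) ∈ stabSub ρ X := by
        rw [Subgroup.coe_mul, ← (hqXe i).1]
        exact (stabSub ρ X).mul_mem (qX i).2 hus
      have heq : restr ρ X ⟨_, hus'⟩ = restr ρ X (qX i) * restr ρ X ⟨u, hus⟩ := by
        rw [← map_mul]
        congr 1
        exact Subtype.ext (by simp [(hqXe i).1])
      obtain ⟨e, he, h'⟩ := one (qe i * u) (by
          rw [Subgroup.coe_mul]
          exact R.mul_mem ((hqXe i).1 ▸ (hqXe i).2) hu) hus' (by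
        rw [heq]
        simp only [Option.elim_some, ← hqX] at ho
        rcases ho with e | e <;> rw [e]
        · exact Or.inr hsq
        · exact Or.inl (by rw [mul_neg, hsq, neg_neg]))
      refine ⟨some i, e, he, ?_⟩
      have eu : σ u = -(q i * σ (qe i * u)) := by
        rw [map_mul, hqe, ← mul_assoc, hqq, neg_one_mul, neg_neg]
      rcases h' with h' | h' <;> rw [h'] at eu
      · exact Or.inr eu
      · exact Or.inl (eu.trans (by simp))
  have hclass : ∀ t : stabSub ρ W, (t : H) ∈ R → σ t * σ t = 1 →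
      σ t = 1 ∨ σ t = -1 ∨ ∃ i, σ t = f i ∨ σ t = -f i := by
    intro t ht h1
    rcases hp.classify ht t.2 with hts | hts
    · obtain ⟨o, e, he, h'⟩ := hstab t ht hts
      exact five_class q hbb' hPP hbP hqb hqP hqq hnW o e 1 he (Or.inl rfl) (by rwa [mul_one]) h1
    · obtain ⟨o, e, he, h'⟩ := hstab (t * er) (R.mul_mem ht hr) hts
      refine five_class q hbb' hPP hbP hqb hqP hqq hnW o e P he (Or.inr rfl) ?_ h1
      have et : σ t = σ (t * er) * P := by rw [map_mul, mul_assoc, hPP, mul_one]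
      rcases h' with h' | h' <;> rw [h'] at et
      · exact Or.inl et
      · exact Or.inr (et.trans (by simp))
  let k : Fin 5 → stabSub ρ W := ![eb, er, er * eb * qe 0, er * eb * qe 1, er * eb * qe 2]
  have hk : ∀ i, σ (k i) = f i ∧ (k i : H) ∈ R := by
    have hqR : ∀ i, (qe i : H) ∈ R := fun i => by
      fin_cases i <;> [exact hIR; exact hJR; exact R.mul_mem hIR hJR]
    have key : ∀ i, σ (er * eb * qe i) = P * β * q i ∧ ((er * eb * qe i : stabSub ρ W) : H) ∈ R :=
      fun i => ⟨by rw [map_mul, map_mul, hqe], R.mul_mem (R.mul_mem hr hb) (hqR i)⟩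
    intro i
    fin_cases i
    exacts [⟨rfl, hb⟩, ⟨rfl, hr⟩, key 0, key 1, key 2]
  -- the dimension
  set PX := LinearMap.ker (β - 1) with hPX
  have hPXm : ∀ w : W, w ∈ PX ↔ (w : V) ∈ X := by
    intro w
    rw [hPX, LinearMap.mem_ker, LinearMap.sub_apply, Module.End.one_apply, sub_eq_zero]
    exact ⟨fun e => hp.mem_of_b_fix w.2 (congrArg Subtype.val e), fun hx => Subtype.ext (hbX _ hx)⟩
  have hu : ∀ i, IsUnit (f i) := fun i => ⟨⟨f i, f i, hfsq i, hfsq i⟩, rfl⟩
  obtain ⟨hrk, hcompl, hmap⟩ := finrank_fixed_two hbb' (hu 1) hbP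
  have hPX2 : Module.finrank (ZMod 7) PX = 2 := by
    rw [← hdim]
    have hm : PX.map W.subtype = X := by
      refine le_antisymm ?_ fun x hx => ⟨⟨x, hp.le hx⟩, (hPXm _).mpr hx, rfl⟩
      rintro _ ⟨w, hw, rfl⟩
      exact (hPXm w).mp hw
    rw [(Submodule.equivMapOfInjective _ (Submodule.subtype_injective W) PX).finrank_eq, hm]
  have hD : Module.finrank (ZMod 7) W = 4 := by
    rw [← hrk]
    exact (congrArg (2 * ·) hPX2).trans rfl
  refine five_false (have := hsolv; (inferInstance : Group.IsSolvable (stabSub ρ W))) hD σ (hp.part hE) f hfsq hfanti ?_ ?_ ?_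
  · -- only scalars commute with the five
    intro A hA
    have hAb : Commute A β := hA 0
    have hAP : Commute A P := hA 1
    have hAq : ∀ i, Commute A (q i) := by
      have hMM : P * β * (P * β) = -1 := by
        rw [mul_assoc P, ← mul_assoc β, hbP, neg_mul, mul_assoc P β β, hbb', mul_one, mul_neg, hPP]
      have hM : Commute A (P * β) := hAP.mul_right hAb
      intro i
      have e : q i = -(P * β * (P * β * q i)) := by
        rw [← mul_assoc, hMM, neg_one_mul, neg_neg]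
      rw [e]
      refine (hM.mul_right ?_).neg_right
      fin_cases i
      exacts [hA 2, hA 3, hA 4]
    have hQ := QPair.of_family hqq hqanti
    have hpres : ∀ B : Module.End (ZMod 7) W, Commute B β → ∀ w ∈ PX, B w ∈ PX := by
      intro B hB w hw
      rw [hPX, LinearMap.mem_ker, LinearMap.sub_apply, Module.End.one_apply, sub_eq_zero] at hw ⊢
      rw [← Module.End.mul_apply, ← hB.eq, Module.End.mul_apply, hw]
    obtain ⟨μ, hμ⟩ := hQ.commutant hPX2 (hpres _ (hqb 0)) (hpres _ (hqb 1)) A (hpres _ hAb)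
      (fun w _ => LinearMap.congr_fun (hAq 0).eq w) (fun w _ => LinearMap.congr_fun (hAq 1).eq w)
    refine ⟨μ, LinearMap.ext fun w => ?_⟩
    obtain ⟨w1, hw1, w2, hw2, rfl⟩ := Submodule.mem_sup.mp
      (hcompl.sup_eq_top ▸ Submodule.mem_top : w ∈ PX ⊔ LinearMap.ker (β + 1))
    rw [← hmap] at hw2
    obtain ⟨w3, hw3, rfl⟩ := hw2
    have e3 : A (f 1 w3) = μ • f 1 w3 := by
      rw [← Module.End.mul_apply, (hA 1).eq, Module.End.mul_apply, hμ w3 hw3, map_smul]
    rw [LinearMap.smul_apply, Module.End.one_apply, map_add, hμ w1 hw1, smul_add]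
    exact congrArg _ e3
  · intro g i
    obtain ⟨hki, hkR⟩ := hk i
    have h1 : σ (g * k i * g⁻¹) * σ (g * k i * g⁻¹) = 1 := by
      rw [← map_mul, show g * k i * g⁻¹ * (g * k i * g⁻¹) = g * (k i * k i) * g⁻¹ by group, map_mul,
        map_mul, map_mul σ (k i) (k i), hki, hfsq, mul_one, ← map_mul, mul_inv_cancel, map_one]
    have e : σ g * f i * σ g⁻¹ = σ (g * k i * g⁻¹) := by rw [map_mul, map_mul, hki]
    have back : ∀ c : Module.End (ZMod 7) W, σ (g * k i * g⁻¹) = c → σ g⁻¹ * c * σ g = f i := by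
      intro c hc
      rw [← hc, ← map_mul, ← map_mul, show g⁻¹ * (g * k i * g⁻¹) * g = k i by group, hki]
    rcases hclass (g * k i * g⁻¹) (hR.normal.conj_mem _ hkR g) h1 with e' | e' | ⟨j, e'⟩
    · exfalso
      have hf' := back _ e'
      rw [mul_one, ← map_mul, inv_mul_cancel, map_one] at hf'
      obtain ⟨j, hj⟩ := exists_ne i
      have := hfanti i j hj.symm
      rw [← hf', one_mul, mul_one] at this
      exact (hu j).ne_zero (end_eq_zero_of_eq_neg this)
    · exfalso
      have hf' := back _ e'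
      rw [mul_neg, mul_one, neg_mul, ← map_mul, inv_mul_cancel, map_one] at hf'
      obtain ⟨j, hj⟩ := exists_ne i
      have := hfanti i j hj.symm
      rw [← hf', neg_one_mul, mul_neg, mul_one, neg_neg] at this
      exact (hu j).ne_zero (end_eq_zero_of_eq_neg this.symm)
    · rcases e' with e' | e'
      exacts [⟨(j, false), e.trans e'⟩, ⟨(j, true), e.trans e'⟩]
  · intro v hv
    by_cases hfix : ∃ p, sgn f p v = v
    · exact Or.inl hfix
    refine Or.inr ?_
    have hv' : (v : V) ≠ 0 := fun e => hv (Subtype.ext e)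
    obtain ⟨g, hg⟩ := hS v hv' 3 (by decide)
    have hgs : g ∈ stabSub ρ W := by
      refine hp.scaler v.2 hv' (fun t ht hts htv => ?_) hg
      have hfixv : σ ⟨t, hts⟩ v = v := Subtype.ext htv
      rcases hclass ⟨t, hts⟩ ht (restr_sq_one (hR.sq_of_fix ht hv' htv)) with e | e | ⟨i, e⟩
      · exact fun w hw => congrArg Subtype.val (LinearMap.congr_fun e ⟨w, hw⟩)
      · rw [e, LinearMap.neg_apply, Module.End.one_apply] at hfixv
        exact absurd (vec_eq_zero_of_eq_neg hfixv.symm) hv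
      · exfalso
        rcases e with e | e <;> rw [e] at hfixv
        exacts [hfix ⟨(i, false), hfixv⟩, hfix ⟨(i, true), hfixv⟩]
    exact ⟨⟨g, hgs⟩, Subtype.ext hg⟩

/-- Primitive groups act on at most two dimensions. -/
theorem primitive_le_two [Finite V] [Finite H] [Nontrivial V] (hsolv : Group.IsSolvable H)
    (hs : Smooth (Nat.card H)) (ρ : H →* Module.End (ZMod 7) V) (hinj : Function.Injective ρ)
    (hS : Scal ρ) (hE : Part ρ) (hp : Prim ρ)
    (ih : ∀ X : Submodule (ZMod 7) V, X ≠ ⊤ → X ≠ ⊥ → Scal (restr ρ X) → Part (restr ρ X) →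
      Planes (restr ρ X)) :
    Module.finrank (ZMod 7) V ≤ 2 := by
  classical
  obtain ⟨R, hR⟩ := exists_radical hsolv hs ρ hinj hS hE hp
  obtain ⟨X, hX⟩ := exists_fixed_space ρ R
  have : Nontrivial X := Submodule.nontrivial_iff_ne_bot.mpr hX.ne
  obtain ⟨hSX, hEX⟩ := hX.descend hR hS hE
  set τ := restr ρ X with hτ
  have hnX : (-1 : Module.End (ZMod 7) X) ≠ 1 := neg_one_ne_one
  have hone : ∀ g : stabSub ρ X, (g : H) ∈ R → τ g * τ g = 1 → τ g = 1 ∨ τ g = -1 := by
    intro g hg h1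
    by_cases hf : ∃ u : X, u ≠ 0 ∧ τ g u = u
    · obtain ⟨u, hu, hgu⟩ := hf
      refine Or.inl (LinearMap.ext fun x => Subtype.ext ?_)
      exact hX.fix g hg u u.2 (fun e => hu (Subtype.ext e)) (congrArg Subtype.val hgu) x x.2
    · refine Or.inr (LinearMap.ext fun x => ?_)
      push Not at hf
      rw [LinearMap.neg_apply, Module.End.one_apply]
      refine eq_neg_of_add_eq_zero_left ?_
      by_contra hne
      refine hf _ hne ?_
      rw [map_add, ← Module.End.mul_apply, h1, Module.End.one_apply, add_comm]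
  have hsq : ∀ g : stabSub ρ X, (g : H) ∈ R → τ g * τ g = 1 ∨ τ g * τ g = -1 := fun g hg =>
    (hR.sq g hg).imp restr_sq_one restr_sq_neg
  have hsgn : ∀ g k : stabSub ρ X, (g : H) ∈ R → (k : H) ∈ R →
      Commute (τ g) (τ k) ∨ τ g * τ k = -(τ k * τ g) := fun g k hg hk =>
    (hR.sign g hg k hk).imp restr_comm restr_anti
  have hconjR : ∀ h g : stabSub ρ X, (g : H) ∈ R → ((h * g * h⁻¹ : stabSub ρ X) : H) ∈ R :=
    fun h g hg => hR.normal.conj_mem _ hg _
  have hnot : ∀ g : stabSub ρ X, (g : H) ∈ R → τ g * τ g = -1 → ∀ h : stabSub ρ X,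
      τ (h * g * h⁻¹) ≠ 1 ∧ τ (h * g * h⁻¹) ≠ -1 := by
    intro g _ hgg h
    have hmove : τ (h * g * h⁻¹) * τ (h * g * h⁻¹) = -1 := by
      rw [← map_mul, show h * g * h⁻¹ * (h * g * h⁻¹) = h * (g * g) * h⁻¹ by group, map_mul, map_mul,
        map_mul τ g g, hgg, mul_neg, mul_one, neg_mul, ← map_mul, mul_inv_cancel, map_one]
    constructor <;> intro e <;> rw [e] at hmove <;> simp only [mul_neg, mul_one, neg_neg] at hmove <;>
      exact hnX hmove.symm
  by_cases hA : ∀ g : stabSub ρ X, (g : H) ∈ R → τ g = 1 ∨ τ g = -1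
  · exfalso
    by_cases hne : X = ⊤
    · obtain ⟨v, hv⟩ := exists_ne (0 : V)
      obtain ⟨h, hh⟩ := hS v hv 3 (by decide)
      have hsc : ∀ t ∈ R, ρ t = 1 ∨ ρ t = -1 := by
        intro t ht
        have hts : t ∈ stabSub ρ X := mem_stabSub_of_maps fun x _ => hne ▸ Submodule.mem_top
        rcases hA ⟨t, hts⟩ ht with e | e
        · exact Or.inl (LinearMap.ext fun w =>
            congrArg Subtype.val (LinearMap.congr_fun e ⟨w, hne ▸ Submodule.mem_top⟩))
        · exact Or.inr (LinearMap.ext fun w =>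
            congrArg Subtype.val (LinearMap.congr_fun e ⟨w, hne ▸ Submodule.mem_top⟩))
      rcases hR.cent h (fun t ht => by rcases hsc t ht with e | e <;> rw [e] <;> simp) with e | e <;>
        rw [e] at hh <;> simp only [LinearMap.neg_apply, Module.End.one_apply] at hh
      · exact absurd (smul_left_cancel' hv ((one_smul _ v).trans hh)) (by decide)
      · exact absurd (smul_left_cancel' hv ((neg_one_smul _ v).trans hh)) (by decide)
    · obtain ⟨r0, hr0, b, hb, hbX, hbr⟩ := hX.exists_swap hR hne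
      obtain ⟨w, hw, hw0⟩ := X.exists_mem_ne_zero_of_ne_bot hX.ne
      have hbb := hR.sq_of_fix hb hw0 (hbX w hw)
      obtain ⟨r, hr, hrr, hbr', -⟩ := hR.exists_invol hr0 hb hbb hbr
      exact signs_false ⟨hR, hX, hr, hb, hbX, hrr, hbb, hbr'⟩ hS hE hA
  push Not at hA
  obtain ⟨gI, hIR, hI1, hI2⟩ := hA
  have hII : τ gI * τ gI = -1 :=
    (hsq gI hIR).resolve_left fun e => (hone gI hIR e).elim hI1 hI2
  have hsame : ∀ g k : stabSub ρ X, (g : H) ∈ R → (k : H) ∈ R → τ g * τ g = -1 → τ k * τ k = -1 →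
      Commute (τ g) (τ k) → τ k = τ g ∨ τ k = -τ g := by
    intro g k hg hk hgg hkk hc
    have h1 : τ (g * k) * τ (g * k) = 1 := by
      rw [map_mul, hc.symm.mul_mul_mul_comm, hgg, hkk, neg_mul_neg, one_mul]
    have e : τ k = -(τ g * τ (g * k)) := by
      rw [map_mul, ← mul_assoc, hgg, neg_one_mul, neg_neg]
    rcases hone (g * k) (R.mul_mem hg hk) h1 with e' | e' <;> rw [e'] at e
    · exact Or.inr (e.trans (by rw [mul_one]))
    · exact Or.inl (e.trans (by rw [mul_neg, mul_one, neg_neg]))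
  by_cases hB : ∀ g : stabSub ρ X, (g : H) ∈ R → τ g = 1 ∨ τ g = -1 ∨ τ g = τ gI ∨ τ g = -τ gI
  · exfalso
    refine no_irrational_central (have := hsolv; (inferInstance : Group.IsSolvable (stabSub ρ X)))
      (fun p hp' hpd => hs p hp' (hpd.trans (Subgroup.card_subgroup_dvd_card _))) τ hSX hEX
      (a := gI) (Polynomial.X ^ 2 + 1) ?_ ?_ (m := 2) (Or.inl rfl) fun h => ?_
    · rw [map_add, map_pow, aeval_X, map_one, pow_two, hII, neg_add_cancel]
    · intro μ
      simp only [eval_add, eval_one, eval_X, eval_pow]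
      revert μ
      decide
    · refine commute_sq τ h ?_
      rw [← map_mul, ← map_mul]
      obtain ⟨n1, n2⟩ := hnot gI hIR hII h
      exact (((hB _ (hconjR h gI hIR)).resolve_left n1).resolve_left n2)
  push Not at hB
  obtain ⟨gJ, hJR, hJ1, hJ2, hJ3, hJ4⟩ := hB
  have hJJ : τ gJ * τ gJ = -1 :=
    (hsq gJ hJR).resolve_left fun e => (hone gJ hJR e).elim hJ1 hJ2
  have hIJ : τ gI * τ gJ = -(τ gJ * τ gI) := (hsgn gI gJ hIR hJR).resolve_left fun hc =>
    (hsame gI gJ hIR hJR hII hJJ hc).elim hJ3 hJ4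
  have hJI : τ gJ * τ gI = -(τ gI * τ gJ) := (neg_eq_iff_eq_neg.mpr hIJ).symm
  set f : Fin 3 → Module.End (ZMod 7) X := ![τ gI, τ gJ, τ gI * τ gJ] with hf
  let ge : Fin 3 → stabSub ρ X := ![gI, gJ, gI * gJ]
  have hge : ∀ i, τ (ge i) = f i ∧ (ge i : H) ∈ R := fun i => by
    fin_cases i <;> [exact ⟨rfl, hIR⟩; exact ⟨rfl, hJR⟩; exact ⟨map_mul τ gI gJ, R.mul_mem hIR hJR⟩]
  have hKK : τ gI * τ gJ * (τ gI * τ gJ) = -1 := by
    rw [mul_assoc, ← mul_assoc (τ gJ), hJI, neg_mul, mul_assoc (τ gI), hJJ]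
    simp only [mul_neg, mul_one, neg_neg]
    exact hII
  have hfsq : ∀ i, f i * f i = -1 := fun i => by fin_cases i <;> [exact hII; exact hJJ; exact hKK]
  have hfanti : ∀ i j, i ≠ j → f i * f j = -(f j * f i) := by
    have h02 : τ gI * (τ gI * τ gJ) = -(τ gI * τ gJ * τ gI) := by
      rw [mul_assoc (τ gI) (τ gJ), hJI, mul_neg, neg_neg]
    have h12 : τ gJ * (τ gI * τ gJ) = -(τ gI * τ gJ * τ gJ) := by rw [← mul_assoc, hJI, neg_mul]
    intro i j hij
    fin_cases i <;> fin_cases j <;>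
      first
      | exact absurd rfl hij
      | exact hIJ
      | exact hJI
      | exact h02
      | exact (neg_eq_iff_eq_neg.mpr h02).symm
      | exact h12
      | exact (neg_eq_iff_eq_neg.mpr h12).symm
  have hall : ∀ g : stabSub ρ X, (g : H) ∈ R →
      ∃ o : Option (Fin 3), τ g = o.elim 1 f ∨ τ g = -(o.elim 1 f) := by
    intro g hg
    rcases hsq g hg with e | e
    · exact ⟨none, hone g hg e⟩
    rcases hsgn gI g hIR hg with hc | hcI
    · exact ⟨some 0, hsame gI g hIR hg hII e hc⟩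
    rcases hsgn gJ g hJR hg with hc | hcJ
    · exact ⟨some 1, hsame gJ g hJR hg hJJ e hc⟩
    refine ⟨some 2, ?_⟩
    have := hsame (gI * gJ) g (R.mul_mem hIR hJR) hg (by rw [map_mul]; exact hKK) e (by
      show τ (gI * gJ) * τ g = τ g * τ (gI * gJ)
      rw [map_mul, mul_assoc, hcJ, mul_neg, ← mul_assoc, hcI, neg_mul, neg_neg, mul_assoc])
    rw [map_mul] at this
    exact this
  have hperm : ∀ h i, ∃ p, τ h * f i * τ h⁻¹ = sgn f p := by
    intro h i
    obtain ⟨hi, hiR⟩ := hge i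
    obtain ⟨n1, n2⟩ := hnot (ge i) hiR (by rw [hi]; exact hfsq i) h
    rw [← hi, ← map_mul, ← map_mul]
    obtain ⟨o, ho⟩ := hall _ (hconjR h (ge i) hiR)
    cases o with
    | none => exact absurd ho (not_or.mpr ⟨n1, n2⟩)
    | some j =>
      rcases ho with e | e
      exacts [⟨(j, false), e⟩, ⟨(j, true), e⟩]
  have hreal : ∀ i, ∃ g, τ g = f i := fun i => ⟨_, (hge i).1⟩
  by_cases hne : X = ⊤
  · have hinjτ : Function.Injective τ := by
      intro a c e
      refine Subtype.ext (hinj (LinearMap.ext fun w => ?_))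
      exact congrArg Subtype.val (LinearMap.congr_fun e ⟨w, hne ▸ Submodule.mem_top⟩)
    have h2 := quat_small τ hinjτ hSX f hfsq hfanti rfl hperm hreal fun g hg => by
      have hg' : ∀ t ∈ R, Commute (ρ (g : H)) (ρ t) := by
        intro t ht
        have hts : t ∈ stabSub ρ X := mem_stabSub_of_maps fun x _ => hne ▸ Submodule.mem_top
        obtain ⟨o, ho⟩ := hall ⟨t, hts⟩ ht
        have hcg : Commute (τ g) (τ ⟨t, hts⟩) := by
          cases o with
          | none => rcases ho with e | e <;> rw [e] <;> simp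
          | some i =>
            rcases ho with e | e <;> rw [e]
            exacts [hg i, (hg i).neg_right]
        refine LinearMap.ext fun w => ?_
        exact congrArg Subtype.val (LinearMap.congr_fun hcg.eq ⟨w, hne ▸ Submodule.mem_top⟩)
      rcases hR.cent g hg' with e | e
      · exact Or.inl (LinearMap.ext fun w => Subtype.ext (LinearMap.congr_fun e w))
      · exact Or.inr (LinearMap.ext fun w => Subtype.ext (LinearMap.congr_fun e w))
    rw [← finrank_top (ZMod 7) V, ← hne]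
    exact h2
  · have hdim := dim_two_of_planes τ hSX hEX f hfsq hfanti rfl hperm hreal (ih X hne hX.ne hSX hEX)
    exact (quat_false hsolv hR hX hne hS hE hdim gI gJ hIR hJR hII hJJ hIJ hall).elim

end CfsgLib.S3Conj.Gow
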