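import Cfsg.Agent.Lib.S3Conj.Gow.System

/-!
The normal two-subgroup of symplectic type of a primitive group.
-/

set_option autoImplicit false

namespace CfsgLib.S3Conj.Gow

open Subgroup Polynomial

universe u v

attribute [local instance] fact_prime_seven

variable {H : Type v} [Group H] {V : Type u} [AddCommGroup V] [Module (ZMod 7) V]

/-- The elements acting as signs. -/
def pm (ρ : H →* Module.End (ZMod 7) V) : Subgroup H where
  carrier := {g | ρ g = 1 ∨ ρ g = -1}
  one_mem' := Or.inl (map_one ρ)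
  mul_mem' := by
    rintro g h (hg | hg) (hh | hh) <;> simp [hg, hh]
  inv_mem' := by
    rintro g (hg | hg)
    · left
      have h : ρ g⁻¹ * ρ g = 1 := by rw [← map_mul, inv_mul_cancel, map_one]
      rwa [hg, mul_one] at h
    · right
      have h : ρ g⁻¹ * ρ g = 1 := by rw [← map_mul, inv_mul_cancel, map_one]
      rw [hg, mul_neg, mul_one] at h
      rw [← h, neg_neg]

theorem mem_pm {ρ : H →* Module.End (ZMod 7) V} {g : H} : g ∈ pm ρ ↔ ρ g = 1 ∨ ρ g = -1 := Iff.rfl

theorem pm_comm {ρ : H →* Module.End (ZMod 7) V} (hinj : Function.Injective ρ) {g : H}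
    (hg : g ∈ pm ρ) (h : H) : Commute g h := by
  apply hinj
  rw [map_mul, map_mul]
  rcases hg with e | e <;> rw [e] <;> simp

theorem pm_normal {ρ : H →* Module.End (ZMod 7) V} (hinj : Function.Injective ρ) : (pm ρ).Normal :=
  ⟨fun g hg h => by rw [(pm_comm hinj hg h).eq.symm, mul_inv_cancel_right]; exact hg⟩

theorem mem_pm_of_scalar [Nontrivial V] {ρ : H →* Module.End (ZMod 7) V} (hE : Part ρ) {g : H}
    {c : ZMod 7} (hg : ∀ v, ρ g v = c • v) : g ∈ pm ρ := by
  obtain ⟨u, hu⟩ := exists_ne (0 : V)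
  have h2 := hE.scalar_sq hu hg
  have key : ∀ c : ZMod 7, c * c = 1 → c = 1 ∨ c = -1 := by decide
  rcases key c h2 with rfl | rfl
  · exact Or.inl (LinearMap.ext fun v => (hg v).trans (one_smul _ v))
  · exact Or.inr (LinearMap.ext fun v => (hg v).trans (neg_one_smul _ v))

/-- No decomposition with at least two blocks. -/
def Prim (ρ : H →* Module.End (ZMod 7) V) : Prop :=
  ¬ ∃ s, IsSys ρ s ∧ 2 ≤ s.card

/-- Eigenvectors of elements of normal abelian groups of prime exponent are global. -/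
theorem eig_global [Finite V] [Finite H] (ρ : H →* Module.End (ZMod 7) V) (hp : Prim ρ)
    (A : Subgroup H) (hA : A.Normal) (hab : ∀ a ∈ A, ∀ b ∈ A, Commute a b) {n : ℕ}
    (hn : (n : ZMod 7) ≠ 0) (hexp : ∀ a ∈ A, a ^ n = 1) {c : ZMod 7} (hc : c ^ n = 1) {a : H}
    (ha : a ∈ A) {v : V} (hv : v ≠ 0) (hav : c • ρ a v = v) : ∀ w, c • ρ a w = w := by
  classical
  have := Fintype.ofFinite H
  let p : H → Module.End (ZMod 7) V := fun b =>
    (n : ZMod 7)⁻¹ • ∑ i ∈ Finset.range n, (c • ρ b) ^ i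
  have hshift : ∀ b ∈ A, (c • ρ b) * p b = p b := by
    intro b hb
    have hx : (c • ρ b) ^ n = 1 := by rw [_root_.smul_pow, ← map_pow, hexp b hb, map_one, hc, one_smul]
    have h := mul_geom_sum (c • ρ b) n
    rw [hx, sub_self, sub_mul, one_mul, sub_eq_zero] at h
    simp only [p, mul_smul_comm, h]
  have hfixv : ∀ (b : H) (w : V), c • ρ b w = w → p b w = w := by
    intro b w hw
    have : ∀ i : ℕ, ((c • ρ b) ^ i) w = w := by
      intro i
      induction i with
      | zero => rfl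
      | succ i ih => rw [pow_succ', Module.End.mul_apply, ih]; exact hw
    simp only [p, LinearMap.smul_apply, LinearMap.sum_apply, this, Finset.sum_const, Finset.card_range]
    rw [← Nat.cast_smul_eq_nsmul (ZMod 7), smul_smul, inv_mul_cancel₀ hn, one_smul]
  set P := ((Finset.univ : Finset H).filter (· ∈ A)).image p with hP
  have hidem : ∀ q ∈ P, q * q = q := by
    intro q hq
    obtain ⟨b, hb, rfl⟩ := Finset.mem_image.mp hq
    refine LinearMap.ext fun w => hfixv b (p b w) ?_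
    exact LinearMap.congr_fun (hshift b (Finset.mem_filter.mp hb).2) w
  have hcomm : ∀ q ∈ P, ∀ q' ∈ P, Commute q q' := by
    intro q hq q' hq'
    obtain ⟨b, hb, rfl⟩ := Finset.mem_image.mp hq
    obtain ⟨d, hd, rfl⟩ := Finset.mem_image.mp hq'
    have hbd : Commute (c • ρ b) (c • ρ d) :=
      (((hab b (Finset.mem_filter.mp hb).2 d (Finset.mem_filter.mp hd).2).map ρ).smul_left c).smul_right c
    exact ((Commute.sum_left _ _ _ fun i _ => Commute.sum_right _ _ _ fun j _ =>
      hbd.pow_pow i j).smul_left _).smul_right _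
  have hconj : ∀ h : H, ∀ q ∈ P, ρ h * q * ρ h⁻¹ ∈ P := by
    intro h q hq
    obtain ⟨b, hb, rfl⟩ := Finset.mem_image.mp hq
    refine Finset.mem_image.mpr ⟨h * b * h⁻¹,
      Finset.mem_filter.mpr ⟨Finset.mem_univ _, hA.conj_mem b (Finset.mem_filter.mp hb).2 h⟩, ?_⟩
    simp only [p, mul_smul_comm, smul_mul_assoc, Finset.mul_sum, Finset.sum_mul]
    congr 1
    refine Finset.sum_congr rfl fun i _ => ?_
    rw [_root_.smul_pow, _root_.smul_pow, mul_smul_comm, smul_mul_assoc, ← map_pow, ← map_pow, ← map_mul, ← map_mul,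
      conj_pow]
  intro w
  by_contra hw
  refine hp (exists_sys_of_family ρ P hidem hcomm hconj ⟨p a, Finset.mem_image.mpr
    ⟨a, Finset.mem_filter.mpr ⟨Finset.mem_univ _, ha⟩, rfl⟩, fun h0 => hv ?_, fun h1 => hw ?_⟩)
  · rw [← hfixv a v hav, h0]; rfl
  · have := LinearMap.congr_fun (hshift a ha) w
    rw [h1, mul_one] at this
    exact this

theorem comap_inj_pow_eq [Finite H] {ρ : H →* Module.End (ZMod 7) V} (hinj : Function.Injective ρ)
    {g : H} (hg : g ∈ pm ρ) {n : ℕ} (hn : Odd n) (h : g ^ n = 1) : g = 1 := by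
  apply hinj
  rw [map_one]
  rcases hg with e | e
  · exact e
  · have h' := congrArg ρ h
    rw [map_pow, e, hn.neg_one_pow, map_one] at h'
    rw [e, h']

/-- Normal abelian subgroups consist of signs. -/
theorem abelian_normal [Finite V] [Finite H] [Nontrivial V] (hsolv : Group.IsSolvable H)
    (hs : Smooth (Nat.card H)) (ρ : H →* Module.End (ZMod 7) V) (hinj : Function.Injective ρ)
    (hS : Scal ρ) (hE : Part ρ) (hp : Prim ρ) (A : Subgroup H) (hA : A.Normal)
    (hab : ∀ a ∈ A, ∀ b ∈ A, Commute a b) : A ≤ pm ρ := by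
  classical
  -- the subgroups of given exponent
  let An : ℕ → Subgroup H := fun n =>
    { carrier := {a | a ∈ A ∧ a ^ n = 1}
      one_mem' := ⟨A.one_mem, one_pow n⟩
      mul_mem' := fun {a b} ha hb => ⟨A.mul_mem ha.1 hb.1, by
        rw [(hab a ha.1 b hb.1).mul_pow, ha.2, hb.2, one_mul]⟩
      inv_mem' := fun {a} ha => ⟨A.inv_mem ha.1, by rw [inv_pow, ha.2, inv_one]⟩ }
  have hAn : ∀ n, (An n).Normal := fun n =>
    ⟨fun a ha h => ⟨hA.conj_mem a ha.1 h, by rw [conj_pow, ha.2, mul_one, mul_inv_cancel]⟩⟩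
  have hAab : ∀ n, ∀ a ∈ An n, ∀ b ∈ An n, Commute a b := fun n a ha b hb => hab a ha.1 b hb.1
  have glob : ∀ (n : ℕ), (n : ZMod 7) ≠ 0 → ∀ (c : ZMod 7), c ^ n = 1 → ∀ a ∈ A, a ^ n = 1 →
      ∀ v : V, v ≠ 0 → c • ρ a v = v → ∀ w, c • ρ a w = w := fun n hn c hc a ha han v hv hav =>
    eig_global ρ hp (An n) (hAn n) (hAab n) hn (fun b hb => hb.2) hc ⟨ha, han⟩ hv hav
  have h2 : ∀ a ∈ A, a ^ 2 = 1 → a ∈ pm ρ := by
    intro a ha ha2
    by_cases hfix : ∃ v : V, v ≠ 0 ∧ ρ a v = v
    · obtain ⟨v, hv, hav⟩ := hfix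
      refine Or.inl (LinearMap.ext fun w => ?_)
      have := glob 2 (by decide) 1 (one_pow 2) a ha ha2 v hv ((one_smul _ _).trans hav) w
      rwa [one_smul] at this
    · refine Or.inr (LinearMap.ext fun w => ?_)
      push Not at hfix
      have h0 : ρ a w + w = 0 := by
        by_contra hne
        refine hfix _ hne ?_
        rw [map_add, ← rho_mul, ← pow_two, ha2, rho_one, add_comm]
      rw [LinearMap.neg_apply, Module.End.one_apply]
      exact eq_neg_of_add_eq_zero_left h0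
  have h3 : ∀ a ∈ A, a ^ 3 = 1 → a = 1 := by
    intro a ha ha3
    obtain ⟨u, hu⟩ := exists_ne (0 : V)
    have key : ∀ c : ZMod 7, c ^ 3 = 1 → (∃ v, v ≠ 0 ∧ c • ρ a v = v) → a = 1 := by
      rintro c hc ⟨v, hv, hav⟩
      have hall := glob 3 (by decide) c hc a ha ha3 v hv hav
      have hc0 : c ≠ 0 := fun h => by rw [h, zero_pow (by norm_num)] at hc; exact zero_ne_one hc
      have hsc : ∀ w, ρ a w = c⁻¹ • w := fun w => by
        conv_rhs => rw [← hall w]
        rw [smul_smul, inv_mul_cancel₀ hc0, one_smul]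
      exact comap_inj_pow_eq hinj (mem_pm_of_scalar hE hsc) (by decide) ha3
    by_cases k1 : ∃ v, v ≠ 0 ∧ (1 : ZMod 7) • ρ a v = v
    · exact key 1 (one_pow 3) k1
    by_cases k2 : ∃ v, v ≠ 0 ∧ (2 : ZMod 7) • ρ a v = v
    · exact key 2 (by decide) k2
    by_cases k4 : ∃ v, v ≠ 0 ∧ (4 : ZMod 7) • ρ a v = v
    · exact key 4 (by decide) k4
    exfalso
    push Not at k1 k2 k4
    have hh : ∀ v, ρ a (ρ a (ρ a v)) = v := fun v => by
      rw [← rho_mul, ← rho_mul, mul_assoc, ← pow_three, ha3, rho_one]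
    have z1 : ρ a (ρ a u) + ρ a u + u = 0 := by
      by_contra hne
      refine k1 _ hne ?_
      rw [one_smul, map_add, map_add, hh]
      abel
    have z2 : (4 : ZMod 7) • ρ a (ρ a u) + (2 : ZMod 7) • ρ a u + u = 0 := by
      by_contra hne
      refine k2 _ hne ?_
      rw [map_add, map_add, map_smul, map_smul, hh, smul_add, smul_add, smul_smul, smul_smul,
        show (2 : ZMod 7) * 4 = 1 by decide, show (2 : ZMod 7) * 2 = 4 by decide, one_smul]
      abel
    have z4 : (2 : ZMod 7) • ρ a (ρ a u) + (4 : ZMod 7) • ρ a u + u = 0 := by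
      by_contra hne
      refine k4 _ hne ?_
      rw [map_add, map_add, map_smul, map_smul, hh, smul_add, smul_add, smul_smul, smul_smul,
        show (4 : ZMod 7) * 4 = 2 by decide, show (4 : ZMod 7) * 2 = 1 by decide, one_smul]
      abel
    refine hu ((smul_eq_zero.mp (?_ : (3 : ZMod 7) • u = 0)).resolve_left (by decide))
    calc (3 : ZMod 7) • u
        = (ρ a (ρ a u) + ρ a u + u) + ((4 : ZMod 7) • ρ a (ρ a u) + (2 : ZMod 7) • ρ a u + u) +
          ((2 : ZMod 7) • ρ a (ρ a u) + (4 : ZMod 7) • ρ a u + u) := by match_scalars <;> decide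
      _ = 0 := by rw [z1, z2, z4]; simp
  have h7 : ¬ 7 ∣ Nat.card H := fun h => absurd (hs 7 (by norm_num) h) (by norm_num)
  have h5 : ∀ a ∈ A, a ^ 5 = 1 → a = 1 := by
    intro a ha ha5
    by_contra hne
    have hfp : ∀ b ∈ An 5, ∀ v : V, v ≠ 0 → ρ b v = v → b = 1 := by
      intro b hb v hv hbv
      apply hinj
      rw [map_one]
      refine LinearMap.ext fun w => ?_
      have := glob 5 (by decide) 1 (one_pow 5) b hb.1 hb.2 v hv ((one_smul _ _).trans hbv) w
      rwa [one_smul] at this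
    have hU : Uniq (An 5) := uniq_of_fpf (ρ.comp (An 5).subtype)
      (fun h => h7 (h.trans (Subgroup.card_subgroup_dvd_card _)))
      fun g v hv hgv => Subtype.ext (hfp g g.2 v hv hgv)
    have : Fact (Nat.Prime 5) := ⟨by norm_num⟩
    have ha' : a ∈ An 5 := ⟨ha, ha5⟩
    have hao : orderOf (⟨a, ha'⟩ : An 5) = 5 := by
      rw [Subgroup.orderOf_mk]; exact orderOf_eq_prime ha5 hne
    refine no_irrational_central hsolv hs ρ hS hE (a := a) (1 + X + X ^ 2 + X ^ 3 + X ^ 4) ?_ ?_
      (m := 4) (Or.inr rfl) fun h => ?_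
    · have hP : (ρ a - 1) * aeval (ρ a) (1 + X + X ^ 2 + X ^ 3 + X ^ 4 : (ZMod 7)[X]) = 0 := by
        simp only [map_add, map_one, aeval_X, map_pow]
        calc (ρ a - 1) * (1 + ρ a + ρ a ^ 2 + ρ a ^ 3 + ρ a ^ 4) = ρ a ^ 5 - 1 := by noncomm_ring
          _ = 0 := by rw [← map_pow, ha5, map_one, sub_self]
      refine LinearMap.ext fun w => ?_
      by_contra hw
      refine hne (hfp a ha' _ hw ?_)
      have := LinearMap.congr_fun hP w
      rwa [Module.End.mul_apply, LinearMap.sub_apply, Module.End.one_apply, LinearMap.zero_apply,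
        sub_eq_zero] at this
    · intro μ
      simp only [eval_add, eval_one, eval_X, eval_pow]
      revert μ
      decide
    · have hconj : h * a * h⁻¹ ∈ An 5 := (hAn 5).conj_mem a ha' h
      have hco : orderOf (⟨h * a * h⁻¹, hconj⟩ : An 5) = 5 := by
        rw [Subgroup.orderOf_mk]
        refine orderOf_eq_prime hconj.2 fun h1 => hne (conj_eq_one_iff.mp h1)
      have hmem := hU.prime 5 _ _ (by norm_num) hao hco (Subtype.ext (hab a ha _ hconj.1).eq)
      rw [← mem_powers_iff_mem_zpowers, Submonoid.mem_powers_iff] at hmem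
      obtain ⟨j, hj⟩ := hmem
      have hj' : a ^ j = h * a * h⁻¹ := congrArg Subtype.val hj
      have hpow : ∀ i : ℕ, h ^ i * a * (h ^ i)⁻¹ = a ^ j ^ i := by
        intro i
        induction i with
        | zero => simp
        | succ i ih =>
          calc h ^ (i + 1) * a * (h ^ (i + 1))⁻¹ = h * (h ^ i * a * (h ^ i)⁻¹) * h⁻¹ := by
                rw [pow_succ' h]; group
            _ = a ^ j ^ (i + 1) := by rw [ih, ← conj_pow, ← hj', ← pow_mul, ← pow_succ']
      have hj4 : a ^ j ^ 4 = a := by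
        have hmod : (((j ^ 4 : ℕ)) : ZMod 5) = 1 := by
          have hj0 : ((j : ℕ) : ZMod 5) ≠ 0 := by
            rw [Ne, ZMod.natCast_eq_zero_iff]
            rintro ⟨t, rfl⟩
            rw [pow_mul, ha5, one_pow] at hj'
            exact hne (conj_eq_one_iff.mp hj'.symm)
          rw [Nat.cast_pow]
          exact ZMod.pow_card_sub_one_eq_one hj0
        conv_rhs => rw [← pow_one a]
        rw [pow_eq_pow_iff_modEq, orderOf_eq_prime ha5 hne, ← ZMod.natCast_eq_natCast_iff, hmod,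
          Nat.cast_one]
      exact Commute.map (mul_inv_eq_iff_eq_mul.mp ((hpow 4).trans hj4)) ρ
  -- so the group is a two-group
  have hpow2 : ∀ a ∈ A, ∃ k, a ^ 2 ^ k = 1 := by
    intro a ha
    refine ⟨(orderOf a).primeFactorsList.length, ?_⟩
    rw [← Nat.eq_prime_pow_of_unique_prime_dvd (p := 2) (orderOf_pos a).ne' (fun {p} hpp hpd => ?_),
      pow_orderOf_eq_one]
    have hle := hs p hpp (hpd.trans (orderOf_dvd_natCard a))
    have := Fact.mk hpp
    have hord : orderOf (a ^ (orderOf a / p)) = p := by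
      rw [orderOf_pow' a (Nat.div_pos (Nat.le_of_dvd (orderOf_pos a) hpd) hpp.pos).ne',
        Nat.gcd_eq_right (Nat.div_dvd_of_dvd hpd), Nat.div_div_self hpd (orderOf_pos a).ne']
    have hne1 : a ^ (orderOf a / p) ≠ 1 := fun h => by
      rw [h, orderOf_one] at hord
      exact hpp.one_lt.ne hord
    have := hpp.two_le
    interval_cases p
    · rfl
    · exact absurd (h3 _ (A.pow_mem ha _) (orderOf_dvd_iff_pow_eq_one.mp hord.dvd)) hne1
    · exact absurd hpp (by decide)
    · exact absurd (h5 _ (A.pow_mem ha _) (orderOf_dvd_iff_pow_eq_one.mp hord.dvd)) hne1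
  by_contra hnot
  obtain ⟨a, ha, han⟩ := SetLike.not_le_iff_exists.mp hnot
  obtain ⟨k, hk⟩ := hpow2 a ha
  -- an element squaring into the signs
  obtain ⟨b, hb, hbn, hb2⟩ : ∃ b ∈ A, b ∉ pm ρ ∧ b ^ 2 ∈ pm ρ := by
    clear hnot
    induction k generalizing a with
    | zero => rw [pow_zero, pow_one] at hk; exact absurd (hk ▸ (pm ρ).one_mem) han
    | succ k ih =>
      by_cases h : a ^ 2 ∈ pm ρ
      · exact ⟨a, ha, han, h⟩
      · exact ih (a ^ 2) (A.pow_mem ha 2) h (by rw [← pow_mul, ← pow_succ', hk])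
  have hsqm : ρ b * ρ b = -1 := by
    rcases hb2 with e | e
    · exact absurd (h2 b hb (hinj (by rw [e, map_one]))) hbn
    · rw [← map_mul, ← pow_two, e]
  refine no_irrational_central hsolv hs ρ hS hE (a := b) (X ^ 2 + 1) ?_ ?_ (m := 2) (Or.inl rfl)
    fun h => ?_
  · rw [map_add, map_pow, aeval_X, map_one, pow_two, hsqm, neg_add_cancel]
  · intro μ
    simp only [eval_add, eval_one, eval_X, eval_pow]
    revert μ
    decide
  · set c := h * b * h⁻¹
    have hcA : c ∈ A := hA.conj_mem b hb h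
    have hprod : c * b ∈ pm ρ := by
      refine h2 _ (A.mul_mem hcA hb) ?_
      rw [(hab c hcA b hb).mul_pow]
      have hc2 : c ^ 2 = h * b ^ 2 * h⁻¹ := conj_pow
      rw [hc2, (pm_comm hinj hb2 h).eq.symm, mul_inv_cancel_right, ← pow_two]
      apply hinj
      rcases hb2 with e | e <;> rw [map_pow, e] <;> simp
    -- conjugation changes the sign at most
    have hc : ρ h * ρ b * ρ h⁻¹ = ρ b ∨ ρ h * ρ b * ρ h⁻¹ = -ρ b := by
      rw [← map_mul, ← map_mul]
      have hbinv : ρ b⁻¹ = -ρ b := by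
        calc ρ b⁻¹ = ρ b⁻¹ * (-(ρ b * ρ b)) := by rw [hsqm, neg_neg, mul_one]
          _ = -ρ b := by rw [mul_neg, ← mul_assoc, ← map_mul ρ b⁻¹, inv_mul_cancel, map_one, one_mul]
      have e : ρ c = ρ (c * b) * ρ b⁻¹ := by rw [← map_mul, mul_inv_cancel_right]
      rcases hprod with e' | e' <;> rw [e, e', hbinv] <;> simp
    have hh : ∀ v, ρ (h * h) (ρ b v) = ρ b (ρ (h * h) v) := by
      intro v
      have step : ∀ w, (ρ h * ρ b * ρ h⁻¹) (ρ h w) = ρ h (ρ b w) := fun w => by
        rw [Module.End.mul_apply, Module.End.mul_apply, rho_inv_self]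
      rw [rho_mul, rho_mul]
      rcases hc with e | e
      · rw [← step, e, ← step, e]
      · rw [← step, e, LinearMap.neg_apply, map_neg, ← step, e, LinearMap.neg_apply, neg_neg]
    rw [pow_two]
    exact LinearMap.ext hh

/-- A normal subgroup with signs as squares, commutators and centre. -/
structure Radical (ρ : H →* Module.End (ZMod 7) V) (R : Subgroup H) : Prop where
  normal : R.Normal
  sq : ∀ t ∈ R, ρ t * ρ t = 1 ∨ ρ t * ρ t = -1
  sign : ∀ t ∈ R, ∀ u ∈ R, ρ t * ρ u = ρ u * ρ t ∨ ρ t * ρ u = -(ρ u * ρ t)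
  cent : ∀ g : H, (∀ t ∈ R, Commute (ρ g) (ρ t)) → ρ g = 1 ∨ ρ g = -1

/-- Existence. -/
theorem exists_radical [Finite V] [Finite H] [Nontrivial V] (hsolv : Group.IsSolvable H)
    (hs : Smooth (Nat.card H)) (ρ : H →* Module.End (ZMod 7) V) (hinj : Function.Injective ρ)
    (hS : Scal ρ) (hE : Part ρ) (hp : Prim ρ) : ∃ R, Radical ρ R := by
  classical
  have := hsolv
  have hLn := pm_normal hinj
  let P : Subgroup H → Prop := fun R => R.Normal ∧ (∀ t ∈ R, t ^ 2 ∈ pm ρ) ∧
    (∀ t ∈ R, ∀ u ∈ R, t * u * t⁻¹ * u⁻¹ ∈ pm ρ) ∧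
    ∀ t ∈ R, (∀ u ∈ R, Commute t u) → t ∈ pm ρ
  have : Fintype (Subgroup H) := Fintype.ofFinite _
  obtain ⟨R, hR, hmax⟩ := ((Finset.univ : Finset (Subgroup H)).filter P).exists_max_image
    (fun R => Nat.card R) ⟨pm ρ, Finset.mem_filter.mpr ⟨Finset.mem_univ _, hLn,
      fun t ht => (pm ρ).pow_mem ht 2, fun t ht u hu =>
        (pm ρ).mul_mem ((pm ρ).mul_mem ((pm ρ).mul_mem ht hu) ((pm ρ).inv_mem ht)) ((pm ρ).inv_mem hu),
      fun t ht _ => ht⟩⟩
  obtain ⟨-, hRn, hRsq, hRcomm, hRcen⟩ := Finset.mem_filter.mp hR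
  have hLR : pm ρ ≤ R := by
    intro g hg
    by_contra hgR
    set R' := R ⊔ pm ρ
    have hlt : R < R' := lt_of_le_of_ne le_sup_left fun h => hgR (h ▸ Subgroup.mem_sup_right hg)
    have hP' : P R' := by
      have hmem : ∀ x ∈ R', ∃ r ∈ R, ∃ l ∈ pm ρ, r * l = x := fun x hx =>
        Subgroup.mem_sup_of_normal_right.mp hx
      refine ⟨inferInstance, fun x hx => ?_, fun x hx y hy => ?_, fun x hx hc => ?_⟩
      · obtain ⟨r, hr, l, hl, rfl⟩ := hmem x hx
        rw [((pm_comm hinj hl r).symm).mul_pow]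
        exact (pm ρ).mul_mem (hRsq r hr) ((pm ρ).pow_mem hl 2)
      · obtain ⟨r, hr, l, hl, rfl⟩ := hmem x hx
        obtain ⟨r', hr', l', hl', rfl⟩ := hmem y hy
        have e : r * l * (r' * l') * (r * l)⁻¹ * (r' * l')⁻¹ = r * r' * r⁻¹ * r'⁻¹ := by
          rw [show r * l * (r' * l') * (r * l)⁻¹ = r * (l * (r' * l') * l⁻¹) * r⁻¹ by group,
            (pm_comm hinj hl (r' * l')).eq, mul_inv_cancel_right, ← mul_assoc r r' l',
            mul_assoc (r * r'), (pm_comm hinj hl' r⁻¹).eq, mul_inv_rev]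
          group
        rw [e]
        exact hRcomm r hr r' hr'
      · obtain ⟨r, hr, l, hl, rfl⟩ := hmem x hx
        refine (pm ρ).mul_mem (hRcen r hr fun u hu => ?_) hl
        have h := (hc u (Subgroup.mem_sup_left hu)).mul_left ((pm_comm hinj hl u).inv_left)
        rwa [mul_inv_cancel_right] at h
    exact hlt.ne (Subgroup.eq_of_le_of_card_ge hlt.le (hmax R' (Finset.mem_filter.mpr
      ⟨Finset.mem_univ _, hP'⟩)))
  set C := centralizer (R : Set H) with hC
  have hCn : C.Normal := inferInstance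
  have hLC : pm ρ ≤ C := fun g hg t _ => (pm_comm hinj hg t).eq.symm
  have hCL : C ≤ pm ρ := by
    by_contra hnot
    have hlt : pm ρ < C := lt_of_le_of_ne hLC fun h => hnot h.ge
    obtain ⟨B, r, hBn, hLB, hBC, hr, hpow, hcomm⟩ := exists_layer (pm ρ) C hlt
    have hsign : ∀ b ∈ B, ∀ d ∈ B, ρ b * ρ d = ρ d * ρ b ∨ ρ b * ρ d = -(ρ d * ρ b) := by
      intro b hb d hd
      have e : b * d = b * d * b⁻¹ * d⁻¹ * (d * b) := by group
      rcases hcomm b hb d hd with h | h <;>
        [left; right] <;> rw [← map_mul ρ b d, e, map_mul, h, map_mul ρ d b] <;> simp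
    rcases hr.eq_two_or_odd' with rfl | hodd
    swap
    · obtain ⟨b, hbB, hbL⟩ := SetLike.exists_of_lt hLB
      have hcO : ∀ c ∈ B, ∀ d ∈ B, c ^ r = 1 → Commute c d := by
        intro c hc d hd hcr
        apply hinj
        rw [map_mul, map_mul]
        refine (hsign c hc d hd).resolve_right fun h => ?_
        have hn : ∀ n : ℕ, ρ c ^ n * ρ d = (-1) ^ n * (ρ d * ρ c ^ n) := by
          intro n
          induction n with
          | zero => simp
          | succ n ih =>
            rw [pow_succ' (ρ c), mul_assoc, ih, ← mul_assoc, ((Commute.neg_one_right (ρ c)).pow_right n).eq,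
              mul_assoc ((-1) ^ n), ← mul_assoc (ρ c) (ρ d), h, neg_mul, mul_neg, mul_assoc (ρ d),
              pow_succ (-1 : Module.End (ZMod 7) V), mul_neg, mul_one, neg_mul]
        have h1 := hn r
        rw [← map_pow, hcr, map_one, one_mul, mul_one, hodd.neg_one_pow, neg_one_mul] at h1
        have : (ρ d : Module.End (ZMod 7) V) = 0 := by
          have h2 : (2 : ZMod 7) • ρ d = 0 := by rw [two_smul]; nth_rw 2 [h1]; rw [add_neg_cancel]
          exact (smul_eq_zero.mp h2).resolve_left (by decide)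
        exact ((Group.isUnit d).map ρ).ne_zero this
      let O : Subgroup H :=
        { carrier := {c | c ∈ B ∧ c ^ r = 1}
          one_mem' := ⟨B.one_mem, one_pow r⟩
          mul_mem' := fun {c d} hc hd => ⟨B.mul_mem hc.1 hd.1, by
            rw [(hcO c hc.1 d hd.1 hc.2).mul_pow, hc.2, hd.2, one_mul]⟩
          inv_mem' := fun {c} hc => ⟨B.inv_mem hc.1, by rw [inv_pow, hc.2, inv_one]⟩ }
      have hOn : O.Normal :=
        ⟨fun c hc h => ⟨hBn.conj_mem c hc.1 h, by rw [conj_pow, hc.2, mul_one, mul_inv_cancel]⟩⟩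
      have hO := abelian_normal hsolv hs ρ hinj hS hE hp O hOn fun c hc d hd => hcO c hc.1 d hd.1 hc.2
      have hb2r : (b ^ 2) ^ r = 1 := by
        rw [← pow_mul, mul_comm, pow_mul]
        apply hinj
        rcases hpow b hbB with e | e <;> rw [map_pow, e] <;> simp
      have hb2 : b ^ 2 = 1 := comap_inj_pow_eq hinj (hO ⟨B.pow_mem hbB 2, hb2r⟩) hodd hb2r
      refine hbL ?_
      obtain ⟨m, hm⟩ := hodd
      have := hpow b hbB
      rwa [hm, pow_succ, pow_mul, hb2, one_pow, one_mul] at this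
    have hBcen : ∀ b ∈ B, (∀ d ∈ B, Commute b d) → b ∈ pm ρ := by
      intro b hb hc
      have hn : (B ⊓ centralizer (B : Set H)).Normal := inferInstance
      exact abelian_normal hsolv hs ρ hinj hS hE hp (B ⊓ centralizer (B : Set H)) hn
        (fun x hx y hy => (hy.2 x hx.1)) ⟨hb, fun d hd => (hc d hd).eq.symm⟩
    have hBR : ∀ b ∈ B, ∀ t ∈ R, Commute b t := fun b hb t ht => ((hBC hb) t ht).symm
    set R' := R ⊔ B
    have hP' : P R' := by
      have hmem : ∀ x ∈ R', ∃ t ∈ R, ∃ b ∈ B, t * b = x := fun x hx =>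
        Subgroup.mem_sup_of_normal_right.mp hx
      refine ⟨inferInstance, fun x hx => ?_, fun x hx y hy => ?_, fun x hx hc => ?_⟩
      · obtain ⟨t, ht, b, hb, rfl⟩ := hmem x hx
        rw [(hBR b hb t ht).symm.mul_pow]
        exact (pm ρ).mul_mem (hRsq t ht) (hpow b hb)
      · obtain ⟨t, ht, b, hb, rfl⟩ := hmem x hx
        obtain ⟨t', ht', b', hb', rfl⟩ := hmem y hy
        have e : t * b * (t' * b') * (t * b)⁻¹ * (t' * b')⁻¹ =
            t * t' * t⁻¹ * t'⁻¹ * (b * b' * b⁻¹ * b'⁻¹) := by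
          calc t * b * (t' * b') * (t * b)⁻¹ * (t' * b')⁻¹
              = t * (b * t') * (b' * b⁻¹) * t⁻¹ * b'⁻¹ * t'⁻¹ := by group
            _ = t * t' * (b * b' * b⁻¹) * t⁻¹ * b'⁻¹ * t'⁻¹ := by rw [(hBR b hb t' ht').eq]; group
            _ = t * t' * t⁻¹ * (b * b' * b⁻¹ * b'⁻¹) * t'⁻¹ := by
                rw [mul_assoc (t * t'), (hBR (b * b' * b⁻¹) (B.mul_mem (B.mul_mem hb hb') (B.inv_mem hb))
                  t⁻¹ (R.inv_mem ht)).eq]
                group
            _ = t * t' * t⁻¹ * t'⁻¹ * (b * b' * b⁻¹ * b'⁻¹) := by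
                rw [mul_assoc (t * t' * t⁻¹) _ t'⁻¹, (hBR (b * b' * b⁻¹ * b'⁻¹)
                  (B.mul_mem (B.mul_mem (B.mul_mem hb hb') (B.inv_mem hb)) (B.inv_mem hb'))
                  t'⁻¹ (R.inv_mem ht')).eq, ← mul_assoc]
        rw [e]
        exact (pm ρ).mul_mem (hRcomm t ht t' ht') (hcomm b hb b' hb')
      · obtain ⟨t, ht, b, hb, rfl⟩ := hmem x hx
        have htL : t ∈ pm ρ := hRcen t ht fun u hu => by
          have h := (hc u (Subgroup.mem_sup_left hu)).mul_left ((hBR b hb u hu).inv_left)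
          rwa [mul_inv_cancel_right] at h
        refine (pm ρ).mul_mem htL (hBcen b hb fun d hd => ?_)
        have h := ((pm_comm hinj htL d).inv_left).mul_left (hc d (Subgroup.mem_sup_right hd))
        rwa [inv_mul_cancel_left] at h
    have hle := hmax R' (Finset.mem_filter.mpr ⟨Finset.mem_univ _, hP'⟩)
    have heq : R = R' := Subgroup.eq_of_le_of_card_ge le_sup_left hle
    obtain ⟨b, hbB, hbL⟩ := SetLike.exists_of_lt hLB
    have hbR : b ∈ R := heq ▸ Subgroup.mem_sup_right hbB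
    exact hbL (hRcen b hbR fun u hu => hBR b hbB u hu)
  refine ⟨R, hRn, fun t ht => ?_, fun t ht u hu => ?_, fun g hg => hCL fun t ht => hinj ?_⟩
  · rw [← map_mul, ← pow_two]
    exact hRsq t ht
  · have e : t * u = t * u * t⁻¹ * u⁻¹ * (u * t) := by group
    rcases hRcomm t ht u hu with h | h <;>
      [left; right] <;> rw [← map_mul ρ t u, e, map_mul, h, map_mul ρ u t] <;> simp
  · rw [map_mul, map_mul]
    exact ((hg t ht).eq).symm

end CfsgLib.S3Conj.Gow
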