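import Mathlib
import Cfsg.Agent.Lib.S3Conj.Supply

/-!
Representations in which every vector has all scalers and a partner.
-/

set_option autoImplicit false

namespace CfsgLib.S3Conj.Gow

open Subgroup

universe u v

variable {H : Type v} [Group H] {q : ℕ} [hq : Fact q.Prime] {V : Type u} [AddCommGroup V]
  [Module (ZMod q) V]

/-- Every line is scaled by every scalar. -/
def Scal (ρ : H →* Module.End (ZMod q) V) : Prop :=
  ∀ u : V, u ≠ 0 → ∀ c : ZMod q, c ≠ 0 → ∃ h : H, ρ h u = c • u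

/-- The stabiliser of a line acts on some other vector by the inverse character. -/
def Part (ρ : H →* Module.End (ZMod q) V) : Prop :=
  ∀ u : V, u ≠ 0 → ∃ u' : V, u' ≠ 0 ∧ ∀ (h : H) (c : ZMod q), ρ h u = c • u → c • ρ h u' = u'

theorem rho_mul (ρ : H →* Module.End (ZMod q) V) (g h : H) (v : V) :
    ρ (g * h) v = ρ g (ρ h v) := by rw [map_mul]; rfl

theorem rho_one (ρ : H →* Module.End (ZMod q) V) (v : V) : ρ 1 v = v := by rw [map_one]; rfl

theorem rho_inv_self (ρ : H →* Module.End (ZMod q) V) (g : H) (v : V) : ρ g⁻¹ (ρ g v) = v := by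
  rw [← rho_mul, inv_mul_cancel, rho_one]

theorem rho_self_inv (ρ : H →* Module.End (ZMod q) V) (g : H) (v : V) : ρ g (ρ g⁻¹ v) = v := by
  rw [← rho_mul, mul_inv_cancel, rho_one]

theorem rho_injective (ρ : H →* Module.End (ZMod q) V) (g : H) : Function.Injective (ρ g) :=
  Function.LeftInverse.injective (rho_inv_self ρ g)

theorem rho_eq_zero (ρ : H →* Module.End (ZMod q) V) {g : H} {v : V} : ρ g v = 0 ↔ v = 0 :=
  ⟨fun h => rho_injective ρ g (h.trans (map_zero _).symm), fun h => by rw [h, map_zero]⟩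

theorem rho_pow_smul (ρ : H →* Module.End (ZMod q) V) {g : H} {v : V} {c : ZMod q}
    (h : ρ g v = c • v) : ∀ n : ℕ, ρ (g ^ n) v = c ^ n • v
  | 0 => by rw [pow_zero, pow_zero, rho_one, one_smul]
  | n + 1 => by rw [pow_succ', rho_mul, rho_pow_smul ρ h n, map_smul, h, smul_smul, ← pow_succ]

theorem rho_pow_fix (ρ : H →* Module.End (ZMod q) V) {g : H} {v : V} (h : ρ g v = v) (n : ℕ) :
    ρ (g ^ n) v = v := by
  have := rho_pow_smul ρ (c := 1) (h.trans (one_smul _ v).symm) n
  rwa [one_pow, one_smul] at this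

/-- The eigenspace. -/
def eig (ρ : H →* Module.End (ZMod q) V) (g : H) (c : ZMod q) : Submodule (ZMod q) V :=
  LinearMap.ker (ρ g - c • (1 : Module.End (ZMod q) V))

theorem mem_eig {ρ : H →* Module.End (ZMod q) V} {g : H} {c : ZMod q} {v : V} :
    v ∈ eig ρ g c ↔ ρ g v = c • v := by
  simp [eig, LinearMap.mem_ker, sub_eq_zero]

theorem eig_comm {ρ : H →* Module.End (ZMod q) V} {g a : H} {c : ZMod q}
    (hc : Commute (ρ g) (ρ a)) {v : V} (hv : v ∈ eig ρ g c) : ρ a v ∈ eig ρ g c := by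
  rw [mem_eig] at hv ⊢
  have := LinearMap.congr_fun hc.eq v
  simp only [Module.End.mul_apply] at this
  rw [this, hv, map_smul]

theorem smul_left_cancel' {v : V} (hv : v ≠ 0) {a b : ZMod q} (h : a • v = b • v) : a = b := by
  have : (a - b) • v = 0 := by rw [sub_smul, h, sub_self]
  exact sub_eq_zero.mp ((smul_eq_zero.mp this).resolve_right hv)

/-- The stabiliser of a subspace. -/
def stabSub (ρ : H →* Module.End (ZMod q) V) (b : Submodule (ZMod q) V) : Subgroup H where
  carrier := {g | b.map (ρ g) = b}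
  one_mem' := by
    show b.map (ρ 1) = b
    rw [map_one, Module.End.one_eq_id, Submodule.map_id]
  mul_mem' := by
    intro g h hg hh
    show b.map (ρ (g * h)) = b
    rw [map_mul, Module.End.mul_eq_comp, Submodule.map_comp]
    exact (congrArg _ hh).trans hg
  inv_mem' := by
    intro g hg
    show b.map (ρ g⁻¹) = b
    conv_lhs => rw [← (hg : b.map (ρ g) = b)]
    rw [← Submodule.map_comp, ← Module.End.mul_eq_comp, ← map_mul, inv_mul_cancel, map_one,
      Module.End.one_eq_id, Submodule.map_id]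

theorem stabSub_mem_maps {ρ : H →* Module.End (ZMod q) V} {b : Submodule (ZMod q) V} {g : H}
    (hg : g ∈ stabSub ρ b) {x : V} (hx : x ∈ b) : ρ g x ∈ b :=
  (hg : b.map (ρ g) = b).le ⟨x, hx, rfl⟩

theorem mem_stabSub_of_maps [Finite V] {ρ : H →* Module.End (ZMod q) V}
    {b : Submodule (ZMod q) V} {g : H} (hg : ∀ x ∈ b, ρ g x ∈ b) : g ∈ stabSub ρ b := by
  show b.map (ρ g) = b
  refine le_antisymm (by rintro _ ⟨x, hx, rfl⟩; exact hg x hx) fun y hy => ?_
  let φ : b → b := fun x => ⟨ρ g x, hg x x.2⟩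
  have hφ : Function.Injective φ := fun x y e =>
    Subtype.ext (rho_injective ρ g (congrArg Subtype.val e))
  obtain ⟨x, hx⟩ := (Finite.injective_iff_surjective.mp hφ) ⟨y, hy⟩
  exact ⟨x, x.2, congrArg Subtype.val hx⟩

/-- The representation of the stabiliser on the subspace. -/
def restr (ρ : H →* Module.End (ZMod q) V) (b : Submodule (ZMod q) V) :
    stabSub ρ b →* Module.End (ZMod q) b where
  toFun g := (ρ g).restrict fun _ hx => stabSub_mem_maps g.2 hx
  map_one' := LinearMap.ext fun x => Subtype.ext (rho_one ρ x)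
  map_mul' g h := LinearMap.ext fun x => Subtype.ext (rho_mul ρ g h x)

@[simp] theorem restr_apply (ρ : H →* Module.End (ZMod q) V) (b : Submodule (ZMod q) V)
    (g : stabSub ρ b) (x : b) : (restr ρ b g x : V) = ρ g x := rfl

/-- The group of operators of a representation. -/
abbrev img (ρ : H →* Module.End (ZMod q) V) : Subgroup (Module.End (ZMod q) V)ˣ :=
  ρ.toHomUnits.range

/-- Its representation. -/
def imgRep (ρ : H →* Module.End (ZMod q) V) : img ρ →* Module.End (ZMod q) V :=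
  (Units.coeHom _).comp (img ρ).subtype

/-- The map onto it. -/
def toImg (ρ : H →* Module.End (ZMod q) V) : H →* img ρ := ρ.toHomUnits.rangeRestrict

theorem imgRep_toImg (ρ : H →* Module.End (ZMod q) V) (g : H) : imgRep ρ (toImg ρ g) = ρ g := rfl

theorem toImg_surjective (ρ : H →* Module.End (ZMod q) V) : Function.Surjective (toImg ρ) :=
  ρ.toHomUnits.rangeRestrict_surjective

theorem imgRep_injective (ρ : H →* Module.End (ZMod q) V) : Function.Injective (imgRep ρ) :=
  fun _ _ e => Subtype.ext (Units.ext e)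

theorem finite_img [Finite H] (ρ : H →* Module.End (ZMod q) V) : Finite (img ρ) :=
  Finite.of_surjective _ (toImg_surjective ρ)

theorem isSolvable_img (ρ : H →* Module.End (ZMod q) V) (h : Group.IsSolvable H) :
    Group.IsSolvable (img ρ) :=
  have := h
  Group.isSolvable_of_surjective (toImg_surjective ρ)

theorem smooth_img [Finite H] (ρ : H →* Module.End (ZMod q) V) (h : Smooth (Nat.card H)) :
    Smooth (Nat.card (img ρ)) := fun p hp hpd =>
  h p hp (hpd.trans (Subgroup.card_dvd_of_surjective _ (toImg_surjective ρ)))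

theorem Scal.img {ρ : H →* Module.End (ZMod q) V} (h : Scal ρ) : Scal (imgRep ρ) := by
  intro u hu c hc
  obtain ⟨g, hg⟩ := h u hu c hc
  exact ⟨toImg ρ g, hg⟩

theorem Part.img {ρ : H →* Module.End (ZMod q) V} (h : Part ρ) : Part (imgRep ρ) := by
  intro u hu
  obtain ⟨u', hu', hp⟩ := h u hu
  refine ⟨u', hu', fun k c hk => ?_⟩
  obtain ⟨g, rfl⟩ := toImg_surjective ρ k
  exact hp g c hk

/-- A partner for a scaler has the inverse eigenvalue. -/
theorem partner_eq {ρ : H →* Module.End (ZMod q) V} {u' : V} {g : H} {c : ZMod q} (hc : c ≠ 0)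
    (h : c • ρ g u' = u') : ρ g u' = c⁻¹ • u' := by
  conv_rhs => rw [← h]
  rw [smul_smul, inv_mul_cancel₀ hc, one_smul]

/-- An element fixing a nonzero vector's line as a scalar on everything has square one there. -/
theorem Part.scalar_sq {ρ : H →* Module.End (ZMod q) V} (h : Part ρ) {g : H} {c : ZMod q} {u : V}
    (hu : u ≠ 0) (hg : ∀ v, ρ g v = c • v) : c * c = 1 := by
  obtain ⟨u', hu', hp⟩ := h u hu
  have h1 := hp g c (hg u)
  rw [hg u', smul_smul] at h1
  exact smul_left_cancel' hu' (h1.trans (one_smul _ u').symm)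

/-- Few small subspaces cannot cover. -/
theorem cover_false [Finite V] [Nontrivial V] {ι : Type*} (F : Finset ι)
    (W : ι → Submodule (ZMod q) V) (Q : ℕ) (hQ : 2 ≤ Q) (hF : F.card ≤ Q)
    (hW : ∀ i ∈ F, Nat.card (W i) * Q ≤ Nat.card V)
    (hcov : ∀ v : V, v ≠ 0 → ∃ i ∈ F, v ∈ W i) : False := by
  classical
  have := Fintype.ofFinite V
  set S : ι → Finset V := fun i => (Finset.univ.filter fun v => v ∈ W i).erase 0 with hS
  have hcardS : ∀ i, (S i).card + 1 = Nat.card (W i) := by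
    intro i
    rw [hS, Finset.card_erase_add_one (by simp), Nat.card_eq_fintype_card, Fintype.card_subtype]
  have hsub : (Finset.univ : Finset V).erase 0 ⊆ F.biUnion S := by
    intro v hv
    obtain ⟨hv0, -⟩ := Finset.mem_erase.mp hv
    obtain ⟨i, hi, hvi⟩ := hcov v hv0
    exact Finset.mem_biUnion.mpr ⟨i, hi, by simp [hS, hv0, hvi]⟩
  have h1 := (Finset.card_le_card hsub).trans Finset.card_biUnion_le
  have h2 : (Finset.univ : Finset V).card = Nat.card V := by
    rw [Nat.card_eq_fintype_card]; rfl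
  rw [Finset.card_erase_of_mem (Finset.mem_univ _), h2] at h1
  have h3 : ∑ i ∈ F, (S i).card * Q + F.card * Q ≤ F.card * Nat.card V := by
    rw [← smul_eq_mul F.card Q, ← Finset.sum_const, ← Finset.sum_add_distrib, ← smul_eq_mul,
      ← Finset.sum_const]
    refine Finset.sum_le_sum fun i hi => ?_
    have h := hW i hi
    rw [← hcardS i, add_mul, one_mul] at h
    exact h
  rw [← Finset.sum_mul] at h3
  have hV : 1 < Nat.card V := Finite.one_lt_card
  have hd : Q ≤ Nat.card V := by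
    obtain ⟨v, hv⟩ := exists_ne (0 : V)
    obtain ⟨i, hi, -⟩ := hcov v hv
    refine le_trans ?_ (hW i hi)
    exact Nat.le_mul_of_pos_left Q Nat.card_pos
  -- `(|V| - 1) Q + |F| Q ≤ |F| |V|`
  have h4 : (Nat.card V - 1) * Q + F.card * Q ≤ F.card * Nat.card V :=
    (Nat.add_le_add_right (Nat.mul_le_mul_right Q h1) _).trans h3
  obtain ⟨m, hm⟩ : ∃ m, Nat.card V = m + 1 := ⟨Nat.card V - 1, by omega⟩
  rw [hm] at h4 hd hV
  simp only [Nat.add_sub_cancel] at h4
  obtain ⟨v, hv⟩ := exists_ne (0 : V)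
  obtain ⟨i0, hi0, -⟩ := hcov v hv
  have hF1 : 1 ≤ F.card := Finset.card_pos.mpr ⟨i0, hi0⟩
  obtain ⟨k, hk⟩ : ∃ k, Q = F.card + k := ⟨Q - F.card, by omega⟩
  rw [hk] at h4 hQ
  rcases Nat.eq_zero_or_pos k with rfl | hk0
  · have hF2 : 2 ≤ F.card := by omega
    have h5 : 2 * F.card ≤ F.card * F.card := Nat.mul_le_mul_right _ hF2
    nlinarith
  · have h5 : F.card + 1 ≤ F.card * F.card + k := by nlinarith
    have h6 : m ≤ m * k := Nat.le_mul_of_pos_right m hk0
    nlinarith

/-- A maximal stabiliser inside a subgroup: its fixed space carries a fixed-point-free group. -/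
theorem exists_max_fixed [Finite V] [Finite H] [Nontrivial V] (ρ : H →* Module.End (ZMod q) V)
    (C : Subgroup H) :
    ∃ W : Submodule (ZMod q) V, W ≠ ⊥ ∧
      (∀ h ∈ C, ∀ w ∈ W, w ≠ 0 → ρ h w = w → ∀ x ∈ W, ρ h x = x) ∧
      (∀ h ∈ C, ∀ w ∈ W, w ≠ 0 → ∀ c : ZMod q, c ≠ 0 → ρ h w = c • w → h ∈ stabSub ρ W) ∧
      (∀ w ∈ W, w ≠ 0 → ∀ w' : V, (∀ (h : H) (c : ZMod q), ρ h w = c • w → c • ρ h w' = w') →
        w' ∈ W) ∧
      (∀ a : H, (∀ h ∈ C, Commute (ρ h) (ρ a)) → a ∈ stabSub ρ W) := by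
  classical
  have := Fintype.ofFinite V
  let T : V → Set H := fun v => {h | h ∈ C ∧ ρ h v = v}
  obtain ⟨u, hu⟩ := exists_ne (0 : V)
  obtain ⟨u0, hu0, hmax⟩ := ((Finset.univ : Finset V).filter (· ≠ 0)).exists_max_image
    (fun v => Nat.card (T v)) ⟨u, by simp [hu]⟩
  replace hu0 : u0 ≠ 0 := by simpa using hu0
  let W : Submodule (ZMod q) V :=
    { carrier := {v | ∀ h ∈ T u0, ρ h v = v}
      zero_mem' := fun h _ => map_zero _
      add_mem' := fun {a b} ha hb h hh => by rw [map_add, ha h hh, hb h hh]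
      smul_mem' := fun c {a} ha h hh => by rw [map_smul, ha h hh] }
  have hu0W : u0 ∈ W := fun h hh => hh.2
  have hT : ∀ w ∈ W, w ≠ 0 → T w = T u0 := by
    intro w hw hw0
    refine (Set.eq_of_subset_of_ncard_le (s := T u0) (t := T w) (fun h hh => ⟨hh.1, hw h hh⟩) ?_).symm
    rw [← Nat.card_coe_set_eq, ← Nat.card_coe_set_eq]
    exact hmax w (by simp [hw0])
  refine ⟨W, fun h => hu0 ((Submodule.mem_bot _).mp (h ▸ hu0W)), ?_, ?_, ?_, ?_⟩
  · intro h hC w hw hw0 hfix x hx
    have h1 : h ∈ T w := ⟨hC, hfix⟩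
    rw [hT w hw hw0] at h1
    exact hx h h1
  · intro h hC w hw hw0 c hc hhw
    refine mem_stabSub_of_maps fun x hx t ht => ?_
    have hmem : h⁻¹ * t * h ∈ T w := by
      refine ⟨C.mul_mem (C.mul_mem (C.inv_mem hC) ht.1) hC, ?_⟩
      rw [rho_mul, rho_mul, hhw, map_smul, hw t ht, map_smul]
      have := rho_inv_self ρ h w
      rw [hhw, map_smul] at this
      exact this
    rw [hT w hw hw0] at hmem
    have := congrArg (ρ h) (hx _ hmem)
    rwa [← rho_mul, show h * (h⁻¹ * t * h) = t * h by group, rho_mul] at this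
  · intro w hw hw0 w' hw' t ht
    have h1 := hw' t 1 ((hw t ht).trans (one_smul _ w).symm)
    rwa [one_smul] at h1
  · intro a ha
    refine mem_stabSub_of_maps fun x hx t ht => ?_
    have := LinearMap.congr_fun (ha t ht.1).eq x
    simp only [Module.End.mul_apply] at this
    rw [this, hx t ht]

end CfsgLib.S3Conj.Gow
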