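import Cfsg.Agent.Lib.S3Conj.Gow.Cover

/-!
Systems of blocks for representations over the field with seven elements.
-/

set_option autoImplicit false

namespace CfsgLib.S3Conj.Gow

open Subgroup

universe u v

attribute [local instance] fact_prime_seven

variable {H : Type v} [Group H] {V : Type u} [AddCommGroup V] [Module (ZMod 7) V]

/-- A decomposition into subspaces permuted by the group. -/
structure IsSys (ρ : H →* Module.End (ZMod 7) V) (s : Finset (Submodule (ZMod 7) V)) : Prop where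
  ne_bot : ∀ b ∈ s, b ≠ ⊥
  top : s.sup id = ⊤
  dim : ∑ b ∈ s, Module.finrank (ZMod 7) b = Module.finrank (ZMod 7) V
  inv : ∀ (h : H), ∀ b ∈ s, b.map (ρ h) ∈ s

/-- A decomposition into planes. -/
def Planes (ρ : H →* Module.End (ZMod 7) V) : Prop :=
  ∃ s, IsSys ρ s ∧ ∀ b ∈ s, Module.finrank (ZMod 7) b = 2

theorem finrank_sup_le_sum [Finite V] {ι : Type*} (s : Finset ι) (f : ι → Submodule (ZMod 7) V) :
    Module.finrank (ZMod 7) (s.sup f : Submodule (ZMod 7) V) ≤
      ∑ i ∈ s, Module.finrank (ZMod 7) (f i) := by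
  classical
  induction s using Finset.induction_on with
  | empty => simp
  | insert i s hi ih =>
    rw [Finset.sup_insert, Finset.sum_insert hi]
    exact (Submodule.finrank_add_le_finrank_add_finrank _ _).trans (Nat.add_le_add_left ih _)

theorem IsSys.disjoint [Finite V] [DecidableEq (Submodule (ZMod 7) V)]
    {ρ : H →* Module.End (ZMod 7) V} {s : Finset (Submodule (ZMod 7) V)} (hs : IsSys ρ s)
    {b : Submodule (ZMod 7) V} (hb : b ∈ s) : Disjoint b ((s.erase b).sup id) := by
  have h1 := Submodule.finrank_sup_add_finrank_inf_eq b ((s.erase b).sup id)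
  have h2 : b ⊔ (s.erase b).sup id = ⊤ := by
    rw [← hs.top]
    conv_rhs => rw [← Finset.insert_erase hb, Finset.sup_insert]
    rfl
  rw [h2, finrank_top] at h1
  have h3 := finrank_sup_le_sum (s.erase b) (id : Submodule (ZMod 7) V → _)
  have h4 := hs.dim
  rw [← Finset.add_sum_erase _ _ hb] at h4
  rw [disjoint_iff]
  refine Submodule.finrank_eq_zero.mp ?_
  simp only [id] at h3
  omega

theorem IsSys.eq_zero_of_mem [Finite V] [DecidableEq (Submodule (ZMod 7) V)]
    {ρ : H →* Module.End (ZMod 7) V} {s : Finset (Submodule (ZMod 7) V)} (hs : IsSys ρ s)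
    {b : Submodule (ZMod 7) V} (hb : b ∈ s) {x : V} (h1 : x ∈ b)
    (h2 : x ∈ (s.erase b).sup id) : x = 0 :=
  Submodule.disjoint_def.mp (hs.disjoint hb) x h1 h2

theorem IsSys.eq_of_mem [Finite V] {ρ : H →* Module.End (ZMod 7) V}
    {s : Finset (Submodule (ZMod 7) V)} (hs : IsSys ρ s) {b c : Submodule (ZMod 7) V} (hb : b ∈ s)
    (hc : c ∈ s) {x : V} (h1 : x ∈ b) (h2 : x ∈ c) (hx : x ≠ 0) : b = c := by
  classical
  by_contra hne
  exact hx (hs.eq_zero_of_mem hb h1 ((Finset.le_sup (f := id)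
    (Finset.mem_erase.mpr ⟨Ne.symm hne, hc⟩)) h2))

theorem IsSys.of_disjoint [Finite V] [DecidableEq (Submodule (ZMod 7) V)]
    {ρ : H →* Module.End (ZMod 7) V} {s : Finset (Submodule (ZMod 7) V)}
    (h0 : ∀ b ∈ s, b ≠ ⊥) (htop : s.sup id = ⊤) (hinv : ∀ (h : H), ∀ b ∈ s, b.map (ρ h) ∈ s)
    (hd : ∀ b ∈ s, Disjoint b ((s.erase b).sup id)) : IsSys ρ s := by
  refine ⟨h0, htop, ?_, hinv⟩
  have key : ∀ t ⊆ s, ∑ b ∈ t, Module.finrank (ZMod 7) b =
      Module.finrank (ZMod 7) (t.sup id : Submodule (ZMod 7) V) := by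
    intro t
    induction t using Finset.induction_on with
    | empty => intro _; rw [Finset.sum_empty, Finset.sup_empty, finrank_bot]
    | insert b t hb ih =>
      intro hts
      obtain ⟨hbs, hts'⟩ := Finset.insert_subset_iff.mp hts
      have h1 := Submodule.finrank_sup_add_finrank_inf_eq b (t.sup id)
      have h2 : b ⊓ t.sup id = ⊥ := disjoint_iff.mp ((hd b hbs).mono_right
        (Finset.sup_mono fun x hx => Finset.mem_erase.mpr ⟨fun e => by subst e; exact hb hx, hts' hx⟩))
      rw [h2, finrank_bot, Nat.add_zero] at h1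
      rw [Finset.sum_insert hb, Finset.sup_insert, ih hts', id, h1]
  rw [key s subset_rfl, htop, finrank_top]

/-- A partner stays in the block. -/
theorem IsSys.partner_mem [Finite V] {ρ : H →* Module.End (ZMod 7) V}
    {s : Finset (Submodule (ZMod 7) V)} (hs : IsSys ρ s) (hS : Scal ρ) {b : Submodule (ZMod 7) V}
    (hb : b ∈ s) {u u' : V} (hu : u ∈ b) (hu0 : u ≠ 0)
    (hp : ∀ (h : H) (c : ZMod 7), ρ h u = c • u → c • ρ h u' = u') : u' ∈ b := by
  classical
  have main : ∀ t : Finset (Submodule (ZMod 7) V), t ⊆ s → u' ∈ t.sup id → u' ∈ b := by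
    intro t
    induction t using Finset.strongInduction with
    | H t ih =>
    intro hts hu'
    by_cases hc : ∃ c ∈ t, c ≠ b
    swap
    · push Not at hc
      exact (Finset.sup_le (f := id) fun c hct => (hc c hct).le : t.sup id ≤ b) hu'
    obtain ⟨c, hct, hcb⟩ := hc
    have hcs := hts hct
    have hu'' : u' ∈ c ⊔ (t.erase c).sup id := by
      rw [← Finset.insert_erase hct, Finset.sup_insert] at hu'
      exact hu'
    obtain ⟨y, hy, r, hr, hyr⟩ := Submodule.mem_sup.mp hu''
    rcases eq_or_ne y 0 with rfl | hy0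
    · rw [zero_add] at hyr
      exact ih _ (Finset.erase_ssubset hct) ((Finset.erase_subset _ _).trans hts) (hyr ▸ hr)
    exfalso
    have hv0 : u + y ≠ 0 := fun h => hu0 (hs.eq_zero_of_mem hb hu (by
      rw [eq_neg_of_add_eq_zero_left h]
      exact Submodule.neg_mem _ ((Finset.le_sup (f := id) (Finset.mem_erase.mpr ⟨hcb, hcs⟩)) hy)))
    obtain ⟨h, hh⟩ := hS (u + y) hv0 3 (by decide)
    rw [map_add, smul_add] at hh
    set B := b.map (ρ h) with hB
    set C := c.map (ρ h) with hC
    have hBs := hs.inv h b hb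
    have hCs := hs.inv h c hcs
    have hBC : B ≠ C := fun e => hu0 (rho_injective ρ h (by
      rw [map_zero]
      exfalso
      apply hcb
      exact (Submodule.map_injective_of_injective (rho_injective ρ h) e).symm))
    have hloc : ∀ D x, D ∈ s → D ≠ b → D ≠ c → x ∈ D → x ≠ 0 →
        ∀ E z, E ∈ s → E ≠ D → z ∈ E → x + z ≠ (3 : ZMod 7) • u + (3 : ZMod 7) • y := by
      intro D x hD hDb hDc hx hx0 E z hE hED hz e
      refine hx0 (hs.eq_zero_of_mem hD hx ?_)
      rw [eq_sub_of_add_eq e]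
      refine Submodule.sub_mem _ (Submodule.add_mem _ (Submodule.smul_mem _ _ ?_)
        (Submodule.smul_mem _ _ ?_)) ?_
      · exact (Finset.le_sup (f := id) (Finset.mem_erase.mpr ⟨Ne.symm hDb, hb⟩)) hu
      · exact (Finset.le_sup (f := id) (Finset.mem_erase.mpr ⟨Ne.symm hDc, hcs⟩)) hy
      · exact (Finset.le_sup (f := id) (Finset.mem_erase.mpr ⟨hED, hE⟩)) hz
    have huB : ρ h u ∈ B := ⟨u, hu, rfl⟩
    have hyC : ρ h y ∈ C := ⟨y, hy, rfl⟩
    have hBbc : B = b ∨ B = c := by
      by_contra! hne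
      exact hloc B _ hBs hne.1 hne.2 huB (fun e => hu0 ((rho_eq_zero ρ).mp e)) C _ hCs hBC.symm hyC hh
    have hCbc : C = b ∨ C = c := by
      by_contra! hne
      exact hloc C _ hCs hne.1 hne.2 hyC (fun e => hy0 ((rho_eq_zero ρ).mp e)) B _ hBs hBC huB
        ((add_comm _ _).trans hh)
    set g := h * h with hg
    have hgmap : ∀ d : Submodule (ZMod 7) V, d.map (ρ g) = (d.map (ρ h)).map (ρ h) := fun d => by
      rw [hg, map_mul, Module.End.mul_eq_comp, Submodule.map_comp]
    have hfix : b.map (ρ g) = b ∧ c.map (ρ g) = c := by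
      rw [hgmap, hgmap, ← hB, ← hC]
      rcases hBbc with e | e <;> rcases hCbc with e' | e'
      · exact absurd (e.trans e'.symm) hBC
      · exact ⟨by rw [e, ← hB, e], by rw [e', ← hC, e']⟩
      · exact ⟨by rw [e, ← hC, e'], by rw [e', ← hB, e]⟩
      · exact absurd (e.trans e'.symm) hBC
    have hgv : ρ g u + ρ g y = (2 : ZMod 7) • u + (2 : ZMod 7) • y := by
      rw [hg, rho_mul, rho_mul, ← map_add, hh, map_add, map_smul, map_smul, ← smul_add, hh,
        smul_add, smul_smul, smul_smul]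
      rfl
    have hgu : ρ g u = (2 : ZMod 7) • u := by
      refine sub_eq_zero.mp (hs.eq_zero_of_mem hb (Submodule.sub_mem _
        (hfix.1.le ⟨u, hu, rfl⟩) (b.smul_mem _ hu)) ?_)
      rw [show ρ g u - (2 : ZMod 7) • u = (2 : ZMod 7) • y - ρ g y by
        rw [sub_eq_sub_iff_add_eq_add, hgv, add_comm]]
      exact (Finset.le_sup (f := id) (Finset.mem_erase.mpr ⟨hcb, hcs⟩))
        (Submodule.sub_mem _ (c.smul_mem _ hy) (hfix.2.le ⟨y, hy, rfl⟩))
    have hpg := hp g 2 hgu
    rw [← hyr, map_add, smul_add] at hpg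
    have hrest : ∀ x ∈ (t.erase c).sup id, ρ g x ∈ (s.erase c).sup id := by
      intro x hx
      have h1 : ((t.erase c).sup id).map (ρ g) ≤ (s.erase c).sup id := by
        rw [Submodule.map_le_iff_le_comap]
        refine Finset.sup_le fun d hd => Submodule.map_le_iff_le_comap.mp ?_
        obtain ⟨hdc, hdt⟩ := Finset.mem_erase.mp hd
        refine Finset.le_sup (f := id) (Finset.mem_erase.mpr ⟨fun e => hdc ?_, hs.inv g d (hts hdt)⟩)
        exact Submodule.map_injective_of_injective (rho_injective ρ g) (e.trans hfix.2.symm)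
      exact h1 ⟨x, hx, rfl⟩
    have hyy : (2 : ZMod 7) • ρ g y = y := by
      refine sub_eq_zero.mp (hs.eq_zero_of_mem hcs (Submodule.sub_mem _
        (c.smul_mem _ (hfix.2.le ⟨y, hy, rfl⟩)) hy) ?_)
      rw [show (2 : ZMod 7) • ρ g y - y = r - (2 : ZMod 7) • ρ g r by
        rw [sub_eq_sub_iff_add_eq_add, hpg, add_comm]]
      exact Submodule.sub_mem _
        ((Finset.sup_mono (f := id) (Finset.erase_subset_erase _ hts) : (t.erase c).sup id ≤ (s.erase c).sup id) hr)
        (Submodule.smul_mem _ _ (hrest r hr))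
    have hgy : ρ g y = (2 : ZMod 7) • y := by
      have h1 : ρ g y - (2 : ZMod 7) • y = 0 := by
        refine hs.eq_zero_of_mem hcs (Submodule.sub_mem _ (hfix.2.le ⟨y, hy, rfl⟩) (c.smul_mem _ hy)) ?_
        rw [show ρ g y - (2 : ZMod 7) • y = (2 : ZMod 7) • u - ρ g u by
          rw [sub_eq_sub_iff_add_eq_add, add_comm, hgv]]
        exact (Finset.le_sup (f := id) (Finset.mem_erase.mpr ⟨Ne.symm hcb, hb⟩))
          (Submodule.sub_mem _ (b.smul_mem _ hu) (hfix.1.le ⟨u, hu, rfl⟩))
      exact sub_eq_zero.mp h1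
    rw [hgy, smul_smul] at hyy
    exact absurd (smul_left_cancel' hy0 (hyy.trans (one_smul _ y).symm)) (by decide)
  exact main s subset_rfl (hs.top ▸ Submodule.mem_top)

/-- Blocks inherit scalers and partners. -/
theorem IsSys.descend [Finite V] {ρ : H →* Module.End (ZMod 7) V}
    {s : Finset (Submodule (ZMod 7) V)} (hs : IsSys ρ s) (hS : Scal ρ) (hE : Part ρ)
    {b : Submodule (ZMod 7) V} (hb : b ∈ s) : Scal (restr ρ b) ∧ Part (restr ρ b) := by
  constructor
  · intro u hu c hc
    have hu' : (u : V) ≠ 0 := fun h => hu (Subtype.ext h)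
    obtain ⟨h, hh⟩ := hS u hu' c hc
    have hmem : h ∈ stabSub ρ b := hs.eq_of_mem (hs.inv h b hb) hb ⟨u, u.2, rfl⟩
      (hh ▸ b.smul_mem c u.2) (fun e => hu' ((rho_eq_zero ρ).mp e))
    exact ⟨⟨h, hmem⟩, Subtype.ext hh⟩
  · intro u hu
    have hu' : (u : V) ≠ 0 := fun h => hu (Subtype.ext h)
    obtain ⟨w, hw, hp⟩ := hE u hu'
    refine ⟨⟨w, hs.partner_mem hS hb u.2 hu' hp⟩, fun e => hw (congrArg Subtype.val e),
      fun h c hc => Subtype.ext (hp h c (congrArg Subtype.val hc))⟩

/-- The simultaneous eigenspace of a set of idempotents. -/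
def atom (P t : Finset (Module.End (ZMod 7) V)) : Submodule (ZMod 7) V where
  carrier := {v | (∀ p ∈ t, p v = v) ∧ ∀ p ∈ P, p ∉ t → p v = 0}
  zero_mem' := ⟨fun p _ => map_zero p, fun p _ _ => map_zero p⟩
  add_mem' := fun {a b} ha hb => ⟨fun p hp => by rw [map_add, ha.1 p hp, hb.1 p hp],
    fun p hp hp' => by rw [map_add, ha.2 p hp hp', hb.2 p hp hp', add_zero]⟩
  smul_mem' := fun c {a} ha => ⟨fun p hp => by rw [map_smul, ha.1 p hp],
    fun p hp hp' => by rw [map_smul, ha.2 p hp hp', smul_zero]⟩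

/-- A family of commuting idempotents permuted by the group gives a system. -/
theorem exists_sys_of_family [Finite V] (ρ : H →* Module.End (ZMod 7) V)
    (P : Finset (Module.End (ZMod 7) V)) (hidem : ∀ p ∈ P, p * p = p)
    (hcomm : ∀ p ∈ P, ∀ p' ∈ P, Commute p p')
    (hconj : ∀ h : H, ∀ p ∈ P, ρ h * p * ρ h⁻¹ ∈ P) (hne : ∃ p ∈ P, p ≠ 0 ∧ p ≠ 1) :
    ∃ s, IsSys ρ s ∧ 2 ≤ s.card := by
  classical
  set A := P.powerset with hA
  set s := (A.image (atom P)).filter (· ≠ ⊥) with hs
  have hpres : ∀ p ∈ P, ∀ t ∈ A, ∀ v ∈ atom P t, p v ∈ atom P t := by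
    intro p hp t ht v hv
    refine ⟨fun p' hp' => ?_, fun p' hp' hn => ?_⟩
    · have h := LinearMap.congr_fun (hcomm p' (Finset.mem_powerset.mp ht hp') p hp).eq v
      rw [Module.End.mul_apply, Module.End.mul_apply] at h
      rw [h, hv.1 p' hp']
    · have h := LinearMap.congr_fun (hcomm p' hp' p hp).eq v
      rw [Module.End.mul_apply, Module.End.mul_apply] at h
      rw [h, hv.2 p' hp' hn, map_zero]
  have hsep : ∀ (T : Finset (Finset (Module.End (ZMod 7) V))), T ⊆ A → ∀ t ∈ A, t ∉ T →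
      ∀ x ∈ atom P t, x ∈ T.sup (atom P) → x = 0 := by
    intro T
    induction T using Finset.induction_on with
    | empty => intro _ t _ _ x _ hx; simpa using hx
    | insert t' T ht' ih =>
      intro hTA t ht htT x hx hxT
      obtain ⟨ht'A, hTA'⟩ := Finset.insert_subset_iff.mp hTA
      rw [Finset.sup_insert] at hxT
      obtain ⟨y, hy, r, hr, rfl⟩ := Submodule.mem_sup.mp hxT
      refine ih hTA' t ht (fun h => htT (Finset.mem_insert_of_mem h)) _ hx ?_
      have htne : t ≠ t' := fun e => htT (e ▸ Finset.mem_insert_self _ _)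
      obtain ⟨p, hp⟩ : ∃ p, (p ∈ t ∧ p ∉ t') ∨ (p ∉ t ∧ p ∈ t') := by
        by_contra! hall
        exact htne (Finset.ext fun p => ⟨fun h => (hall p).1 h, fun h => by_contra fun h' => (hall p).2 h' h⟩)
      have hTp : ∀ z ∈ T.sup (atom P), ∀ p ∈ P, p z ∈ T.sup (atom P) := by
        intro z hz p hp
        have h1 : (T.sup (atom P)).map p ≤ T.sup (atom P) := by
          rw [Submodule.map_le_iff_le_comap]
          exact Finset.sup_le fun d hd w hw =>
            (Finset.le_sup (f := atom P) hd) (hpres p hp d (hTA' hd) w hw)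
        exact h1 ⟨z, hz, rfl⟩
      rcases hp with ⟨h1, h2⟩ | ⟨h1, h2⟩
      · have hpP := Finset.mem_powerset.mp ht h1
        rw [← hx.1 p h1, map_add, hy.2 p hpP h2, zero_add]
        exact hTp r hr p hpP
      · have hpP := Finset.mem_powerset.mp ht'A h2
        have e : y + r = r - p r := by
          have h3 := hx.2 p hpP h1
          rw [map_add, hy.1 p h2] at h3
          rw [sub_eq_add_neg, add_comm y r, eq_neg_of_add_eq_zero_left h3]
        rw [e]
        exact Submodule.sub_mem _ hr (hTp r hr p hpP)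
  have hspan : ∀ P0 ⊆ P, (⊤ : Submodule (ZMod 7) V) ≤ P0.powerset.sup (atom P0) := by
    intro P0
    induction P0 using Finset.induction_on with
    | empty =>
      intro _ v _
      exact (Finset.le_sup (f := atom (∅ : Finset (Module.End (ZMod 7) V)))
        (Finset.mem_powerset.mpr subset_rfl)) ⟨fun p hp => absurd hp (Finset.notMem_empty p),
          fun p hp => absurd hp (Finset.notMem_empty p)⟩
    | insert p P0 hp ih =>
      intro hsub
      obtain ⟨hpP, hsub'⟩ := Finset.insert_subset_iff.mp hsub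
      refine (ih hsub').trans (Finset.sup_le fun t ht v hv => ?_)
      have htP0 := Finset.mem_powerset.mp ht
      have hcq : ∀ p' ∈ P0, p' (p v) = p (p' v) := fun p' hp' => by
        rw [← Module.End.mul_apply, (hcomm p' (hsub' hp') p hpP).eq, Module.End.mul_apply]
      have hpt : p ∉ t := fun h => hp (htP0 h)
      have hidv : p (p v) = p v := by rw [← Module.End.mul_apply, hidem p hpP]
      have h1 : p v ∈ atom (insert p P0) (insert p t) := by
        refine ⟨fun p' hp' => ?_, fun p' hp' hn => ?_⟩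
        · rcases Finset.mem_insert.mp hp' with rfl | h
          · exact hidv
          · rw [hcq p' (htP0 h), hv.1 p' h]
        · obtain ⟨hn1, hn2⟩ := not_or.mp fun h => hn (Finset.mem_insert.mpr h)
          have hp'0 := (Finset.mem_insert.mp hp').resolve_left hn1
          rw [hcq p' hp'0, hv.2 p' hp'0 hn2, map_zero]
      have h2 : v - p v ∈ atom (insert p P0) t := by
        refine ⟨fun p' hp' => ?_, fun p' hp' hn => ?_⟩
        · rw [map_sub, hcq p' (htP0 hp'), hv.1 p' hp']
        · rcases Finset.mem_insert.mp hp' with rfl | h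
          · rw [map_sub, hidv, sub_self]
          · rw [map_sub, hcq p' h, hv.2 p' h hn, map_zero, sub_zero]
      have m1 : insert p t ∈ (insert p P0).powerset :=
        Finset.mem_powerset.mpr (Finset.insert_subset_insert _ htP0)
      have m2 : t ∈ (insert p P0).powerset :=
        Finset.mem_powerset.mpr (htP0.trans (Finset.subset_insert _ _))
      rw [← add_sub_cancel (p v) v]
      exact Submodule.add_mem _ ((Finset.le_sup (f := atom (insert p P0)) m1) h1)
        ((Finset.le_sup (f := atom (insert p P0)) m2) h2)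
  have htop : s.sup id = ⊤ := by
    rw [eq_top_iff]
    refine (hspan P subset_rfl).trans (Finset.sup_le fun t ht => ?_)
    by_cases hb : atom P t = ⊥
    · rw [hb]; exact bot_le
    · exact Finset.le_sup (f := id) (Finset.mem_filter.mpr ⟨Finset.mem_image_of_mem _ ht, hb⟩)
  have hgP : ∀ (h : H), ∀ p ∈ P, ∀ v, (ρ h * p * ρ h⁻¹) (ρ h v) = ρ h (p v) := fun h p _ v => by
    rw [Module.End.mul_apply, Module.End.mul_apply, rho_inv_self]
  have hinv : ∀ (h : H), ∀ b ∈ s, b.map (ρ h) ∈ s := by
    intro h b hb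
    obtain ⟨hb1, hb0⟩ := Finset.mem_filter.mp hb
    obtain ⟨t, ht, rfl⟩ := Finset.mem_image.mp hb1
    have htP := Finset.mem_powerset.mp ht
    set g : Module.End (ZMod 7) V → Module.End (ZMod 7) V := fun p => ρ h * p * ρ h⁻¹ with hg
    have hginj : Function.Injective g := by
      intro p p' e
      have e' := congrArg (fun x => ρ h⁻¹ * x * ρ h) e
      simpa [hg, mul_assoc, ← map_mul, ← mul_assoc (ρ h⁻¹)] using e'
    refine Finset.mem_filter.mpr ⟨Finset.mem_image.mpr ⟨t.image g,
      Finset.mem_powerset.mpr fun p hp => ?_, ?_⟩, fun e => hb0 ?_⟩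
    · obtain ⟨p0, hp0, rfl⟩ := Finset.mem_image.mp hp
      exact hconj h p0 (htP hp0)
    · apply le_antisymm
      · intro w hw
        refine ⟨ρ h⁻¹ w, ⟨fun p hp => ?_, fun p hp hn => ?_⟩, rho_self_inv ρ h w⟩
        · apply rho_injective ρ h
          rw [← hgP h p (htP hp), rho_self_inv]
          exact hw.1 _ (Finset.mem_image_of_mem g hp)
        · apply rho_injective ρ h
          rw [← hgP h p hp, rho_self_inv, map_zero]
          exact hw.2 _ (hconj h p hp) fun hm => hn (by
            obtain ⟨p', hp', e⟩ := Finset.mem_image.mp hm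
            exact hginj e ▸ hp')
      · rintro _ ⟨v, hv, rfl⟩
        refine ⟨fun p hp => ?_, fun p hp hn => ?_⟩
        · obtain ⟨p0, hp0, rfl⟩ := Finset.mem_image.mp hp
          rw [hg, hgP h p0 (htP hp0), hv.1 p0 hp0]
        · have h0 := hconj h⁻¹ p hp
          rw [inv_inv] at h0
          have e : g (ρ h⁻¹ * p * ρ h) = p := by
            simp only [hg, ← mul_assoc, ← map_mul, mul_inv_cancel, map_one, one_mul]
            rw [mul_assoc, ← map_mul, mul_inv_cancel, map_one, mul_one]
          rw [← e, hg, hgP h _ h0, hv.2 _ h0 (fun hm => hn (e ▸ Finset.mem_image_of_mem g hm)),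
            map_zero]
    · rw [eq_bot_iff]
      intro v hv
      rw [Submodule.mem_bot]
      refine (rho_eq_zero ρ (g := h)).mp ((Submodule.mem_bot (ZMod 7)).mp ?_)
      rw [← e]
      exact ⟨v, hv, rfl⟩
  have hsys : IsSys ρ s := by
    refine IsSys.of_disjoint (fun b hb => (Finset.mem_filter.mp hb).2) htop hinv fun b hb => ?_
    obtain ⟨hb1, -⟩ := Finset.mem_filter.mp hb
    obtain ⟨t, ht, rfl⟩ := Finset.mem_image.mp hb1
    rw [Submodule.disjoint_def]
    intro x hx hx'
    refine hsep (A.filter fun t' => atom P t' ≠ atom P t) (Finset.filter_subset _ _) t ht (by simp) x hx ?_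
    refine (Finset.sup_le (f := id) fun d hd => ?_ : (s.erase (atom P t)).sup id ≤ _) hx'
    obtain ⟨hdne, hds⟩ := Finset.mem_erase.mp hd
    obtain ⟨t', ht', rfl⟩ := Finset.mem_image.mp (Finset.mem_filter.mp hds).1
    exact Finset.le_sup (f := atom P) (Finset.mem_filter.mpr ⟨ht', hdne⟩)
  refine ⟨s, hsys, ?_⟩
  by_contra hlt
  obtain ⟨p, hp, hp0, hp1⟩ := hne
  have hcard : s.card ≤ 1 := by omega
  rcases s.eq_empty_or_nonempty with he | ⟨b, hb⟩
  · rw [he, Finset.sup_empty] at htop
    apply hp0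
    refine LinearMap.ext fun v => ?_
    rw [(Submodule.mem_bot (ZMod 7)).mp (htop ▸ Submodule.mem_top (x := v) : v ∈ (⊥ : Submodule (ZMod 7) V)),
      map_zero, map_zero]
  have hs1 : s = {b} := Finset.eq_singleton_iff_unique_mem.mpr
    ⟨hb, fun c hc => Finset.card_le_one.mp hcard c hc b hb⟩
  rw [hs1, Finset.sup_singleton] at htop
  obtain ⟨t, ht, htb⟩ := Finset.mem_image.mp (Finset.mem_filter.mp hb).1
  have hall : ∀ v, v ∈ atom P t := fun v => by
    rw [htb, show b = ⊤ from htop]; exact Submodule.mem_top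
  by_cases hpt : p ∈ t
  · exact hp1 (LinearMap.ext fun v => (hall v).1 p hpt)
  · exact hp0 (LinearMap.ext fun v => (hall v).2 p hp hpt)

/-- Averaged complements. -/
theorem exists_inv_compl [Finite H] (hH : ¬ 7 ∣ Nat.card H) (ρ : H →* Module.End (ZMod 7) V)
    (U : Submodule (ZMod 7) V) (hU : ∀ h : H, ∀ x ∈ U, ρ h x ∈ U) :
    ∃ U' : Submodule (ZMod 7) V, (∀ h : H, ∀ x ∈ U', ρ h x ∈ U') ∧ IsCompl U U' := by
  classical
  have := Fintype.ofFinite H
  obtain ⟨U₀, hU₀⟩ := Submodule.exists_isCompl U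
  set π : Module.End (ZMod 7) V := U.subtype ∘ₗ (U.projectionOnto U₀ hU₀) with hπ
  set e : Module.End (ZMod 7) V := ((Nat.card H : ℕ) : ZMod 7)⁻¹ • ∑ h : H, ρ h * π * ρ h⁻¹ with he
  have hN : ((Nat.card H : ℕ) : ZMod 7) ≠ 0 := by rwa [Ne, ZMod.natCast_eq_zero_iff]
  have hmem : ∀ v, e v ∈ U := by
    intro v
    rw [he, LinearMap.smul_apply, LinearMap.sum_apply]
    refine U.smul_mem _ (U.sum_mem fun h _ => ?_)
    rw [Module.End.mul_apply, Module.End.mul_apply]
    exact hU h _ (Subtype.prop _)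
  have hfix : ∀ v ∈ U, e v = v := by
    intro v hv
    rw [he, LinearMap.smul_apply, LinearMap.sum_apply]
    have h1 : ∀ h : H, (ρ h * π * ρ h⁻¹) v = v := fun h => by
      rw [Module.End.mul_apply, Module.End.mul_apply, hπ, LinearMap.comp_apply,
        Submodule.projectionOnto_apply_left hU₀ ⟨ρ h⁻¹ v, hU _ v hv⟩]
      exact rho_self_inv ρ h v
    rw [Finset.sum_congr rfl fun h _ => h1 h, Finset.sum_const, Finset.card_univ,
      ← Nat.card_eq_fintype_card, ← Nat.cast_smul_eq_nsmul (ZMod 7), smul_smul, inv_mul_cancel₀ hN,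
      one_smul]
  have hcomm : ∀ g : H, ρ g * e = e * ρ g := by
    intro g
    rw [he, mul_smul_comm, smul_mul_assoc, Finset.mul_sum, Finset.sum_mul,
      ← Equiv.sum_comp (Equiv.mulLeft g) fun h => ρ h * π * ρ h⁻¹ * ρ g]
    congr 1
    refine Finset.sum_congr rfl fun h _ => ?_
    simp only [Equiv.coe_mulLeft, mul_inv_rev, map_mul, mul_assoc]
    rw [← map_mul ρ g⁻¹ g, inv_mul_cancel, map_one, mul_one]
  refine ⟨LinearMap.ker e, fun h x hx => ?_, ?_⟩
  · rw [LinearMap.mem_ker] at hx ⊢
    rw [← Module.End.mul_apply, ← hcomm, Module.End.mul_apply, hx, map_zero]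
  · refine ⟨Submodule.disjoint_def.mpr fun x hx hx' => ?_, codisjoint_iff.mpr ?_⟩
    · rw [← hfix x hx]; exact LinearMap.mem_ker.mp hx'
    · rw [eq_top_iff]
      intro v _
      rw [← add_sub_cancel (e v) v]
      exact Submodule.add_mem_sup (hmem v) (by rw [LinearMap.mem_ker, map_sub, hfix _ (hmem v), sub_self])

/-- A complementary pair of invariant subspaces is a system. -/
theorem isSys_pair [Finite V] [DecidableEq (Submodule (ZMod 7) V)]
    (ρ : H →* Module.End (ZMod 7) V) {U U' : Submodule (ZMod 7) V}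
    (hU : ∀ h : H, ∀ x ∈ U, ρ h x ∈ U) (hU' : ∀ h : H, ∀ x ∈ U', ρ h x ∈ U') (hc : IsCompl U U')
    (h0 : U ≠ ⊥) (h0' : U' ≠ ⊥) : IsSys ρ {U, U'} := by
  have hne : U ≠ U' := fun e => h0 (by
    have := disjoint_iff.mp hc.disjoint
    rwa [← e, inf_idem] at this)
  refine ⟨?_, ?_, ?_, ?_⟩
  · simp [h0, h0']
  · simp [hc.sup_eq_top]
  · rw [Finset.sum_pair hne]
    exact Submodule.finrank_add_eq_of_isCompl hc
  · intro h b hb
    simp only [Finset.mem_insert, Finset.mem_singleton] at hb ⊢
    rcases hb with rfl | rfl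
    · exact Or.inl (mem_stabSub_of_maps (hU h))
    · exact Or.inr (mem_stabSub_of_maps (hU' h))

/-- Planes in two invariant complementary subspaces. -/
theorem planes_glue [Finite V] (ρ : H →* Module.End (ZMod 7) V) {U U' : Submodule (ZMod 7) V}
    (hU : ∀ h : H, ∀ x ∈ U, ρ h x ∈ U) (hU' : ∀ h : H, ∀ x ∈ U', ρ h x ∈ U') (hc : IsCompl U U')
    (hP : Planes (restr ρ U)) (hP' : Planes (restr ρ U')) : Planes ρ := by
  classical
  obtain ⟨s, hs, hs2⟩ := hP
  obtain ⟨s', hs', hs2'⟩ := hP'
  set S := s.image (Submodule.map U.subtype) ∪ s'.image (Submodule.map U'.subtype) with hS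
  have hmapinv : ∀ (W : Submodule (ZMod 7) V), (∀ h : H, ∀ x ∈ W, ρ h x ∈ W) →
      ∀ (t : Finset (Submodule (ZMod 7) W)), IsSys (restr ρ W) t →
      ∀ h : H, ∀ b ∈ t.image (Submodule.map W.subtype), b.map (ρ h) ∈ t.image (Submodule.map W.subtype) := by
    intro W hW t ht h b hb
    obtain ⟨b0, hb0, rfl⟩ := Finset.mem_image.mp hb
    refine Finset.mem_image.mpr ⟨b0.map (restr ρ W ⟨h, mem_stabSub_of_maps (hW h)⟩), ht.inv _ _ hb0, ?_⟩
    rw [← Submodule.map_comp, ← Submodule.map_comp]
    rfl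
  have hrank : ∀ b ∈ S, Module.finrank (ZMod 7) b = 2 := by
    intro b hb
    rcases Finset.mem_union.mp hb with h | h <;> obtain ⟨b0, hb0, rfl⟩ := Finset.mem_image.mp h <;>
      rw [LinearEquiv.finrank_eq (Submodule.equivMapOfInjective _ (Submodule.subtype_injective _) b0).symm]
    exacts [hs2 b0 hb0, hs2' b0 hb0]
  have htop : S.sup id = ⊤ := by
    have hpart : ∀ (W : Submodule (ZMod 7) V) (t : Finset (Submodule (ZMod 7) W)), t.sup id = ⊤ →
        W ≤ (t.image (Submodule.map W.subtype)).sup id := by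
      intro W t ht
      conv_lhs => rw [← Submodule.map_subtype_top W, ← ht]
      rw [Submodule.map_le_iff_le_comap]
      exact Finset.sup_le fun b hb => Submodule.map_le_iff_le_comap.mp
        (Finset.le_sup (f := id) (Finset.mem_image_of_mem _ hb))
    rw [eq_top_iff, ← hc.sup_eq_top]
    exact sup_le ((hpart U s hs.top).trans (Finset.sup_mono Finset.subset_union_left))
      ((hpart U' s' hs'.top).trans (Finset.sup_mono Finset.subset_union_right))
  refine ⟨S, ⟨fun b hb e => ?_, htop, le_antisymm ?_ ?_, fun h b hb => ?_⟩, hrank⟩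
  · have := hrank b hb
    rw [e, finrank_bot] at this
    omega
  · rw [Finset.sum_const_nat hrank, ← Submodule.finrank_add_eq_of_isCompl hc, ← hs.dim, ← hs'.dim,
      Finset.sum_const_nat hs2, Finset.sum_const_nat hs2', ← add_mul]
    exact Nat.mul_le_mul_right 2 ((Finset.card_union_le _ _).trans
      (Nat.add_le_add Finset.card_image_le Finset.card_image_le))
  · rw [← finrank_top (ZMod 7) V, ← htop]
    exact finrank_sup_le_sum S id
  · rcases Finset.mem_union.mp hb with h' | h'
    · exact Finset.mem_union_left _ (hmapinv U hU s hs h b h')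
    · exact Finset.mem_union_right _ (hmapinv U' hU' s' hs' h b h')

/-- In an irreducible representation the blocks form one orbit. -/
theorem IsSys.transitive [Finite V] {ρ : H →* Module.End (ZMod 7) V}
    {s : Finset (Submodule (ZMod 7) V)} (hs : IsSys ρ s)
    (hirr : ∀ U : Submodule (ZMod 7) V, (∀ h : H, ∀ x ∈ U, ρ h x ∈ U) → U = ⊥ ∨ U = ⊤)
    {b c : Submodule (ZMod 7) V} (hb : b ∈ s) (hc : c ∈ s) : ∃ g : H, b.map (ρ g) = c := by
  classical
  by_contra! hno
  set O := s.filter fun d => ∃ g : H, b.map (ρ g) = d with hO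
  rcases hirr (O.sup id) (fun h x hx => by
      have h1 : (O.sup id).map (ρ h) ≤ O.sup id := by
        rw [Submodule.map_le_iff_le_comap]
        refine Finset.sup_le fun d hd => Submodule.map_le_iff_le_comap.mp ?_
        obtain ⟨hds, g, hg⟩ := Finset.mem_filter.mp hd
        refine Finset.le_sup (f := id) (Finset.mem_filter.mpr ⟨hs.inv h d hds, h * g, ?_⟩)
        rw [map_mul, Module.End.mul_eq_comp, Submodule.map_comp, hg]
        rfl
      exact h1 ⟨x, hx, rfl⟩) with h | h
  · apply hs.ne_bot b hb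
    rw [eq_bot_iff, ← h]
    exact Finset.le_sup (f := id) (Finset.mem_filter.mpr ⟨hb, 1, by
      rw [map_one, Module.End.one_eq_id, Submodule.map_id]⟩)
  · apply hs.ne_bot c hc
    rw [eq_bot_iff]
    refine (le_inf le_rfl ?_).trans (disjoint_iff.mp (hs.disjoint hc)).le
    refine le_trans (le_top.trans h.ge) (Finset.sup_mono fun d hd => ?_)
    obtain ⟨hds, g, hg⟩ := Finset.mem_filter.mp hd
    exact Finset.mem_erase.mpr ⟨fun e => hno g (hg.trans e), hds⟩

/-- Planes inside the blocks give planes. -/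
theorem planes_of_blocks [Finite V] [Finite H] {ρ : H →* Module.End (ZMod 7) V}
    {s : Finset (Submodule (ZMod 7) V)} (hs : IsSys ρ s)
    (hirr : ∀ U : Submodule (ZMod 7) V, (∀ h : H, ∀ x ∈ U, ρ h x ∈ U) → U = ⊥ ∨ U = ⊤)
    {b : Submodule (ZMod 7) V} (hb : b ∈ s) (hP : Planes (restr ρ b)) : Planes ρ := by
  classical
  obtain ⟨sb, hsb, hsb2⟩ := hP
  have hg : ∀ c : s, ∃ g : H, b.map (ρ g) = c := fun c => hs.transitive hirr hb c.2
  choose g hg using hg
  have hdimc : ∀ c ∈ s, Module.finrank (ZMod 7) c = Module.finrank (ZMod 7) b := by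
    intro c hc
    have := (LinearEquiv.finrank_eq
      (Submodule.equivMapOfInjective _ (rho_injective ρ (g ⟨c, hc⟩)) b)).symm
    rw [hg ⟨c, hc⟩] at this
    exact this
  set S := (s.attach ×ˢ sb).image fun t => (t.2.map b.subtype).map (ρ (g t.1)) with hS
  have hrank : ∀ d ∈ S, Module.finrank (ZMod 7) d = 2 := by
    intro d hd
    obtain ⟨⟨c, c0⟩, ht, rfl⟩ := Finset.mem_image.mp hd
    rw [LinearEquiv.finrank_eq (Submodule.equivMapOfInjective _ (rho_injective ρ _) _).symm,
      LinearEquiv.finrank_eq (Submodule.equivMapOfInjective _ (Submodule.subtype_injective _) c0).symm]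
    exact hsb2 c0 (Finset.mem_product.mp ht).2
  have htop : S.sup id = ⊤ := by
    rw [eq_top_iff, ← hs.top]
    refine Finset.sup_le fun c hc => ?_
    show c ≤ _
    conv_lhs => rw [show c = b.map (ρ (g ⟨c, hc⟩)) from (hg ⟨c, hc⟩).symm]
    conv_lhs => rw [← Submodule.map_subtype_top b, ← hsb.top, ← Submodule.map_comp]
    rw [Submodule.map_le_iff_le_comap]
    refine Finset.sup_le fun c0 hc0 => Submodule.map_le_iff_le_comap.mp ?_
    rw [Submodule.map_comp]
    exact Finset.le_sup (f := id) (Finset.mem_image.mpr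
      ⟨(⟨c, hc⟩, c0), Finset.mem_product.mpr ⟨Finset.mem_attach _ _, hc0⟩, rfl⟩)
  refine ⟨S, ⟨fun d hd e => ?_, htop, le_antisymm ?_ ?_, fun h d hd => ?_⟩, hrank⟩
  · have := hrank d hd
    rw [e, finrank_bot] at this
    omega
  · rw [Finset.sum_const_nat hrank, ← hs.dim, Finset.sum_const_nat hdimc, ← hsb.dim,
      Finset.sum_const_nat hsb2, ← mul_assoc]
    refine Nat.mul_le_mul_right 2 (Finset.card_image_le.trans ?_)
    rw [Finset.card_product, Finset.card_attach]
  · rw [← finrank_top (ZMod 7) V, ← htop]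
    exact finrank_sup_le_sum S id
  · obtain ⟨⟨c, c0⟩, ht, rfl⟩ := Finset.mem_image.mp hd
    obtain ⟨-, hc0⟩ := Finset.mem_product.mp ht
    set d' : s := ⟨c.1.map (ρ h), hs.inv h c.1 c.2⟩ with hd'
    have hk : (g d')⁻¹ * h * g c ∈ stabSub ρ b := by
      show b.map (ρ ((g d')⁻¹ * h * g c)) = b
      rw [map_mul, map_mul, Module.End.mul_eq_comp, Module.End.mul_eq_comp, Submodule.map_comp,
        Submodule.map_comp, hg c, show c.1.map (ρ h) = b.map (ρ (g d')) from (hg d').symm,
        ← Submodule.map_comp, ← Module.End.mul_eq_comp, ← map_mul, inv_mul_cancel, map_one,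
        Module.End.one_eq_id, Submodule.map_id]
    refine Finset.mem_image.mpr ⟨(d', c0.map (restr ρ b ⟨_, hk⟩)),
      Finset.mem_product.mpr ⟨Finset.mem_attach _ _, hsb.inv _ _ hc0⟩, ?_⟩
    simp only [← Submodule.map_comp]
    congr 1
    refine LinearMap.ext fun x => ?_
    simp only [LinearMap.comp_apply, Submodule.subtype_apply, restr_apply]
    rw [← rho_mul, ← rho_mul, mul_assoc, mul_inv_cancel_left]

end CfsgLib.S3Conj.Gow
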