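import Cfsg.Agent.Lib.S3Conj.Gow.Rep
import Cfsg.Agent.Lib.S3Conj.Basic

/-!
In a rational group of order prime to the characteristic every line stabiliser acts somewhere by
the inverse character.
-/

set_option autoImplicit false

namespace CfsgLib.S3Conj.Gow

open Subgroup

universe u v

theorem dvd_of_cast_eq_zero {q N : ℕ} (hN : 1 ≤ N) {x : ZMod (q ^ N)} [NeZero (q ^ N)]
    (h : ZMod.castHom (dvd_pow_self q (by omega : N ≠ 0)) (ZMod q) x = 0) :
    (q : ZMod (q ^ N)) ∣ x := by
  have hx : ((x.val : ℕ) : ZMod q) = 0 := by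
    rw [← map_natCast (ZMod.castHom (dvd_pow_self q (by omega : N ≠ 0)) (ZMod q)),
      ZMod.natCast_zmod_val]
    exact h
  rw [ZMod.natCast_eq_zero_iff] at hx
  obtain ⟨y, hy⟩ := hx
  exact ⟨(y : ZMod (q ^ N)), by rw [← Nat.cast_mul, ← hy, ZMod.natCast_zmod_val]⟩

section Matrix

variable {n : Type*} [Fintype n] [DecidableEq n] {q N : ℕ} [hq : Fact q.Prime]

/-- Reduction of matrices. -/
def red (hN : N ≠ 0) : Matrix n n (ZMod (q ^ N)) →+* Matrix n n (ZMod q) :=
  (ZMod.castHom (dvd_pow_self q hN) (ZMod q)).mapMatrix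

theorem exists_eq_smul_of_red (hN : N ≠ 0) {Z : Matrix n n (ZMod (q ^ N))} (h : red hN Z = 0) :
    ∃ Y, Z = (q : ZMod (q ^ N)) • Y := by
  have : NeZero (q ^ N) := ⟨pow_ne_zero _ hq.out.ne_zero⟩
  have hd : ∀ i j, (q : ZMod (q ^ N)) ∣ Z i j := fun i j =>
    dvd_of_cast_eq_zero (by omega) (congrFun (congrFun h i) j)
  choose Y hY using hd
  exact ⟨Matrix.of Y, Matrix.ext fun i j => by simp [hY i j]⟩

theorem pow_card_eq_one_of_red (hN : N ≠ 0) {M : Matrix n n (ZMod (q ^ N))} (h : red hN M = 1) :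
    M ^ q ^ (N - 1) = 1 := by
  have key : ∀ k, ∃ Y, M ^ q ^ k - 1 = ((q : ZMod (q ^ N)) ^ (k + 1)) • Y := by
    intro k
    induction k with
    | zero =>
      obtain ⟨Y, hY⟩ := exists_eq_smul_of_red hN (Z := M - 1) (by rw [map_sub, h, map_one, sub_self])
      exact ⟨Y, by rw [pow_zero, pow_one, zero_add, pow_one, hY]⟩
    | succ k ih =>
      obtain ⟨Y, hY⟩ := ih
      have hsum : red hN (∑ i ∈ Finset.range q, (M ^ q ^ k) ^ i) = 0 := by
        rw [map_sum]
        simp only [map_pow, h, one_pow, Finset.sum_const, Finset.card_range, nsmul_one]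
        rw [← Matrix.diagonal_natCast, ZMod.natCast_self, Matrix.diagonal_zero]
      obtain ⟨Z, hZ⟩ := exists_eq_smul_of_red hN hsum
      refine ⟨Z * Y, ?_⟩
      rw [pow_succ, pow_mul, ← geom_sum_mul, hZ, hY, smul_mul_assoc, mul_smul_comm, smul_smul,
        ← pow_succ']
  obtain ⟨Y, hY⟩ := key (N - 1)
  rw [show N - 1 + 1 = N by omega, ← Nat.cast_pow, ZMod.natCast_self, zero_smul, sub_eq_zero] at hY
  exact hY

theorem idem_eq_zero_of_red (hN : N ≠ 0) {M : Matrix n n (ZMod (q ^ N))} (hM : M * M = M)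
    (h : red hN M = 0) : M = 0 := by
  obtain ⟨Y, hY⟩ := exists_eq_smul_of_red hN h
  have hp : M ^ N = M := (show IsIdempotentElem M from hM).pow_eq hN
  rw [← hp, hY, smul_pow, ← Nat.cast_pow, ZMod.natCast_self, zero_smul]

/-- The Teichmüller lift. -/
def teich (N : ℕ) (c : ZMod q) : ZMod (q ^ N) := ((c.val : ℕ) : ZMod (q ^ N)) ^ q ^ (N - 1)

theorem teich_eq (hN : N ≠ 0) {x : ZMod (q ^ N)} {c : ZMod q}
    (h : ZMod.castHom (dvd_pow_self q hN) (ZMod q) x = c) : teich N c = x ^ q ^ (N - 1) := by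
  have : NeZero (q ^ N) := ⟨pow_ne_zero _ hq.out.ne_zero⟩
  have hdvd : (q : ZMod (q ^ N)) ∣ ((c.val : ℕ) : ZMod (q ^ N)) - x :=
    dvd_of_cast_eq_zero (by omega) (by rw [map_sub, map_natCast, ZMod.natCast_zmod_val, h, sub_self])
  have h1 := dvd_sub_pow_of_dvd_sub hdvd (N - 1)
  rw [show N - 1 + 1 = N by omega, ← Nat.cast_pow, ZMod.natCast_self, zero_dvd_iff, sub_eq_zero] at h1
  exact h1

theorem teich_mul (hN : N ≠ 0) (c d : ZMod q) : teich N (c * d) = teich N c * teich N d := by
  have : NeZero q := ⟨hq.out.ne_zero⟩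
  rw [teich_eq hN (x := ((c.val : ℕ) : ZMod (q ^ N)) * ((d.val : ℕ) : ZMod (q ^ N))), mul_pow]
  · rfl
  · rw [map_mul, map_natCast, map_natCast, ZMod.natCast_zmod_val, ZMod.natCast_zmod_val]

theorem teich_one (hN : N ≠ 0) : teich N (1 : ZMod q) = 1 := by
  rw [teich_eq hN (x := 1) (map_one _), one_pow]

theorem cast_teich (hN : N ≠ 0) (c : ZMod q) :
    ZMod.castHom (dvd_pow_self q hN) (ZMod q) (teich N c) = c := by
  have : NeZero q := ⟨hq.out.ne_zero⟩
  rw [teich, map_pow, map_natCast, ZMod.natCast_zmod_val, ZMod.pow_card_pow]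

end Matrix

variable {H : Type v} [Group H] {q : ℕ} [hq : Fact q.Prime] {V : Type u} [AddCommGroup V]
  [Module (ZMod q) V]

/-- A lift of a matrix representation of a group of order prime to `q`. -/
theorem exists_lift [Finite H] {n : Type*} [Fintype n] [DecidableEq n] (hH : ¬ q ∣ Nat.card H)
    {N : ℕ} (hN : N ≠ 0) (r : H →* Matrix n n (ZMod q)) :
    ∃ R : H →* Matrix n n (ZMod (q ^ N)), ∀ h, red hN (R h) = r h := by
  have : NeZero (q ^ N) := ⟨pow_ne_zero _ hq.out.ne_zero⟩
  let fu := Units.map (red (n := n) (q := q) hN).toMonoidHom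
  let P : Subgroup ((Matrix n n (ZMod (q ^ N)))ˣ × H) :=
    (fu.comp (MonoidHom.fst _ H)).eqLocus (r.toHomUnits.comp (MonoidHom.snd _ H))
  let f : P →* H := (MonoidHom.snd _ H).comp P.subtype
  have hfs : Function.Surjective f := by
    intro h
    have hs : ∀ i j, ∃ a : ZMod (q ^ N), ZMod.castHom (dvd_pow_self q hN) (ZMod q) a = r h i j :=
      fun i j => ZMod.castHom_surjective (dvd_pow_self q hN) (r h i j)
    choose A hA using hs
    have hred : red hN (Matrix.of A) = r h := Matrix.ext hA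
    have hunit : IsUnit (Matrix.of A) := by
      rw [Matrix.isUnit_iff_isUnit_det]
      have hu : IsUnit (red hN (Matrix.of A)).det := (Matrix.isUnit_iff_isUnit_det _).mp
        (hred ▸ (r.toHomUnits h).isUnit)
      rw [show (red hN (Matrix.of A)).det = ZMod.castHom (dvd_pow_self q hN) (ZMod q) (Matrix.of A).det
        from (RingHom.map_det _ _).symm] at hu
      set x := (Matrix.of A).det
      rw [← ZMod.natCast_zmod_val x, ZMod.isUnit_iff_coprime]
      refine (Nat.Coprime.pow_right N ((Nat.coprime_comm).mp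
        ((hq.out.coprime_iff_not_dvd).mpr fun hd => ?_)))
      refine hu.ne_zero ?_
      rw [← ZMod.natCast_zmod_val x, map_natCast, ZMod.natCast_eq_zero_iff]
      exact hd
    refine ⟨⟨(hunit.unit, h), Units.ext ?_⟩, rfl⟩
    show red hN (hunit.unit : Matrix n n (ZMod (q ^ N))) = r h
    rw [hunit.unit_spec, hred]
  have hker : IsPGroup q f.ker := by
    rintro ⟨⟨⟨g, h⟩, hp⟩, hk⟩
    have h1 : h = 1 := hk
    subst h1
    refine ⟨N - 1, ?_⟩
    have hg : red hN (g : Matrix n n (ZMod (q ^ N))) = 1 := by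
      have hg' : red hN (g : Matrix n n (ZMod (q ^ N))) = r 1 := congrArg Units.val hp
      rw [map_one] at hg'
      exact hg'
    refine Subtype.ext (Subtype.ext (Prod.ext (Units.ext ?_) (one_pow _)))
    show ((g ^ q ^ (N - 1) : (Matrix n n (ZMod (q ^ N)))ˣ) : Matrix n n (ZMod (q ^ N))) = 1
    rw [Units.val_pow_eq_pow_val]
    exact pow_card_eq_one_of_red hN hg
  have : Finite P := inferInstance
  obtain ⟨k, hk⟩ := IsPGroup.iff_card.mp hker
  have hidx : f.ker.index = Nat.card H := by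
    rw [Subgroup.index_ker, MonoidHom.range_eq_top.mpr hfs, Subgroup.card_top]
  obtain ⟨L, hL⟩ := Subgroup.exists_right_complement'_of_coprime (N := f.ker) (by
    rw [hk, hidx]
    exact ((hq.out.coprime_iff_not_dvd).mpr hH).pow_left k)
  have hbij : Function.Bijective (f.comp L.subtype) := by
    refine (Nat.bijective_iff_injective_and_card _).mpr ⟨?_, ?_⟩
    · rw [injective_iff_map_eq_one]
      intro l hl
      exact Subtype.ext (Subgroup.disjoint_def.mp hL.disjoint (MonoidHom.mem_ker.mpr hl) l.2)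
    · rw [← hL.symm.index_eq_card, hidx]
  let e := MulEquiv.ofBijective _ hbij
  refine ⟨(Units.coeHom _).comp ((MonoidHom.fst _ H).comp (P.subtype.comp (L.subtype.comp
    e.symm.toMonoidHom))), fun h => ?_⟩
  have hp : red hN ((((e.symm h : L) : P) : (Matrix n n (ZMod (q ^ N)))ˣ × H).1 : Matrix n n (ZMod (q ^ N))) =
      r (((e.symm h : L) : P) : (Matrix n n (ZMod (q ^ N)))ˣ × H).2 :=
    congrArg Units.val ((e.symm h : L) : P).2
  have hh : (((e.symm h : L) : P) : (Matrix n n (ZMod (q ^ N)))ˣ × H).2 = h := e.apply_symm_apply h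
  rw [hh] at hp
  exact hp

/-- Partners exist in rational groups of order prime to the characteristic. -/
theorem part_of_rational [Finite V] [Finite H] (hR : Rational H) (hH : ¬ q ∣ Nat.card H)
    (ρ : H →* Module.End (ZMod q) V) : Part ρ := by
  classical
  have := Fintype.ofFinite H
  intro u hu
  let S : Subgroup H :=
    { carrier := {h | ∃ c : ZMod q, ρ h u = c • u}
      one_mem' := ⟨1, by rw [rho_one, one_smul]⟩
      mul_mem' := fun {g h} ⟨c, hc⟩ ⟨d, hd⟩ => ⟨d * c, by rw [rho_mul, hd, map_smul, hc, smul_smul]⟩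
      inv_mem' := fun {g} ⟨c, hc⟩ => ⟨c⁻¹, by
        have hc0 : c ≠ 0 := fun h0 => hu ((rho_eq_zero ρ).mp (by rw [hc, h0, zero_smul]))
        apply rho_injective ρ g
        rw [rho_self_inv, map_smul, hc, smul_smul, inv_mul_cancel₀ hc0, one_smul]⟩ }
  have hψ' : ∀ s : S, ∃ c : ZMod q, ρ (s : H) u = c • u := fun s => s.2
  choose ψ hψ using hψ'
  have hψmul : ∀ s t : S, ψ (s * t) = ψ s * ψ t := fun s t => smul_left_cancel' hu (by
    rw [← hψ, Subgroup.coe_mul, rho_mul, hψ, map_smul, hψ, smul_smul, mul_comm])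
  have hψ1 : ψ 1 = 1 := smul_left_cancel' hu (by rw [← hψ, Subgroup.coe_one, rho_one, one_smul])
  have hψinv : ∀ s : S, ψ s⁻¹ * ψ s = 1 := fun s => by rw [← hψmul, inv_mul_cancel, hψ1]
  have hn : ((Fintype.card S : ℕ) : ZMod q) ≠ 0 := by
    rw [Ne, ZMod.natCast_eq_zero_iff, ← Nat.card_eq_fintype_card]
    exact fun h => hH (h.trans (Subgroup.card_subgroup_dvd_card S))
  -- the two projectors
  set ep : Module.End (ZMod q) V :=
    ((Fintype.card S : ℕ) : ZMod q)⁻¹ • ∑ s : S, ψ s⁻¹ • ρ (s : H) with hep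
  set em : Module.End (ZMod q) V :=
    ((Fintype.card S : ℕ) : ZMod q)⁻¹ • ∑ s : S, ψ s • ρ (s : H) with hem
  have hepu : ep u = u := by
    rw [hep, LinearMap.smul_apply, LinearMap.sum_apply]
    simp only [LinearMap.smul_apply, hψ, smul_smul, hψinv, one_smul, Finset.sum_const, Finset.card_univ]
    rw [← Nat.cast_smul_eq_nsmul (ZMod q), smul_smul, inv_mul_cancel₀ hn, one_smul]
  suffices hne : em ≠ 0 by
    obtain ⟨x, hx⟩ : ∃ x, em x ≠ 0 := by
      by_contra! h
      exact hne (LinearMap.ext h)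
    refine ⟨em x, hx, fun h c hc => ?_⟩
    have hs : h ∈ S := ⟨c, hc⟩
    have hcψ : c = ψ ⟨h, hs⟩ := smul_left_cancel' hu (hc.symm.trans (hψ ⟨h, hs⟩))
    rw [hem, LinearMap.smul_apply, map_smul, smul_comm, LinearMap.sum_apply, map_sum, Finset.smul_sum,
      ← Equiv.sum_comp (Equiv.mulLeft (⟨h, hs⟩ : S)) fun s : S => (ψ s • ρ (s : H)) x]
    congr 1
    refine Finset.sum_congr rfl fun s _ => ?_
    simp only [Equiv.coe_mulLeft, LinearMap.smul_apply, map_smul, Subgroup.coe_mul, rho_mul, hψmul,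
      smul_smul, hcψ]
  intro hem0
  -- a basis adapted to the first projector
  have hepidem : ∀ v, ep (ep v) = ep v := by
    have key : ∀ t : S, ρ (t : H) * ep = ψ t • ep := by
      intro t
      rw [hep, mul_smul_comm, smul_comm (ψ t), Finset.mul_sum, Finset.smul_sum (r := ψ t)]
      congr 1
      conv_rhs => rw [← Equiv.sum_comp (Equiv.mulLeft t)]
      refine Finset.sum_congr rfl fun s _ => ?_
      simp only [Equiv.coe_mulLeft, mul_smul_comm, Subgroup.coe_mul, map_mul, smul_smul,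
        mul_inv_rev, hψmul]
      congr 1
      rw [mul_comm (ψ t), mul_assoc, hψinv, mul_one]
    intro v
    have h1 : ∀ s : S, ψ s⁻¹ • ρ (s : H) (ep v) = ep v := fun s => by
      rw [← Module.End.mul_apply, key, LinearMap.smul_apply, smul_smul, hψinv, one_smul]
    generalize hw : ep v = w at h1 ⊢
    rw [hep, LinearMap.smul_apply, LinearMap.sum_apply]
    simp only [LinearMap.smul_apply]
    rw [Finset.sum_congr rfl fun s _ => h1 s, Finset.sum_const, Finset.card_univ,
      ← Nat.cast_smul_eq_nsmul (ZMod q), smul_smul, inv_mul_cancel₀ hn, one_smul]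
  have hcompl : IsCompl (LinearMap.range ep) (LinearMap.ker ep) := by
    refine ⟨Submodule.disjoint_def.mpr fun x hx hx' => ?_, codisjoint_iff.mpr ?_⟩
    · obtain ⟨y, rfl⟩ := hx
      rw [← hepidem y]
      exact LinearMap.mem_ker.mp hx'
    · rw [eq_top_iff]
      intro v _
      rw [← add_sub_cancel (ep v) v]
      exact Submodule.add_mem_sup ⟨v, rfl⟩ (by rw [LinearMap.mem_ker, map_sub, hepidem, sub_self])
  let b := (((Module.finBasis (ZMod q) (LinearMap.range ep)).prod
    (Module.finBasis (ZMod q) (LinearMap.ker ep))).map (Submodule.prodEquivOfIsCompl _ _ hcompl))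
  let toM := LinearMap.toMatrixAlgEquiv b
  let N := Module.finrank (ZMod q) V + 1
  have hN : N ≠ 0 := Nat.succ_ne_zero _
  let r : H →* Matrix _ _ (ZMod q) := toM.toMulEquiv.toMonoidHom.comp ρ
  obtain ⟨R, hR'⟩ := exists_lift hH hN r
  have hrh : ∀ h, r h = toM (ρ h) := fun h => rfl
  have : NeZero (q ^ N) := ⟨pow_ne_zero _ hq.out.ne_zero⟩
  set π := ZMod.castHom (dvd_pow_self q hN) (ZMod q) with hπ
  obtain ⟨nu, hnu⟩ : IsUnit ((Fintype.card S : ℕ) : ZMod (q ^ N)) := by
    rw [ZMod.isUnit_iff_coprime]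
    refine Nat.Coprime.pow_right N ((Nat.coprime_comm).mp ((hq.out.coprime_iff_not_dvd).mpr fun hd => hn ?_))
    rwa [ZMod.natCast_eq_zero_iff]
  set Ep := ((nu⁻¹ : (ZMod (q ^ N))ˣ) : ZMod (q ^ N)) • ∑ s : S, teich N (ψ s⁻¹) • R (s : H) with hEp
  set Em := ((nu⁻¹ : (ZMod (q ^ N))ˣ) : ZMod (q ^ N)) • ∑ s : S, teich N (ψ s) • R (s : H) with hEm
  have hredsmul : ∀ (a : ZMod (q ^ N)) (M : Matrix (Fin (Module.finrank (ZMod q) (LinearMap.range ep)) ⊕ Fin (Module.finrank (ZMod q) (LinearMap.ker ep)))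
      (Fin (Module.finrank (ZMod q) (LinearMap.range ep)) ⊕ Fin (Module.finrank (ZMod q) (LinearMap.ker ep))) (ZMod (q ^ N))), red hN (a • M) = π a • red hN M :=
    fun a M => Matrix.ext fun i j => by simp [red, hπ]
  have hπnu : π ((nu⁻¹ : (ZMod (q ^ N))ˣ) : ZMod (q ^ N)) = ((Fintype.card S : ℕ) : ZMod q)⁻¹ := by
    refine eq_inv_of_mul_eq_one_left ?_
    rw [← map_natCast π, ← map_mul, ← hnu, Units.inv_mul, map_one]
  have hredE : ∀ f : S → ZMod q,
      red hN (((nu⁻¹ : (ZMod (q ^ N))ˣ) : ZMod (q ^ N)) • ∑ s : S, teich N (f s) • R (s : H)) =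
        toM (((Fintype.card S : ℕ) : ZMod q)⁻¹ • ∑ s : S, f s • ρ (s : H)) := by
    intro f
    rw [hredsmul, hπnu, map_sum, map_smul, map_sum]
    congr 1
    refine Finset.sum_congr rfl fun s _ => ?_
    rw [hredsmul, hR', hrh, map_smul, hπ, cast_teich hN]
  have hredp : red hN Ep = toM ep := hredE fun s => ψ s⁻¹
  have hredm : red hN Em = 0 := by
    rw [hEm, hredE fun s => ψ s, ← hem, hem0, map_zero]
  have hidem : ∀ f : S → ZMod q, (∀ s t, f (s * t) = f s * f t) → ∀ g : S → ZMod q,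
      (∀ s, f s * g s = 1) →
      ∀ E, E = ((nu⁻¹ : (ZMod (q ^ N))ˣ) : ZMod (q ^ N)) • ∑ s : S, teich N (g s) • R (s : H) →
      E * E = E := by
    intro f hf g hfg E hE
    have hg : ∀ s t, g (s * t) = g s * g t := fun s t => by
      have h1 : f (s * t) * g (s * t) = f (s * t) * (g s * g t) := by
        rw [hfg, hf, mul_mul_mul_comm, hfg, hfg, one_mul]
      exact mul_left_cancel₀ (fun h0 => by simpa [h0] using hfg (s * t)) h1
    have hgf : ∀ s, teich N (f s) * teich N (g s) = 1 := fun s => by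
      rw [← teich_mul hN, hfg, teich_one hN]
    have key : ∀ t : S, teich N (g t) • R (t : H) * (∑ s : S, teich N (g s) • R (s : H)) =
        ∑ s : S, teich N (g s) • R (s : H) := by
      intro t
      rw [Finset.mul_sum]
      conv_rhs => rw [← Equiv.sum_comp (Equiv.mulLeft t) fun s : S => teich N (g s) • R (s : H)]
      refine Finset.sum_congr rfl fun s _ => ?_
      simp only [Equiv.coe_mulLeft, smul_mul_assoc, mul_smul_comm, smul_smul, hg, teich_mul hN,
        Subgroup.coe_mul, map_mul]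
      rw [mul_comm (teich N (g s))]
    rw [hE, smul_mul_assoc, mul_smul_comm, Finset.sum_mul, Finset.sum_congr rfl fun t _ => key t,
      Finset.sum_const, Finset.card_univ, ← Nat.cast_smul_eq_nsmul (ZMod (q ^ N)), smul_smul,
      smul_smul, mul_assoc, ← hnu, Units.inv_mul, mul_one]
  have hψ' : ∀ s t : S, ψ (s * t)⁻¹ = ψ s⁻¹ * ψ t⁻¹ := fun s t => by
    rw [mul_inv_rev, hψmul, mul_comm]
  have hEp2 : Ep * Ep = Ep := hidem (fun s => ψ s) hψmul (fun s => ψ s⁻¹)
    (fun s => by rw [mul_comm, hψinv]) Ep hEp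
  have hEm2 : Em * Em = Em := hidem (fun s => ψ s⁻¹) hψ' (fun s => ψ s) hψinv Em hEm
  have hEm0 := idem_eq_zero_of_red hN hEm2 hredm
  have htr : Ep.trace = 0 := by
    have hsym : ∀ h : H, (R h).trace = (R h⁻¹).trace := by
      intro h
      have hk : (orderOf h - 1).Coprime (orderOf h) := by
        have := orderOf_pos h
        rw [Nat.coprime_comm]
        exact (Nat.coprime_self_sub_right (by omega)).mpr (Nat.coprime_one_right _)
      obtain ⟨c, hc⟩ := hR.exists_conj h hk
      have hinv : h⁻¹ = c * h * c⁻¹ := by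
        rw [hc]
        refine inv_eq_of_mul_eq_one_left ?_
        rw [← pow_succ, Nat.sub_add_cancel (orderOf_pos h), pow_orderOf_eq_one]
      rw [hinv, map_mul, map_mul, Matrix.trace_mul_comm, ← mul_assoc, ← map_mul, inv_mul_cancel,
        map_one, one_mul]
    have h1 : Ep.trace = Em.trace := by
      rw [hEp, hEm, Matrix.trace_smul, Matrix.trace_smul, Matrix.trace_sum, Matrix.trace_sum]
      congr 1
      rw [← Equiv.sum_comp (Equiv.inv S) fun s : S => (teich N (ψ s⁻¹) • R (s : H)).trace]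
      refine Finset.sum_congr rfl fun s _ => ?_
      rw [Equiv.inv_apply, inv_inv, Subgroup.coe_inv, Matrix.trace_smul, Matrix.trace_smul, ← hsym]
    rw [h1, hEm0, Matrix.trace_zero]
  -- the standard idempotent
  set D : Matrix _ _ (ZMod (q ^ N)) := Matrix.diagonal
    (Sum.elim (fun _ : Fin (Module.finrank (ZMod q) (LinearMap.range ep)) => (1 : ZMod (q ^ N)))
      (fun _ : Fin (Module.finrank (ZMod q) (LinearMap.ker ep)) => 0)) with hD
  have hredD : red hN D = toM ep := by
    refine Matrix.ext fun i j => ?_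
    rw [show toM ep i j = b.repr (ep (b j)) i from LinearMap.toMatrixAlgEquiv_apply b ep i j]
    have hbj : ep (b j) = (Sum.elim (fun _ => (1 : ZMod q)) (fun _ => 0) j) • b j := by
      rcases j with j | j
      · have hm : b (Sum.inl j) ∈ LinearMap.range ep := by simp [b]
        obtain ⟨y, hy⟩ := hm
        rw [← hy, hepidem]
        simp
      · have hm : b (Sum.inr j) ∈ LinearMap.ker ep := by simp [b]
        rw [LinearMap.mem_ker.mp hm]
        simp
    rw [hbj, map_smul, Finsupp.smul_apply, b.repr_self, smul_eq_mul]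
    show π (D i j) = _
    rcases eq_or_ne i j with rfl | hij
    · rcases i with i | i <;> simp [hD]
    · rw [hD, Matrix.diagonal_apply_ne _ hij, map_zero, Finsupp.single_eq_of_ne hij, mul_zero]
  have hDD : D * D = D := by
    rw [hD, Matrix.diagonal_mul_diagonal]
    congr 1
    funext i
    rcases i with i | i <;> simp
  set W := Ep * D + (1 - Ep) * (1 - D) with hW
  have hWred : red hN W = 1 := by
    rw [hW, map_add, map_mul, map_mul, map_sub, map_sub, map_one, hredp, hredD, ← map_mul,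
      show ep * ep = ep from LinearMap.ext hepidem, sub_mul, one_mul, mul_sub, mul_one, ← map_mul,
      show ep * ep = ep from LinearMap.ext hepidem]
    abel
  have hWu : IsUnit W := (isUnit_pow_iff (pow_ne_zero _ hq.out.ne_zero)).mp
    ((pow_card_eq_one_of_red hN hWred).symm ▸ isUnit_one)
  obtain ⟨Wu, hWu'⟩ := hWu
  have hEW : Ep * W = W * D := by
    have l : Ep * W = Ep * D := by
      rw [hW, mul_add, ← mul_assoc, hEp2, ← mul_assoc, mul_sub Ep, mul_one, hEp2, sub_self, zero_mul, add_zero]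
    have rr : W * D = Ep * D := by
      rw [hW, add_mul, mul_assoc, hDD, mul_assoc (1 - Ep), sub_mul 1 D, one_mul, hDD, sub_self, mul_zero,
        add_zero]
    rw [l, rr]
  have htD : D.trace = ((Module.finrank (ZMod q) (LinearMap.range ep) : ℕ) : ZMod (q ^ N)) := by
    simp [hD, Matrix.trace_diagonal]
  have htE : Ep.trace = D.trace := by
    have h1 : Ep = (Wu : Matrix _ _ (ZMod (q ^ N))) * D * ((Wu⁻¹ : (Matrix _ _ (ZMod (q ^ N)))ˣ) : Matrix _ _ (ZMod (q ^ N))) := by
      rw [hWu', ← hEW, ← hWu', mul_assoc, Units.mul_inv, mul_one]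
    rw [h1, Matrix.trace_units_conj]
  rw [htE, htD, ZMod.natCast_eq_zero_iff] at htr
  have h0 : Module.finrank (ZMod q) (LinearMap.range ep) = 0 := by
    refine Nat.eq_zero_of_dvd_of_lt htr ?_
    have h1 := Submodule.finrank_le (LinearMap.range ep)
    have h2 : N < q ^ N := Nat.lt_pow_self hq.out.one_lt
    omega
  rw [Submodule.finrank_eq_zero] at h0
  exact hu (hepu.symm.trans ((Submodule.mem_bot (ZMod q)).mp (h0 ▸ ⟨u, rfl⟩)))

end CfsgLib.S3Conj.Gow
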